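import Mathlib
import Cfsg.Agent.Lib.Helper24.SylowInv
import Cfsg.Agent.Lib.Helper24.Glauberman
import Cfsg.Agent.Lib.Helper31.GenRank
import Cfsg.Agent.Lib.Helper33.Conj

set_option autoImplicit false

/-!
# Abstract Thompson transitivity

The extremal argument behind the Thompson transitivity theorem, in a form that covers
the `p`-constrained version, the odd order version and the signalizer functor version.
-/

namespace Cfsg.Agent.Lib.Helper23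

open Subgroup Cfsg.Agent.Lib.Helper33 Cfsg.Agent.Lib.Helper24

universe u

variable {G : Type u} [Group G]

/-- `Q` is a maximal member of the family `F`. -/
def IsMaxIn (F : Set (Subgroup G)) (Q : Subgroup G) : Prop :=
  Q ∈ F ∧ ∀ R ∈ F, Q ≤ R → R = Q

theorem exists_isMaxIn_ge [Finite G] (F : Set (Subgroup G)) {Y : Subgroup G} (hY : Y ∈ F) :
    ∃ Q, IsMaxIn F Q ∧ Y ≤ Q := by
  obtain ⟨Q, hYQ, hQ⟩ := (Set.toFinite F).exists_le_maximal hY
  exact ⟨Q, ⟨hQ.1, fun R hR hQR => le_antisymm (hQ.2 hR hQR) hQR⟩, hYQ⟩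

theorem IsMaxIn.conj {F : Set (Subgroup G)} {C : Subgroup G}
    (hconj : ∀ Y ∈ F, ∀ c ∈ C, cj c Y ∈ F) {Q : Subgroup G} (hQ : IsMaxIn F Q) {c : G}
    (hc : c ∈ C) : IsMaxIn F (cj c Q) := by
  refine ⟨hconj Q hQ.1 c hc, fun R hR hle => ?_⟩
  have h1 : Q ≤ cj c⁻¹ R := by rwa [← cj_le_iff]
  have h2 := hQ.2 _ (hconj R hR c⁻¹ (C.inv_mem hc)) h1
  rw [← h2, cj_cj_inv]

/-- The extremal argument. -/
theorem extremal [Finite G] (F : Set (Subgroup G)) (C : Subgroup G)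
    (hconj : ∀ Y ∈ F, ∀ c ∈ C, cj c Y ∈ F)
    (hloc : ∀ Q₁ Q₂, IsMaxIn F Q₁ → IsMaxIn F Q₂ → Q₁ ≠ Q₂ →
      ∃ S₁ S₂ : Subgroup G, S₁ ∈ F ∧ S₂ ∈ F ∧ ∃ c ∈ C, S₂ = cj c S₁ ∧
        Nat.card (Q₁ ⊓ Q₂ : Subgroup G) < Nat.card (S₁ ⊓ Q₁ : Subgroup G) ∧
        Nat.card (Q₁ ⊓ Q₂ : Subgroup G) < Nat.card (S₂ ⊓ Q₂ : Subgroup G)) :
    ∀ Q₁ Q₂, IsMaxIn F Q₁ → IsMaxIn F Q₂ → ∃ c ∈ C, Q₂ = cj c Q₁ := by
  have key : ∀ n : ℕ, ∀ Q₁ Q₂, IsMaxIn F Q₁ → IsMaxIn F Q₂ →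
      Nat.card G - Nat.card (Q₁ ⊓ Q₂ : Subgroup G) = n → ∃ c ∈ C, Q₂ = cj c Q₁ := by
    intro n
    induction n using Nat.strong_induction_on with
    | _ n ih =>
    intro Q₁ Q₂ h₁ h₂ hn
    by_cases hne : Q₁ = Q₂
    · exact ⟨1, C.one_mem, by rw [cj_one, hne]⟩
    obtain ⟨S₁, S₂, hS₁, hS₂, c, hc, hS, hlt₁, hlt₂⟩ := hloc Q₁ Q₂ h₁ h₂ hne
    obtain ⟨Q₁', hQ₁', hS₁Q⟩ := exists_isMaxIn_ge F hS₁
    obtain ⟨Q₂', hQ₂', hS₂Q⟩ := exists_isMaxIn_ge F hS₂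
    have hcardG : ∀ H : Subgroup G, Nat.card H ≤ Nat.card G := fun H => H.card_le_card_group
    -- first link
    have hl1 : Nat.card (Q₁ ⊓ Q₂ : Subgroup G) < Nat.card (Q₁ ⊓ Q₁' : Subgroup G) :=
      lt_of_lt_of_le hlt₁ (card_le_of_le (le_inf inf_le_right (inf_le_left.trans hS₁Q)))
    obtain ⟨c₁, hc₁, e₁⟩ := ih _ (by have := hcardG (Q₁ ⊓ Q₁'); omega) Q₁ Q₁' h₁ hQ₁' rfl
    -- second link
    have hQ₁'' : IsMaxIn F (cj c Q₁') := hQ₁'.conj hconj hc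
    have hS₂' : S₂ ≤ cj c Q₁' := by rw [hS]; exact cj_mono hS₁Q
    have hl2 : Nat.card (Q₁ ⊓ Q₂ : Subgroup G) < Nat.card (cj c Q₁' ⊓ Q₂' : Subgroup G) :=
      lt_of_lt_of_le hlt₂ (card_le_of_le (le_inf (inf_le_left.trans hS₂') (inf_le_left.trans hS₂Q)))
    obtain ⟨c₂, hc₂, e₂⟩ := ih _ (by have := hcardG (cj c Q₁' ⊓ Q₂'); omega) _ Q₂' hQ₁'' hQ₂' rfl
    -- third link
    have hl3 : Nat.card (Q₁ ⊓ Q₂ : Subgroup G) < Nat.card (Q₂' ⊓ Q₂ : Subgroup G) :=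
      lt_of_lt_of_le hlt₂ (card_le_of_le (le_inf (inf_le_left.trans hS₂Q) inf_le_right))
    obtain ⟨c₃, hc₃, e₃⟩ := ih _ (by have := hcardG (Q₂' ⊓ Q₂); omega) Q₂' Q₂ hQ₂' h₂ rfl
    refine ⟨c₃ * c₂ * c * c₁, C.mul_mem (C.mul_mem (C.mul_mem hc₃ hc₂) hc) hc₁, ?_⟩
    rw [cj_mul, cj_mul, cj_mul, ← e₁, ← e₂, ← e₃]
  intro Q₁ Q₂ h₁ h₂
  exact key _ Q₁ Q₂ h₁ h₂ rfl

section small

theorem le_normalizer_inf' {A H K : Subgroup G} (hH : A ≤ normalizer (H : Set G))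
    (hK : A ≤ normalizer (K : Set G)) : A ≤ normalizer ((H ⊓ K : Subgroup G) : Set G) := by
  intro a ha
  rw [← cj_eq_self_iff, cj_inf, cj_eq_self_iff.mpr (hH ha), cj_eq_self_iff.mpr (hK ha)]

theorem le_normalizer_sup' {A H K : Subgroup G} (hH : A ≤ normalizer (H : Set G))
    (hK : A ≤ normalizer (K : Set G)) : A ≤ normalizer ((H ⊔ K : Subgroup G) : Set G) := by
  intro a ha
  rw [← cj_eq_self_iff, cj_sup, cj_eq_self_iff.mpr (hH ha), cj_eq_self_iff.mpr (hK ha)]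

theorem le_normalizer_normalizer' {A H : Subgroup G} (hH : A ≤ normalizer (H : Set G)) :
    A ≤ normalizer ((normalizer (H : Set G) : Subgroup G) : Set G) := by
  intro a ha
  rw [← cj_eq_self_iff, ← normalizer_cj, cj_eq_self_iff.mpr (hH ha)]

theorem le_normalizer_centralizer' {A H : Subgroup G} (hH : A ≤ normalizer (H : Set G)) :
    A ≤ normalizer ((centralizer (H : Set G) : Subgroup G) : Set G) := by
  intro a ha
  rw [← cj_eq_self_iff, ← centralizer_cj, cj_eq_self_iff.mpr (hH ha)]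

theorem le_normalizer_centralizer_singleton {A : Subgroup G} {a : G}
    (h : ∀ b ∈ A, a * b = b * a) :
    A ≤ normalizer ((centralizer ({a} : Set G) : Subgroup G) : Set G) := by
  intro b hb
  have hb' : b⁻¹ * a * b = a := by rw [mul_assoc, h b hb, ← mul_assoc, inv_mul_cancel, one_mul]
  have hb'' : b * a * b⁻¹ = a := by rw [← h b hb, mul_inv_cancel_right]
  rw [mem_normalizer_iff]
  intro x
  simp only [mem_centralizer_singleton_iff]
  constructor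
  · intro hx
    calc b * x * b⁻¹ * a = b * (x * (b⁻¹ * a * b)) * b⁻¹ := by group
      _ = b * ((b⁻¹ * a * b) * x) * b⁻¹ := by rw [hb', hx]
      _ = a * (b * x * b⁻¹) := by group
  · intro hx
    have h1 : b * x * b⁻¹ * a = a * (b * x * b⁻¹) := hx
    calc x * a = b⁻¹ * ((b * x * b⁻¹) * (b * a * b⁻¹)) * b := by group
      _ = b⁻¹ * ((b * a * b⁻¹) * (b * x * b⁻¹)) * b := by rw [hb'', h1]
      _ = a * x := by group

theorem card_lt_of_lt' [Finite G] {H K : Subgroup G} (h : H < K) : Nat.card H < Nat.card K := by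
  by_contra hcon
  push Not at hcon
  exact h.ne (eq_of_le_of_card_ge h.le hcon)

/-- `|H K|` divides `|H| |K|` when `H` normalises `K`. -/
theorem card_sup_dvd_of_le_normalizer [Finite G] (H K : Subgroup G)
    (h : H ≤ normalizer (K : Set G)) :
    Nat.card (H ⊔ K : Subgroup G) ∣ Nat.card H * Nat.card K := by
  have h1 := relIndex_sup_right_of_le_normalizer H K h
  have h2 : K.relIndex (H ⊔ K) * Nat.card K = Nat.card (H ⊔ K : Subgroup G) :=
    relIndex_mul_card' le_sup_right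
  rw [← h2, h1]
  exact Nat.mul_dvd_mul_right (relIndex_dvd_card K H) _

/-- In a `q`-group `Q`, a proper subgroup `D` is properly contained in `N_Q(D)`. -/
theorem lt_inf_normalizer_of_lt [Finite G] {q : ℕ} [Fact q.Prime] {D Q : Subgroup G}
    (hQ : IsPGroup q Q) (hDQ : D < Q) : D < Q ⊓ normalizer (D : Set G) := by
  have hnil : Group.IsNilpotent Q := hQ.isNilpotent
  have hnc := Group.normalizerCondition_of_isNilpotent (G := Q)
  have hlt : D.subgroupOf Q < ⊤ := by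
    rw [lt_top_iff_ne_top, Ne, subgroupOf_eq_top]
    exact not_le_of_gt hDQ
  have h1 := hnc _ hlt
  rw [← subgroupOf_normalizer_eq hDQ.le] at h1
  refine lt_of_le_of_ne (le_inf hDQ.le le_normalizer) ?_
  intro heq
  obtain ⟨x, hx, hxn⟩ := SetLike.exists_of_lt h1
  apply hxn
  rw [mem_subgroupOf] at hx ⊢
  rw [heq]
  exact ⟨x.2, hx⟩

end small

end Cfsg.Agent.Lib.Helper23
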