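import Cfsg.Prelude.Def_OddOrderLocal

set_option autoImplicit false

namespace Cfsg.Agent.Lib.Helper23

open Cfsg

theorem card_isComplIn {G : Type*} [Group G] {A B C : Subgroup G} (h : IsComplIn A B C) :
    Nat.card A * Nat.card B = Nat.card C := by
  obtain ⟨hA, hB, hd, hp⟩ := h
  rw [← Nat.card_prod]
  apply Nat.card_congr
  refine Equiv.ofBijective (fun ab : A × B => (⟨ab.1.1 * ab.2.1, mul_mem (hA ab.1.2) (hB ab.2.2)⟩ : C)) ⟨?_, ?_⟩
  · rintro ⟨⟨a, ha⟩, ⟨b, hb⟩⟩ ⟨⟨a', ha'⟩, ⟨b', hb'⟩⟩ heq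
    simp only [Subtype.mk.injEq] at heq
    have h1 : a'⁻¹ * a = b' * b⁻¹ := by
      have : a = a' * b' * b⁻¹ := by rw [← heq]; group
      rw [this]; group
    have h2 : a'⁻¹ * a ∈ A ⊓ B := ⟨A.mul_mem (A.inv_mem ha') ha, h1 ▸ B.mul_mem hb' (B.inv_mem hb)⟩
    rw [hd, Subgroup.mem_bot] at h2
    have h3 : a = a' := by
      have := congrArg (fun t => a' * t) h2
      simpa using this
    subst h3
    have h4 : b = b' := by simpa using heq
    subst h4
    rfl
  · rintro ⟨c, hc⟩
    obtain ⟨a, ha, b, hb, rfl⟩ := hp c hc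
    exact ⟨⟨⟨a, ha⟩, ⟨b, hb⟩⟩, rfl⟩

theorem hall_sup {M : Type*} [Group M] [Finite M] {N₁ N₂ : Subgroup M} [N₁.Normal]
    (h₁ : (Nat.card N₁).Coprime N₁.index) (h₂ : (Nat.card N₂).Coprime N₂.index) :
    (Nat.card ↥(N₁ ⊔ N₂)).Coprime (N₁ ⊔ N₂).index := by
  have hdvd : Nat.card ↥(N₁ ⊔ N₂) ∣ Nat.card N₁ * Nat.card N₂ := by
    have e1 : Nat.card ↥(N₁ ⊔ N₂) = Nat.card N₁ * N₁.relIndex (N₁ ⊔ N₂) := by
      have := Subgroup.relIndex_mul_relIndex (⊥ : Subgroup M) N₁ (N₁ ⊔ N₂) bot_le le_sup_left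
      rw [Subgroup.relIndex_bot_left, Subgroup.relIndex_bot_left] at this
      exact this.symm
    rw [e1, Subgroup.relIndex_sup_left]
    exact Nat.mul_dvd_mul_left _ (Subgroup.relIndex_dvd_card _ _)
  have hi1 : (N₁ ⊔ N₂).index ∣ N₁.index := Subgroup.index_dvd_of_le le_sup_left
  have hi2 : (N₁ ⊔ N₂).index ∣ N₂.index := Subgroup.index_dvd_of_le le_sup_right
  apply Nat.Coprime.coprime_dvd_left hdvd
  exact Nat.Coprime.mul_left (h₁.coprime_dvd_right hi1) (h₂.coprime_dvd_right hi2)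

theorem fittingHall_coprime (M : Type*) [Group M] [Finite M] :
    (Nat.card (fittingHall M)).Coprime (fittingHall M).index := by
  classical
  have hfin : Set.Finite {N : Subgroup M | N.Normal ∧ Group.IsNilpotent N ∧ (Nat.card N).Coprime N.index} :=
    Set.toFinite _
  have key : ∀ s : Finset (Subgroup M), (∀ N ∈ s, N.Normal ∧ (Nat.card N).Coprime N.index) →
      (s.sup id).Normal ∧ (Nat.card ↥(s.sup id)).Coprime (s.sup id).index := by
    intro s
    induction s using Finset.induction_on with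
    | empty =>
      intro _
      simp only [Finset.sup_empty]
      exact ⟨inferInstance, by simp⟩
    | insert a s _ ih =>
      intro h
      have ha := h a (Finset.mem_insert_self a s)
      have hs := ih (fun N hN => h N (Finset.mem_insert_of_mem hN))
      rw [Finset.sup_insert]
      simp only [id]
      have := ha.1
      have := hs.1
      exact ⟨inferInstance, hall_sup ha.2 hs.2⟩
  have := key hfin.toFinset (fun N hN => by
    rw [Set.Finite.mem_toFinset] at hN
    exact ⟨hN.1, hN.2.2⟩)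
  have e : hfin.toFinset.sup id = fittingHall M := by
    rw [Finset.sup_id_eq_sSup]
    simp [fittingHall]
  rw [e] at this
  exact this.2

theorem mem_centralizer_of_mul_mem {G : Type*} [Group G] [Finite G] (H U : Subgroup G)
    (hcop : (Nat.card H).Coprime (Nat.card U)) (h u : G) (hh : h ∈ H) (hu : u ∈ U)
    (hc : h * u ∈ Subgroup.centralizer (H : Set G)) :
    h ∈ Subgroup.centralizer (H : Set G) := by
  have hconj : ∀ x ∈ H, u * x * u⁻¹ = h⁻¹ * x * h := by
    intro x hx
    have := (Subgroup.mem_centralizer_iff.mp hc) x hx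
    have e : x = h * u * x * u⁻¹ * h⁻¹ := by
      calc x = x * (h * u) * (h * u)⁻¹ := by group
        _ = (h * u) * x * (h * u)⁻¹ := by rw [this]
        _ = h * u * x * u⁻¹ * h⁻¹ := by group
    calc u * x * u⁻¹ = h⁻¹ * (h * u * x * u⁻¹ * h⁻¹) * h := by group
      _ = h⁻¹ * x * h := by rw [← e]
  have hpow : ∀ k : ℕ, ∀ x ∈ H, u ^ k * x * (u ^ k)⁻¹ = (h ^ k)⁻¹ * x * h ^ k := by
    intro k
    induction k with
    | zero => intro x _; simp
    | succ k ih =>
      intro x hx
      have hx' : h⁻¹ * x * h ∈ H := H.mul_mem (H.mul_mem (H.inv_mem hh) hx) hh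
      calc u ^ (k + 1) * x * (u ^ (k + 1))⁻¹ = u ^ k * (u * x * u⁻¹) * (u ^ k)⁻¹ := by
            rw [pow_succ]; group
        _ = u ^ k * (h⁻¹ * x * h) * (u ^ k)⁻¹ := by rw [hconj x hx]
        _ = (h ^ k)⁻¹ * (h⁻¹ * x * h) * h ^ k := ih _ hx'
        _ = (h ^ (k + 1))⁻¹ * x * h ^ (k + 1) := by rw [pow_succ]; group
  have hu1 : u ^ Nat.card U = 1 :=
    orderOf_dvd_iff_pow_eq_one.mp (U.orderOf_dvd_natCard hu)
  have hk : h ^ Nat.card U ∈ Subgroup.centralizer (H : Set G) := by
    rw [Subgroup.mem_centralizer_iff]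
    intro x hx
    have := hpow (Nat.card U) x hx
    rw [hu1] at this
    simp only [one_mul, inv_one, mul_one] at this
    calc x * h ^ Nat.card U = h ^ Nat.card U * ((h ^ Nat.card U)⁻¹ * x * h ^ Nat.card U) := by group
      _ = h ^ Nat.card U * x := by rw [← this]
  have hco : (Nat.card U).Coprime (orderOf h) :=
    (hcop.coprime_dvd_left (H.orderOf_dvd_natCard hh)).symm
  obtain ⟨m, hm⟩ := exists_pow_eq_self_of_coprime hco
  rw [← hm]
  exact Subgroup.pow_mem _ hk m

theorem card_fittingHallOf {G : Type*} [Group G] (M : Subgroup G) :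
    Nat.card (fittingHallOf M) = Nat.card (fittingHall M) :=
  Subgroup.card_subtype M (fittingHall M)

theorem fittingHallOf_le {G : Type*} [Group G] (M : Subgroup G) : fittingHallOf M ≤ M := by
  intro x hx
  obtain ⟨y, _, rfl⟩ := Subgroup.mem_map.mp hx
  exact y.2

theorem coprime_card_of_compl {G : Type*} [Group G] [Finite G] (M U D : Subgroup G) (hD : D ≤ M)
    (h : IsComplIn (fittingHallOf M) U D) :
    (Nat.card (fittingHallOf M)).Coprime (Nat.card U) := by
  have h1 := card_isComplIn h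
  have h2 : Nat.card D ∣ Nat.card M := Subgroup.card_dvd_of_le hD
  have h3 := (fittingHall M).card_mul_index
  have h4 := fittingHall_coprime M
  rw [card_fittingHallOf] at h1 ⊢
  have hpos : 0 < Nat.card (fittingHall M) := Nat.card_pos
  have h5 : Nat.card U ∣ (fittingHall M).index := by
    apply Nat.dvd_of_mul_dvd_mul_left hpos
    rw [h1, h3]
    exact h2
  exact h4.coprime_dvd_right h5

end Cfsg.Agent.Lib.Helper23
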