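import Cfsg.Agent.Lib.Helper23.AlphaA
import Cfsg.Agent.Lib.Helper63.BG10
import Cfsg.Agent.Lib.Helper33.TransBasic

set_option autoImplicit false
set_option linter.style.haveILetI false
set_option linter.unusedSectionVars false

/-!
# The subgroup `M_α` (Bender–Glauberman, Theorem 10.2 (a)–(c))

Everything is proved from the statement of the Uniqueness Theorem (`BG10.UniqStmt G`) and the fusion
statement of Theorem 10.1(a) (`SigmaFusion M`).
-/

namespace Cfsg.Agent.Lib.Helper23

open Subgroup Cfsg Cfsg.Agent.Lib.Helper33 Cfsg.Agent.Lib.Helper24 Cfsg.Agent.Lib.Helper32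
open Cfsg.Agent.Lib.Helper63

universe u

variable {G : Type u} [Group G] [Finite G]

/-- The conclusion of B&G Theorem 10.1(a) for the maximal subgroup `M`. -/
def SigmaFusion (M : Subgroup G) : Prop :=
  ∀ (p : ℕ) [Fact p.Prime], p ∈ sigma M → ∀ X : Subgroup G, IsPGroup p X → X ≠ ⊥ → X ≤ M →
    ∀ g : G, X.map (MulAut.conj g).toMonoidHom ≤ M →
      ∃ m ∈ M, ∃ c ∈ centralizer (X : Set G), g = m * c

/-- For `p ∈ α(M)`, a Sylow `p`-subgroup of `M` has its normalizer in `M`. -/
theorem alpha_sylow_normalizer_le (hG : IsMinSimpleOddOrder G) (hU : BG10.UniqStmt G)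
    {M : Subgroup G} (hM : IsCoatom M) {p : ℕ} [Fact p.Prime] (hp : p ∈ alpha M)
    (P : Sylow p ↥M) :
    normalizer ((((P : Subgroup ↥M).map M.subtype : Subgroup G)) : Set G) ≤ M ∧
      p ∣ Nat.card ↥M := by
  have hpp : p.Prime := Fact.out
  have h1 : ¬ PRankLE p 2 ↥(P : Subgroup ↥M) := fun h => hp.2 (BG10.pRankLE_of_sylow p P h)
  obtain ⟨B, hB, hBc⟩ := BG10.exists_of_not_pRankLE' h1
  obtain ⟨S, hS⟩ : ∃ S, S = ((P : Subgroup ↥M).map M.subtype : Subgroup G) := ⟨_, rfl⟩
  obtain ⟨B', hB'⟩ : ∃ B', B' = (B.map (P : Subgroup ↥M).subtype).map M.subtype := ⟨_, rfl⟩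
  have hB'e : IsElementaryAbelian p B' := by
    rw [hB']
    exact BG10.map_elemAb _ (BG10.map_elemAb _ hB)
  have hB'c : Nat.card B' = Nat.card B := by
    rw [hB', Subgroup.card_map_of_injective M.subtype_injective,
      Subgroup.card_map_of_injective (Subgroup.subtype_injective _)]
  have hB'S : B' ≤ S := by
    rw [hB', hS]
    exact Subgroup.map_mono (Subgroup.map_subtype_le _)
  have hSM : S ≤ M := by rw [hS]; exact Subgroup.map_subtype_le _
  have hStop : S ≠ ⊤ := by
    intro h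
    rw [h] at hSM
    exact hM.1 (top_le_iff.mp hSM)
  have hp2 : p < p ^ 2 := by
    have := hpp.one_lt
    nlinarith
  have hr2 : ¬ RankLE 2 ↥S := BG10.not_rankLE_two_of_elemAb hB'e hB'S (by rw [hB'c]; exact hBc)
  have hr1 : ¬ RankLE 1 ↥S :=
    BG10.not_rankLE_one_of_elemAb hB'e hB'S (by rw [hB'c]; exact hp2.trans hBc)
  have hSbot : S ≠ ⊥ := by
    intro h
    rw [h, le_bot_iff] at hB'S
    rw [hB'S, Subgroup.card_bot] at hB'c
    have : 1 < p ^ 2 := lt_trans hpp.one_lt hp2
    omega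
  have hK := hU S hStop hr1 (Or.inl hr2)
  have hN : normalizer (S : Set G) ≤ M :=
    BG10.le_of_inUniqueMaximal hK hM hSM (BG10.normalizer_ne_top hG hSbot hStop)
      Subgroup.le_normalizer
  refine ⟨hS ▸ hN, ?_⟩
  -- `p ∣ |M|`
  have hPbot : (P : Subgroup ↥M) ≠ ⊥ := by
    intro h
    apply hSbot
    rw [hS, h, Subgroup.map_bot]
  obtain ⟨k, hk⟩ := IsPGroup.iff_card.mp P.isPGroup'
  have hk0 : k ≠ 0 := by
    rintro rfl
    rw [pow_zero] at hk
    exact hPbot (Subgroup.card_eq_one.mp hk)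
  have : p ∣ Nat.card (P : Subgroup ↥M) := by rw [hk]; exact dvd_pow_self p hk0
  exact this.trans (Subgroup.card_subgroup_dvd_card _)

open scoped commutatorElement in
/-- a minimal simple group of odd order is perfect -/
theorem commutator_eq_top_of_minSimple (hG : IsMinSimpleOddOrder G) : commutator G = ⊤ := by
  haveI : IsSimpleGroup G := hG.2.1
  rcases (inferInstance : (commutator G).Normal).eq_bot_or_eq_top with h | h
  · exfalso
    apply hG.2.2.1
    refine ⟨⟨fun a b => ?_⟩⟩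
    have h1 : ⁅a, b⁆ ∈ commutator G := by
      rw [_root_.commutator_def]
      exact Subgroup.commutator_mem_commutator (Subgroup.mem_top _) (Subgroup.mem_top _)
    rw [h, Subgroup.mem_bot] at h1
    exact commutatorElement_eq_one_iff_mul_comm.mp h1
  · exact h

open scoped commutatorElement in
/-- If `N_G(P) ≤ M` for a Sylow `p`-subgroup `P` of `M`, with `p ∈ σ(M)`, then `P ≤ M'`
(focal subgroup theorem and B&G 10.1(a)). -/
theorem sylow_le_commutator_of_sigma (hG : IsMinSimpleOddOrder G) {M : Subgroup G}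
    (hF : SigmaFusion M) {p : ℕ} [Fact p.Prime] (hp : p ∈ sigma M) (P : Sylow p ↥M)
    (hN : normalizer ((((P : Subgroup ↥M).map M.subtype : Subgroup G)) : Set G) ≤ M) :
    (P : Subgroup ↥M) ≤ commutator ↥M := by
  obtain ⟨S, hS⟩ : ∃ S, S = ((P : Subgroup ↥M).map M.subtype : Subgroup G) := ⟨_, rfl⟩
  obtain ⟨hSM, hSp, hSi⟩ := sylow_map_facts M P
  rw [← hS] at hSM hSp hSi hN
  have hSi' : ¬ p ∣ S.index := not_dvd_index_of_normalizer_le hSM hSp hSi hN
  obtain ⟨F, hFdef⟩ : ∃ F, F = (commutator ↥M).map M.subtype := ⟨_, rfl⟩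
  have key : ((hSp.toSylow hSi' : Sylow p G) : Subgroup G) ⊓ ⁅(⊤ : Subgroup G), ⊤⁆ ≤ F := by
    apply focLe_of_goodT
    intro A g hA hAg a ha
    rw [IsPGroup.toSylow_coe] at hA hAg
    by_cases ha1 : a = 1
    · rw [ha1]
      simp only [inv_one, mul_one, inv_mul_cancel]
      exact F.one_mem
    · have haS : a ∈ S := hA ha
      have hgS : g⁻¹ * a * g ∈ S := hAg ⟨a, ha, rfl⟩
      have hX1 : zpowers a ≠ ⊥ := by
        rw [Ne, Subgroup.zpowers_eq_bot]
        exact ha1
      have hXS : zpowers a ≤ S := by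
        rw [Subgroup.zpowers_le]
        exact haS
      have hXp : IsPGroup p (zpowers a) := hSp.to_le hXS
      have hXg : (zpowers a).map (MulAut.conj g⁻¹).toMonoidHom ≤ M := by
        rw [MonoidHom.map_zpowers, Subgroup.zpowers_le]
        have : (MulAut.conj g⁻¹).toMonoidHom a = g⁻¹ * a * g := by
          simp
        rw [this]
        exact hSM hgS
      obtain ⟨m, hm, c, hc, hgmc⟩ := hF p hp (zpowers a) hXp hX1 (hXS.trans hSM) g⁻¹ hXg
      have hca : a * c = c * a :=
        Subgroup.mem_centralizer_iff.mp hc a (Subgroup.mem_zpowers a)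
      have hg : g = c⁻¹ * m⁻¹ := by
        rw [← inv_inv g, hgmc, mul_inv_rev]
      have e : a⁻¹ * (g⁻¹ * a * g) = ⁅a⁻¹, m⁆ := by
        rw [hgmc, hg, commutatorElement_def]
        have : m * c * a * (c⁻¹ * m⁻¹) = m * (c * a) * c⁻¹ * m⁻¹ := by group
        rw [inv_inv, this, ← hca]
        group
      rw [e, hFdef]
      have haM : a⁻¹ ∈ M := M.inv_mem (hSM haS)
      refine ⟨⁅(⟨a⁻¹, haM⟩ : ↥M), ⟨m, hm⟩⁆, ?_, ?_⟩
      · rw [SetLike.mem_coe, _root_.commutator_def]
        exact Subgroup.commutator_mem_commutator (Subgroup.mem_top _) (Subgroup.mem_top _)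
      · simp [commutatorElement_def]
  rw [IsPGroup.toSylow_coe, ← _root_.commutator_def, commutator_eq_top_of_minSimple hG,
    inf_top_eq, hS, hFdef] at key
  exact (Subgroup.map_le_map_iff_of_injective M.subtype_injective).mp key

section quot

variable {H : Type u} [Group H] [Finite H]

/-- ranks for primes outside `π` do not grow in `H / O_π(H)` -/
theorem pRankLE_quotient_piCore {π : Set ℕ} {q k : ℕ} [Fact q.Prime] (hq : q ∉ π)
    (h : PRankLE q k H) : PRankLE q k (H ⧸ piCore π H) := by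
  have hqp : q.Prime := Fact.out
  apply pRankLE_of_surjective_coprime_ker (QuotientGroup.mk' (piCore π H))
    (QuotientGroup.mk'_surjective _) _ h
  rw [QuotientGroup.ker_mk', Nat.coprime_comm, hqp.coprime_iff_not_dvd]
  exact fun hd => hq (Cfsg.Agent.Lib.Helper62.isPi_piCore π q hqp hd)

/-- if `H` has `q`-rank at most two for all primes `q` outside `π`, then every `O_r(H / O_π(H))`
has rank at most two -/
theorem pRankLE_pCore_quotient_piCore {π : Set ℕ} (hπ : ∀ q : ℕ, q.Prime → q ∉ π → PRankLE q 2 H)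
    (r : ℕ) (hr : r.Prime) : PRankLE r 2 ↥(pCore r (H ⧸ piCore π H)) := by
  haveI : Fact r.Prime := ⟨hr⟩
  by_cases hrπ : r ∈ π
  · have h1 : pCore r (H ⧸ piCore π H) = ⊥ :=
      pCore_eq_bot_of_piCore_eq_bot hrπ (Cfsg.Agent.Lib.Helper62.piCore_quotient_piCore π)
    intro A _ _
    have h2 : Nat.card ↥(pCore r (H ⧸ piCore π H)) = 1 := by rw [h1, Subgroup.card_bot]
    have h3 : Nat.card A ∣ Nat.card ↥(pCore r (H ⧸ piCore π H)) := Subgroup.card_subgroup_dvd_card A
    rw [h2, Nat.dvd_one] at h3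
    rw [h3]
    exact Nat.one_le_pow _ _ hr.pos
  · exact BG10.pRankLE_of_injective (Subgroup.subtype _) (Subgroup.subtype_injective _)
      (pRankLE_quotient_piCore hrπ (hπ r hr hrπ))

/-- a `p`-subgroup of `H'`, `p ∈ π`, lies in `O_π(H)` if `H` has `q`-rank at most two for all
primes `q` outside `π` -/
theorem le_piCore_of_le_commutator [Group.IsSolvable H] (hodd : Odd (Nat.card H)) {π : Set ℕ}
    (hπ : ∀ q : ℕ, q.Prime → q ∉ π → PRankLE q 2 H) {p : ℕ} [Fact p.Prime] (hp : p ∈ π)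
    {P : Subgroup H} (hP : IsPGroup p P) (hPc : P ≤ commutator H) : P ≤ piCore π H := by
  intro x hx
  have hodd' : Odd (Nat.card (H ⧸ piCore π H)) :=
    Odd.of_dvd_nat hodd (Subgroup.card_quotient_dvd_card _)
  have h1 : pCore p (H ⧸ piCore π H) = ⊥ :=
    pCore_eq_bot_of_piCore_eq_bot hp (Cfsg.Agent.Lib.Helper62.piCore_quotient_piCore π)
  obtain ⟨k, hk⟩ := hP ⟨x, hx⟩
  have hk' : x ^ (p ^ k) = 1 := by simpa using congrArg Subtype.val hk
  have h2 : (QuotientGroup.mk' (piCore π H)) x ∈ commutator (H ⧸ piCore π H) := by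
    have := Subgroup.mem_map_of_mem (QuotientGroup.mk' (piCore π H)) (hPc hx)
    rw [_root_.commutator_def, Subgroup.map_commutator,
      Subgroup.map_top_of_surjective _ (QuotientGroup.mk'_surjective _)] at this
    rw [_root_.commutator_def]
    exact this
  have h3 : ((QuotientGroup.mk' (piCore π H)) x) ^ (p ^ k) = 1 := by
    rw [← map_pow, hk', map_one]
  have h4 := eq_one_of_mem_commutator_of_pCore_eq_bot hodd'
    (pRankLE_pCore_quotient_piCore hπ) h1 h2 h3
  rw [QuotientGroup.mk'_apply, QuotientGroup.eq_one_iff] at h4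
  exact h4

/-- the image of `H'` in `H / O_π(H)` is nilpotent -/
theorem isNilpotent_map_commutator [Group.IsSolvable H] (hodd : Odd (Nat.card H)) {π : Set ℕ}
    (hπ : ∀ q : ℕ, q.Prime → q ∉ π → PRankLE q 2 H) :
    Group.IsNilpotent ↥((commutator H).map (QuotientGroup.mk' (piCore π H))) := by
  have hodd' : Odd (Nat.card (H ⧸ piCore π H)) :=
    Odd.of_dvd_nat hodd (Subgroup.card_quotient_dvd_card _)
  have h1 : (commutator H).map (QuotientGroup.mk' (piCore π H)) = commutator (H ⧸ piCore π H) := by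
    rw [_root_.commutator_def, Subgroup.map_commutator,
      Subgroup.map_top_of_surjective _ (QuotientGroup.mk'_surjective _), _root_.commutator_def]
  rw [h1]
  exact Cfsg.Agent.Lib.Helper78.isNilpotent_of_le
    (commutator_le_fittingSubgroup_of_ranks hodd' (pRankLE_pCore_quotient_piCore hπ))
    Cfsg.Agent.Lib.Helper22.fittingSubgroup_isNilpotent

/-- `H / O_π(H)` has rank at most two, if `O_π(H)` is a Hall subgroup -/
theorem rankLE_quotient_piCore {π : Set ℕ}
    (hπ : ∀ q : ℕ, q.Prime → q ∉ π → PRankLE q 2 H)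
    (hHall : ∀ q : ℕ, q.Prime → q ∈ π → ¬ q ∣ (piCore π H).index) :
    RankLE 2 (H ⧸ piCore π H) := by
  intro q hq
  haveI : Fact q.Prime := ⟨hq⟩
  by_cases hqπ : q ∈ π
  · intro A _ hA
    have hAp : IsPGroup q A := fun a => ⟨1, by
      rw [pow_one]
      exact Subtype.ext (by simpa using hA a a.2)⟩
    obtain ⟨k, hk⟩ := IsPGroup.iff_card.mp hAp
    have h1 : Nat.card A ∣ (piCore π H).index := by
      rw [Subgroup.index_eq_card]
      exact Subgroup.card_subgroup_dvd_card A
    rcases Nat.eq_zero_or_pos k with rfl | hkpos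
    · rw [hk, pow_zero]
      exact Nat.one_le_pow _ _ hq.pos
    · exfalso
      apply hHall q hq hqπ
      refine dvd_trans ?_ h1
      rw [hk]
      exact dvd_pow_self q hkpos.ne'
  · exact pRankLE_quotient_piCore hqπ (hπ q hq hqπ)

end quot

/-- `α(M) ⊆ σ(M)` -/
theorem alpha_subset_sigma (hG : IsMinSimpleOddOrder G) (hU : BG10.UniqStmt G)
    {M : Subgroup G} (hM : IsCoatom M) : alpha M ⊆ sigma M := by
  intro p hp
  haveI : Fact p.Prime := ⟨hp.1⟩
  obtain ⟨P⟩ : Nonempty (Sylow p ↥M) := inferInstance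
  obtain ⟨hN, hd⟩ := alpha_sylow_normalizer_le hG hU hM hp P
  exact ⟨hp.1, hd, P, hN⟩

/-- B&G Theorem 10.2(a)–(c), from the Uniqueness Theorem and Theorem 10.1(a). -/
theorem alphaCore_hall (hG : IsMinSimpleOddOrder G) (hU : BG10.UniqStmt G)
    {M : Subgroup G} (hM : IsCoatom M) (hF : SigmaFusion M) :
    IsPiHallOf (alpha M) (alphaCore M) M ∧ IsPiHall (alpha M) (alphaCore M) ∧
      alphaCore M ≤ sigmaCore M ∧ RankLE 2 (↥M ⧸ piCore (alpha M) ↥M) ∧
      Group.IsNilpotent ↥((commutator ↥M).map (QuotientGroup.mk' (piCore (alpha M) ↥M))) := by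
  haveI : Group.IsSolvable ↥M := isSolvable_of_ne_top hG hM.1
  have hodd : Odd (Nat.card ↥M) := odd_card_subgroup hG M
  have hπ : ∀ q : ℕ, q.Prime → q ∉ alpha M → PRankLE q 2 ↥M := by
    intro q hq hqα
    by_contra h
    exact hqα ⟨hq, h⟩
  have hασ := alpha_subset_sigma hG hU hM
  -- Sylow subgroups for primes in `α(M)` lie in `O_α(M)`
  have hSyl : ∀ p : ℕ, p.Prime → p ∈ alpha M →
      ¬ p ∣ (piCore (alpha M) ↥M).index ∧ ¬ p ∣ M.index := by
    intro p hpp hp
    haveI : Fact p.Prime := ⟨hpp⟩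
    obtain ⟨P⟩ : Nonempty (Sylow p ↥M) := inferInstance
    obtain ⟨hN, -⟩ := alpha_sylow_normalizer_le hG hU hM hp P
    have h1 : (P : Subgroup ↥M) ≤ piCore (alpha M) ↥M :=
      le_piCore_of_le_commutator hodd hπ hp P.isPGroup'
        (sylow_le_commutator_of_sigma hG hF (hασ hp) P hN)
    obtain ⟨hSM, hSp, hSi⟩ := sylow_map_facts M P
    have h2 := not_dvd_index_of_normalizer_le hSM hSp hSi hN
    exact ⟨fun hd => P.not_dvd_index (hd.trans (Subgroup.index_dvd_of_le h1)),
      fun hd => h2 (hd.trans (Subgroup.index_dvd_of_le hSM))⟩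
  have hcard : Nat.card ↥(alphaCore M) = Nat.card ↥(piCore (alpha M) ↥M) := by
    rw [alphaCore, Subgroup.card_map_of_injective M.subtype_injective]
  have hrel : (alphaCore M).relIndex M = (piCore (alpha M) ↥M).index := by
    rw [alphaCore, Subgroup.relIndex, Subgroup.subgroupOf,
      Subgroup.comap_map_eq_self_of_injective M.subtype_injective]
  have hle : alphaCore M ≤ M := Subgroup.map_subtype_le _
  have hpi : ∀ p : ℕ, p.Prime → p ∣ Nat.card ↥(alphaCore M) → p ∈ alpha M := by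
    intro p hpp hd
    rw [hcard] at hd
    exact Cfsg.Agent.Lib.Helper62.isPi_piCore (alpha M) p hpp hd
  refine ⟨⟨hle, hpi, ?_⟩, ⟨hpi, ?_⟩, ?_, ?_, ?_⟩
  · intro p hpp hp
    rw [hrel]
    exact (hSyl p hpp hp).1
  · intro p hpp hp hd
    rw [← Subgroup.relIndex_mul_index hle, hrel] at hd
    rcases (Nat.Prime.dvd_mul hpp).mp hd with h | h
    · exact (hSyl p hpp hp).1 h
    · exact (hSyl p hpp hp).2 h
  · apply Subgroup.map_mono
    apply Cfsg.Agent.Lib.Helper62.le_piCore inferInstance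
    intro p hpp hd
    exact hασ (Cfsg.Agent.Lib.Helper62.isPi_piCore (alpha M) p hpp hd)
  · exact rankLE_quotient_piCore hπ (fun q hq hqα => (hSyl q hq hqα).1)
  · exact isNilpotent_map_commutator hodd hπ

end Cfsg.Agent.Lib.Helper23
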