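import Cfsg.Agent.Lib.Helper23.FitUniqueA

set_option autoImplicit false
set_option linter.style.haveILetI false
set_option linter.unusedSectionVars false

/-!
# Maximal subgroups of a minimal simple group of odd order containing a subgroup `M` of `F(H)`

Standing hypotheses (`FitUCtx`): `G` minimal simple of odd order, `H` maximal, `F = F(H)` involves at
least two primes, `Z(F) ≤ M ≤ F` and every `M`-invariant `π(F)'`-subgroup of `G` is trivial.
-/

namespace Cfsg.Agent.Lib.Helper23

open Subgroup Cfsg Cfsg.Agent.Lib.Helper33 Cfsg.Agent.Lib.Helper24 Cfsg.Agent.Lib.Helper32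

universe u

section minsimple

variable {G : Type u} [Group G] [Finite G]

theorem isSolvable_of_ne_top (hG : IsMinSimpleOddOrder G) {S : Subgroup G} (hS : S ≠ ⊤) :
    Group.IsSolvable ↥S := hG.2.2.2 S hS

theorem odd_card_subgroup (hG : IsMinSimpleOddOrder G) (S : Subgroup G) : Odd (Nat.card ↥S) :=
  Odd.of_dvd_nat hG.1 (Subgroup.card_subgroup_dvd_card S)

theorem ne_two_of_dvd_card_subgroup (hG : IsMinSimpleOddOrder G) {S : Subgroup G} {p : ℕ}
    (h : p ∣ Nat.card ↥S) : p ≠ 2 := by
  rintro rfl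
  have := odd_card_subgroup hG S
  rw [← Nat.not_even_iff_odd] at this
  exact this (even_iff_two_dvd.mpr h)

/-- a nontrivial subgroup normalized by the maximal subgroup `K` and contained in it has normalizer
`K` -/
theorem normalizer_eq_of_isCoatom (hG : IsMinSimpleOddOrder G) {K A : Subgroup G}
    (hK : IsCoatom K) (hA0 : A ≠ ⊥) (hAK : A ≤ K) (hKA : K ≤ normalizer (A : Set G)) :
    normalizer (A : Set G) = K := by
  haveI := hG.2.1
  have hA1 : A ≠ ⊤ := by
    rintro rfl
    exact hK.1 (top_le_iff.mp hAK)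
  have hN := normalizer_ne_top_of_simple hA0 hA1
  by_contra hne
  exact hN (hK.2 _ (lt_of_le_of_ne hKA (Ne.symm hne)))

theorem zPart_le_self (q : ℕ) [Fact q.Prime] (K : Subgroup G) : zPart q K ≤ K :=
  (zPart_le_fittingOf q K).trans (fittingOf_le K)

/-- `C_G(Z_q(K)) ≤ K` for a maximal subgroup `K` and a prime `q` dividing `|F(K)|` -/
theorem centralizer_zPart_le_of_isCoatom (hG : IsMinSimpleOddOrder G) {K : Subgroup G}
    (hK : IsCoatom K) {q : ℕ} [Fact q.Prime] (hq : q ∣ Nat.card (fittingOf K)) :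
    centralizer ((zPart q K : Subgroup G) : Set G) ≤ K :=
  (centralizer_le_normalizer _).trans
    (normalizer_eq_of_isCoatom hG hK (zPart_ne_bot hq) (zPart_le_self q K)
      (le_normalizer_zPart q K)).le

/-- **Goldschmidt's lemma, maximal subgroup form.** Let `K` be maximal, `q ∣ |F(K)|`, `S` a proper
subgroup containing `Z_q(K)` and `U ⊴ K` a `q'`-subgroup. Then `U ∩ S ≤ O_{q'}(S)`. -/
theorem gold (hG : IsMinSimpleOddOrder G) {K S U : Subgroup G} (hK : IsCoatom K) {q : ℕ}
    [Fact q.Prime] (hq : q ∣ Nat.card (fittingOf K)) (hS : S ≠ ⊤) (hZS : zPart q K ≤ S)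
    (hUK : U ≤ K) (hKU : K ≤ normalizer (U : Set G)) (hUq : (Nat.card U).Coprime q) :
    U ⊓ S ≤ pPrimeCoreOf q S := by
  have hCZ := centralizer_zPart_le_of_isCoatom hG hK hq
  have hUZ : U ≤ centralizer ((zPart q K : Subgroup G) : Set G) := by
    apply le_centralizer_of_normalize_of_inf_eq_bot
    · exact hUK.trans (le_normalizer_zPart q K)
    · exact (zPart_le_self q K).trans hKU
    · apply Disjoint.eq_bot
      apply Subgroup.disjoint_of_coprime_natCard
      obtain ⟨k, hk⟩ := IsPGroup.iff_card.mp (isPGroup_zPart q K)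
      rw [hk]
      exact Nat.Coprime.pow_right k hUq
  have hcop : (Nat.card ↥(U ⊓ S : Subgroup G)).Coprime q :=
    Nat.Coprime.coprime_dvd_left (Subgroup.card_dvd_of_le inf_le_left) hUq
  have hnorm : S ⊓ centralizer ((zPart q K : Subgroup G) : Set G) ≤
      normalizer ((U ⊓ S : Subgroup G) : Set G) := by
    apply le_normalizer_inf'
    · exact (inf_le_right.trans hCZ).trans hKU
    · exact inf_le_left.trans le_normalizer
  exact le_map_pPrimeCore_of_normalized (isSolvable_of_ne_top hG hS) q hZS (isPGroup_zPart q K)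
    inf_le_right hcop (inf_le_left.trans hUZ) hnorm

end minsimple

/-- the standing hypotheses -/
structure FitUCtx {G : Type u} [Group G] (H M : Subgroup G) : Prop where
  hG : IsMinSimpleOddOrder G
  hH : IsCoatom H
  hF2 : 2 ≤ (Nat.card (fittingOf H)).primeFactors.card
  hM : M ≤ fittingOf H
  hZM : fittingOf H ⊓ centralizer (fittingOf H : Set G) ≤ M
  hinv : ∀ Y ∈ invSubgroups ⊤ M (primesNotDvd (Nat.card (fittingOf H))), Y = ⊥

namespace FitUCtx

variable {G : Type u} [Group G] [Finite G] {H M : Subgroup G} (c : FitUCtx H M)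
include c

theorem zPart_le_M (r : ℕ) [Fact r.Prime] : zPart r H ≤ M := by
  intro x hx
  exact c.hZM ⟨zPart_le_fittingOf r H hx, hx.2⟩

theorem M_le_H : M ≤ H := c.hM.trans (fittingOf_le H)

theorem exists_prime_ne' (p : ℕ) :
    ∃ r : ℕ, r.Prime ∧ r ∣ Nat.card (fittingOf H) ∧ r ≠ p := by
  have h1 : 1 < (Nat.card (fittingOf H)).primeFactors.card := c.hF2
  by_cases hp : p ∈ (Nat.card (fittingOf H)).primeFactors
  · obtain ⟨r, hr, hne⟩ := Finset.exists_mem_ne h1 p
    exact ⟨r, Nat.prime_of_mem_primeFactors hr, Nat.dvd_of_mem_primeFactors hr, hne⟩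
  · obtain ⟨r, hr⟩ := Finset.card_pos.mp
      (by omega : 0 < (Nat.card (fittingOf H)).primeFactors.card)
    refine ⟨r, Nat.prime_of_mem_primeFactors hr, Nat.dvd_of_mem_primeFactors hr, ?_⟩
    rintro rfl
    exact hp hr

/-- an `M`-invariant subgroup all of whose prime divisors avoid `|F(H)|` is trivial -/
theorem eq_bot_of_invariant {Y : Subgroup G} (hMY : M ≤ normalizer (Y : Set G))
    (hY : ∀ d : ℕ, d.Prime → d ∣ Nat.card Y → ¬ d ∣ Nat.card (fittingOf H)) : Y = ⊥ :=
  c.hinv Y ⟨le_top, fun d hd hdY => ⟨hd, hY d hd hdY⟩, hMY⟩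

/-- `O_q(S) = 1` for `q ∤ |F(H)|` and `S ≥ M` -/
theorem pCoreOf_eq_bot {S : Subgroup G} (hMS : M ≤ S) {q : ℕ} [Fact q.Prime]
    (hq : ¬ q ∣ Nat.card (fittingOf H)) : pCoreOf q S = ⊥ := by
  apply c.eq_bot_of_invariant (hMS.trans (le_normalizer_pCoreOf q S))
  intro d hd hdd
  obtain ⟨k, hk⟩ := IsPGroup.iff_card.mp (isPGroup_pCoreOf q S)
  rw [hk] at hdd
  have : d = q := (Nat.prime_dvd_prime_iff_eq hd Fact.out).mp (hd.dvd_of_dvd_pow hdd)
  rw [this]
  exact hq

/-- `O_p(S) ≤ H` for every proper `S ≥ M` -/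
theorem pCoreOf_le_H {S : Subgroup G} (hS : S ≠ ⊤) (hMS : M ≤ S) (p : ℕ) [Fact p.Prime] :
    pCoreOf p S ≤ H := by
  by_cases hp : p ∣ Nat.card (fittingOf H)
  · obtain ⟨r, hrp, hr, hne⟩ := c.exists_prime_ne' p
    haveI : Fact r.Prime := ⟨hrp⟩
    have hZr : zPart r H ≤ pPrimeCoreOf p S := by
      have h1 := gold c.hG c.hH hp hS ((c.zPart_le_M p).trans hMS) (zPart_le_self r H)
        (le_normalizer_zPart r H) (U := zPart r H) (by
          obtain ⟨k, hk⟩ := IsPGroup.iff_card.mp (isPGroup_zPart r H)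
          rw [hk]
          exact Nat.Coprime.pow_left k ((Nat.coprime_primes hrp Fact.out).mpr hne))
      exact (le_inf le_rfl ((c.zPart_le_M r).trans hMS)).trans h1
    have h2 : pCoreOf p S ≤ centralizer ((zPart r H : Subgroup G) : Set G) := by
      rw [le_centralizer_iff]
      exact hZr.trans (pPrimeCoreOf_le_centralizer_pCoreOf p S)
    exact h2.trans (centralizer_zPart_le_of_isCoatom c.hG c.hH hr)
  · rw [c.pCoreOf_eq_bot hMS hp]
    exact bot_le

/-- `F(S) ≤ H` for every proper `S ≥ M` -/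
theorem fittingOf_le_H {S : Subgroup G} (hS : S ≠ ⊤) (hMS : M ≤ S) : fittingOf S ≤ H :=
  fittingOf_le_of_pCoreOf_le (fun p _ => c.pCoreOf_le_H hS hMS p)

/-- every prime dividing `|F(L)|` divides `|F(H)|`, for `L ≥ M` -/
theorem dvd_card_fittingOf_H {L : Subgroup G} (hML : M ≤ L) {q : ℕ} [Fact q.Prime]
    (hq : q ∣ Nat.card (fittingOf L)) : q ∣ Nat.card (fittingOf H) := by
  by_contra hcon
  exact pCoreOf_ne_bot_of_dvd hq (c.pCoreOf_eq_bot hML hcon)

/-- every prime dividing `|F(H)|` divides `|F(L)|`, for a maximal `L ≥ M` -/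
theorem dvd_card_fittingOf_L {L : Subgroup G} (hL : IsCoatom L) (hML : M ≤ L) {q : ℕ}
    [Fact q.Prime] (hq : q ∣ Nat.card (fittingOf H)) : q ∣ Nat.card (fittingOf L) := by
  by_contra hcon
  have hQ : pCoreOf q L = ⊥ := by
    by_contra hne
    apply hcon
    obtain ⟨k, hk⟩ := IsPGroup.iff_card.mp (isPGroup_pCoreOf q L)
    have hk0 : k ≠ 0 := by
      rintro rfl
      rw [pow_zero] at hk
      exact hne (Subgroup.card_eq_one.mp hk)
    have h1 : q ∣ Nat.card (pCoreOf q L) := by rw [hk]; exact dvd_pow_self q hk0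
    exact h1.trans (Subgroup.card_dvd_of_le (pCoreOf_le_fittingOf q L))
  have hZL : zPart q H ≤ L := (c.zPart_le_M q).trans hML
  -- `Z_q` centralizes every `O_r(L)`
  have hcent : fittingOf L ≤ centralizer ((zPart q H : Subgroup G) : Set G) := by
    apply fittingOf_le_of_pCoreOf_le
    intro r _
    by_cases hrq : r = q
    · subst hrq
      rw [hQ]
      exact bot_le
    · by_cases hr : r ∣ Nat.card (fittingOf H)
      · have h1 := gold c.hG c.hH hr hL.1 ((c.zPart_le_M r).trans hML) (zPart_le_self q H)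
          (le_normalizer_zPart q H) (U := zPart q H) (by
            obtain ⟨k, hk⟩ := IsPGroup.iff_card.mp (isPGroup_zPart q H)
            rw [hk]
            exact Nat.Coprime.pow_left k
              ((Nat.coprime_primes Fact.out Fact.out).mpr (Ne.symm hrq)))
        have h2 : zPart q H ≤ pPrimeCoreOf r L := (le_inf le_rfl hZL).trans h1
        rw [le_centralizer_iff]
        exact h2.trans (pPrimeCoreOf_le_centralizer_pCoreOf r L)
      · rw [c.pCoreOf_eq_bot hML hr]
        exact bot_le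
  have hZF : zPart q H ≤ fittingOf L := by
    have h1 : zPart q H ≤ L ⊓ centralizer (fittingOf L : Set G) ⊓ L :=
      le_inf (le_inf hZL (le_centralizer_iff.mp hcent)) hZL
    exact h1.trans (centralizer_fittingOf_inf_le (isSolvable_of_ne_top c.hG hL.1)
      (inf_le_left.trans le_normalizer))
  have hZ1 : zPart q H = ⊥ := by
    rw [eq_bot_iff, ← hQ]
    intro x hx
    obtain ⟨k, hk⟩ := (isPGroup_zPart q H) ⟨x, hx⟩
    have hk' : x ^ (q ^ k) = 1 := by
      have := congrArg Subtype.val hk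
      simpa using this
    exact mem_pCoreOf_of_mem_fittingOf (hZF hx) hk'
  exact zPart_ne_bot hq hZ1

end FitUCtx

end Cfsg.Agent.Lib.Helper23
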