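import Cfsg.Agent.Lib.Helper23.LargeFitB

set_option autoImplicit false
set_option linter.style.haveILetI false
set_option linter.unusedSectionVars false

/-!
# Maximal subgroups whose Fitting subgroup is a `p`-group: basic facts

* `pPrimeCoreOf_eq_bot_of_isPGroup_fittingOf`: `O_{p'}(M) = 1` when `F(M)` is a `p`-group;
* `not_dvd_index_of_normalizer_le`: a Sylow `p`-subgroup `S` of `M` with `N_G(S) ≤ M` is a Sylow
  `p`-subgroup of `G`;
* `le_pCoreOf_of_abelian_normal`: (`p`-stability) an abelian normal subgroup of a `p`-subgroup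
  containing `O_p(M)` lies in `O_p(M)` (`M` solvable of odd order, `O_{p'}(M) = 1`).
-/

namespace Cfsg.Agent.Lib.Helper23

open Subgroup Cfsg Cfsg.Agent.Lib.Helper33 Cfsg.Agent.Lib.Helper24 Cfsg.Agent.Lib.Helper32
open scoped commutatorElement

universe u

section b

variable {G : Type u} [Group G] [Finite G]

/-- if `F(M)` is a `p`-group it equals `O_p(M)` -/
theorem fittingOf_eq_pCoreOf_of_isPGroup {p : ℕ} [Fact p.Prime] {M : Subgroup G}
    (hF : IsPGroup p ↥(fittingOf M)) : fittingOf M = pCoreOf p M := by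
  apply le_antisymm
  · intro x hx
    obtain ⟨k, hk⟩ := hF ⟨x, hx⟩
    have hk' : x ^ (p ^ k) = 1 := by simpa using congrArg Subtype.val hk
    exact mem_pCoreOf_of_mem_fittingOf hx hk'
  · exact pCoreOf_le_fittingOf p M

/-- `O_{p'}(M) = 1` when `M` is solvable and `F(M)` is a `p`-group -/
theorem pPrimeCoreOf_eq_bot_of_isPGroup_fittingOf {p : ℕ} [Fact p.Prime] {M : Subgroup G}
    (hMs : Group.IsSolvable ↥M) (hF : IsPGroup p ↥(fittingOf M)) : pPrimeCoreOf p M = ⊥ := by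
  have h1 : pPrimeCoreOf p M ≤ centralizer ((fittingOf M : Subgroup G) : Set G) := by
    rw [fittingOf_eq_pCoreOf_of_isPGroup hF]
    exact pPrimeCoreOf_le_centralizer_pCoreOf p M
  have h2 : pPrimeCoreOf p M ≤ fittingOf M := by
    have h3 := centralizer_fittingOf_inf_le (H := M) (S := M) hMs
      (inf_le_left.trans le_normalizer)
    exact le_trans (le_inf (le_inf (pPrimeCoreOf_le p M) h1) (pPrimeCoreOf_le p M)) h3
  have hd : pPrimeCoreOf p M ⊓ fittingOf M = ⊥ := by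
    apply Disjoint.eq_bot
    apply Subgroup.disjoint_of_coprime_natCard
    obtain ⟨k, hk⟩ := IsPGroup.iff_card.mp hF
    rw [hk]
    exact Nat.Coprime.pow_right k (card_pPrimeCoreOf_coprime p M)
  rw [eq_bot_iff, ← hd]
  exact le_inf le_rfl h2

/-- a Sylow `p`-subgroup `S` of `M` with `N_G(S) ≤ M` is a Sylow `p`-subgroup of `G` -/
theorem not_dvd_index_of_normalizer_le {p : ℕ} [Fact p.Prime] {M S : Subgroup G} (hSM : S ≤ M)
    (hS : IsPGroup p S) (hSi : ¬ p ∣ S.relIndex M) (hN : normalizer (S : Set G) ≤ M) :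
    ¬ p ∣ S.index := by
  intro hd
  rw [← Subgroup.relIndex_top_right] at hd
  obtain ⟨x, -, hxN, hxS, hxp⟩ := exists_normalizing_of_dvd_relIndex (le_top : S ≤ ⊤) hS hd
  have h1 : S ⊔ zpowers x ≤ M := sup_le hSM ((zpowers_le).mpr (hN hxN))
  have h2 := sylowIn_max hSi le_sup_left h1 hxp
  apply hxS
  rw [← h2]
  exact (le_sup_right : zpowers x ≤ S ⊔ zpowers x) (mem_zpowers x)

/-- **`p`-stability.** Let `M ≤ G` be solvable of odd order with `O_{p'}(M) = 1` and let `A` be an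
abelian subgroup of `M` normalized by `O_p(M)` and normalizing... more precisely such that
`[O_p(M), A] ≤ A`. Then `A ≤ O_p(M)`. -/
theorem le_pCoreOf_of_abelian_normal {p : ℕ} [Fact p.Prime] (hp2 : p ≠ 2) {M A : Subgroup G}
    (hMs : Group.IsSolvable ↥M) (hodd : Odd (Nat.card ↥M)) (hcore : pPrimeCoreOf p M = ⊥)
    (hAM : A ≤ M) (hAc : IsMulCommutative A) (hN : pCoreOf p M ≤ normalizer (A : Set G)) :
    A ≤ pCoreOf p M := by
  haveI := hMs
  have hcore' : pPrimeCore p ↥M = ⊥ := (pPrimeCore_eq_bot_iff p M).mpr hcore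
  have hps : IsPSolvable p ↥M := Cfsg.Agent.Lib.Helper53.isPSolvable_of_isSolvable p hMs
  have hno : Cfsg.Agent.Lib.Helper35.NoSL p ↥M := Cfsg.Agent.Lib.Helper35.noSL_of_odd hodd
  haveI hVn : (pCore p ↥M).Normal := Cfsg.Agent.Lib.Helper22.pCore_normal' p ↥M
  have hVp : IsPGroup p (pCore p ↥M) := Cfsg.Agent.Lib.Helper22.pCore_isPGroup' p ↥M
  have hcent := Cfsg.Agent.Lib.Helper55.centralizer_pCore_le (G := ↥M) p hcore'
  have hcomm : ∀ x ∈ A, ∀ y ∈ A, x * y = y * x := fun x hx y hy =>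
    congrArg Subtype.val (hAc.is_comm.comm ⟨x, hx⟩ ⟨y, hy⟩)
  intro a ha
  have hq : ∀ v ∈ pCore p ↥M, ⁅(⟨a, hAM ha⟩ : ↥M), ⁅(⟨a, hAM ha⟩ : ↥M), v⁆⁆ = 1 := by
    intro v hv
    have hvN : (v : G) ∈ normalizer (A : Set G) := hN ⟨v, hv, rfl⟩
    have h1 : (v : G) * a⁻¹ * (v : G)⁻¹ ∈ A :=
      (mem_normalizer_iff.mp hvN a⁻¹).mp (A.inv_mem ha)
    have h2 : a * ((v : G) * a⁻¹ * (v : G)⁻¹) ∈ A := A.mul_mem ha h1
    apply Subtype.ext
    have h3 : ((⁅(⟨a, hAM ha⟩ : ↥M), ⁅(⟨a, hAM ha⟩ : ↥M), v⁆⁆ : ↥M) : G) =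
        ⁅a, a * ((v : G) * a⁻¹ * (v : G)⁻¹)⁆ := by
      simp only [commutatorElement_def, Subgroup.coe_mul, Subgroup.coe_inv]
      group
    rw [h3, Subgroup.coe_one, commutatorElement_eq_one_iff_mul_comm]
    exact hcomm a ha _ h2
  obtain ⟨D, hDn, haD, hD⟩ := Cfsg.Agent.Lib.Helper35.PStab.pstable_D hp2 hps hno
    (pCore p ↥M) hVp ⟨a, hAM ha⟩ hq
  have hDp : IsPGroup p D := by
    intro d
    obtain ⟨k, hk⟩ := hD d d.2
    have h1 : (d : ↥M) ^ (p ^ k) ∈ pCore p ↥M := hcent hk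
    obtain ⟨j, hj⟩ := hVp ⟨_, h1⟩
    refine ⟨k + j, ?_⟩
    apply Subtype.ext
    have h2 : ((d : ↥M) ^ (p ^ k)) ^ (p ^ j) = 1 := by simpa using congrArg Subtype.val hj
    rw [Subgroup.coe_pow, Subgroup.coe_one, pow_add, pow_mul]
    exact h2
  have hDle : D ≤ pCore p ↥M := Cfsg.Agent.Lib.Helper22.le_pCore' hDn hDp
  exact ⟨⟨a, hAM ha⟩, hDle haD, rfl⟩

end b

end Cfsg.Agent.Lib.Helper23
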