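import Cfsg.Agent.Lib.Helper23.LargeFitC
import Cfsg.Agent.S1396

set_option autoImplicit false
set_option linter.style.haveILetI false
set_option linter.unusedSectionVars false

/-!
# Maximal subgroups whose Fitting subgroup is a `p`-group: the uniqueness argument
-/

namespace Cfsg.Agent.Lib.Helper23

open Subgroup Cfsg Cfsg.Agent.Lib.Helper33 Cfsg.Agent.Lib.Helper24 Cfsg.Agent.Lib.Helper32

universe u

section gen

variable {G : Type u} [Group G] [Finite G]

/-- an elementary abelian subgroup of order at least `p ^ 3` forces rank at least 3 -/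
theorem not_pRankLE_two_of_elemAb {p : ℕ} [Fact p.Prime] {A₀ Z : Subgroup G} (hA₀Z : A₀ ≤ Z)
    (hc : ∀ x ∈ A₀, ∀ y ∈ A₀, x * y = y * x) (he : ∀ a ∈ A₀, a ^ p = 1)
    (h3 : p ^ 3 ≤ Nat.card A₀) : ¬ PRankLE p 2 ↥Z := by
  have hpp : p.Prime := Fact.out
  intro hrk
  have h1 := hrk (A₀.subgroupOf Z) ?_ ?_
  · rw [Nat.card_congr (Subgroup.subgroupOfEquivOfLe hA₀Z).toEquiv] at h1
    have h2 : p ^ 2 < p ^ 3 := Nat.pow_lt_pow_right hpp.one_lt (by norm_num)
    omega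
  · refine ⟨⟨fun a b => ?_⟩⟩
    apply Subtype.ext
    apply Subtype.ext
    exact hc _ a.2 _ b.2
  · intro a ha
    apply Subtype.ext
    have := he (a : G) ha
    simpa using this

theorem not_rankLE_two_of_not_pRankLE {p : ℕ} [Fact p.Prime] {A Z : Subgroup G} (hAZ : A ≤ Z)
    (h : ¬ PRankLE p 2 ↥A) : ¬ RankLE 2 ↥Z := by
  obtain ⟨A₀, hA₀A, hc, he, hcard⟩ := exists_elemAb_card_cube h
  intro hrk
  exact not_pRankLE_two_of_elemAb (hA₀A.trans hAZ) hc he hcard.ge (hrk p Fact.out)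

theorem pRankLE_mono {p k l : ℕ} (hp : 0 < p) (hkl : k ≤ l) {X : Type*} [Group X]
    (h : PRankLE p k X) : PRankLE p l X :=
  fun B hB hBe => (h B hB hBe).trans (Nat.pow_le_pow_right hp hkl)

/-- `O_p(H)` lies in every Sylow `p`-subgroup of `H` -/
theorem pCoreOf_le_of_sylowIn {p : ℕ} [Fact p.Prime] {H S : Subgroup G} (hSH : S ≤ H)
    (hS : IsPGroup p S) (hSi : ¬ p ∣ S.relIndex H) : pCoreOf p H ≤ S := by
  have h1 : IsPGroup p ↥(S ⊔ pCoreOf p H) :=
    IsPGroup.to_sup_of_normal_right' hS (isPGroup_pCoreOf p H)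
      (hSH.trans (le_normalizer_pCoreOf p H))
  have h2 := sylowIn_max hSi le_sup_left (sup_le hSH (pCoreOf_le p H)) h1
  rw [← h2]
  exact le_sup_right

/-- ZJ-theorem for maximal subgroups: `N_G(Z(J(S))) = H` for a Sylow `p`-subgroup `S ≠ 1` of the
maximal subgroup `H`, if `O_{p'}(H) = 1`. -/
theorem normalizer_centerThompsonAOf_eq (hG : IsMinSimpleOddOrder G) {p : ℕ} [Fact p.Prime]
    (hp2 : p ≠ 2) {H S : Subgroup G} (hH : IsCoatom H) (hcore : pPrimeCoreOf p H = ⊥)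
    (hSH : S ≤ H) (hS : IsPGroup p S) (hSi : ¬ p ∣ S.relIndex H) (hS0 : S ≠ ⊥) :
    normalizer ((centerThompsonAOf S : Subgroup G) : Set G) = H := by
  have hHs : Group.IsSolvable ↥H := isSolvable_of_ne_top hG hH.1
  have h1 := le_normalizer_centerThompsonAOf hp2 hHs (odd_card_subgroup hG H)
    ((pPrimeCore_eq_bot_iff p H).mpr hcore) hSH hS hSi
  exact normalizer_eq_of_isCoatom hG hH (centerThompsonAOf_ne_bot hS hS0)
    ((centerThompsonAOf_le S).trans hSH) h1

theorem normalizer_le_of_sylowIn (hG : IsMinSimpleOddOrder G) {p : ℕ} [Fact p.Prime]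
    (hp2 : p ≠ 2) {H S : Subgroup G} (hH : IsCoatom H) (hcore : pPrimeCoreOf p H = ⊥)
    (hSH : S ≤ H) (hS : IsPGroup p S) (hSi : ¬ p ∣ S.relIndex H) (hS0 : S ≠ ⊥) :
    normalizer (S : Set G) ≤ H := by
  rw [← normalizer_centerThompsonAOf_eq hG hp2 hH hcore hSH hS hSi hS0]
  exact normalizer_le_normalizer_centerThompsonAOf S

end gen

section ctx

variable {G : Type u} [Group G] [Finite G]

/-- context: `M` is a maximal subgroup and `F(M)` is a nontrivial `p`-group -/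
structure PFitCtx (M : Subgroup G) (p : ℕ) : Prop where
  hG : IsMinSimpleOddOrder G
  hM : IsCoatom M
  hF : IsPGroup p ↥(fittingOf M)
  hpF : p ∣ Nat.card (fittingOf M)

namespace PFitCtx

variable {M : Subgroup G} {p : ℕ} [Fact p.Prime] (c : PFitCtx M p)
include c

theorem hp2 : p ≠ 2 := ne_two_of_dvd_card_subgroup c.hG c.hpF

theorem hMs : Group.IsSolvable ↥M := isSolvable_of_ne_top c.hG c.hM.1

theorem hcore : pPrimeCoreOf p M = ⊥ := pPrimeCoreOf_eq_bot_of_isPGroup_fittingOf c.hMs c.hF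

theorem fit_eq : fittingOf M = pCoreOf p M := fittingOf_eq_pCoreOf_of_isPGroup c.hF

theorem fit_ne_bot : fittingOf M ≠ ⊥ := by
  intro h
  have h1 := c.hpF
  rw [h, Subgroup.card_bot] at h1
  exact (Fact.out : p.Prime).one_lt.ne' (Nat.dvd_one.mp h1)

theorem sylow_ne_bot {S : Subgroup G} (hSi : ¬ p ∣ S.relIndex M) : S ≠ ⊥ :=
  sylowIn_ne_bot hSi (fittingOf_le M) c.hF c.fit_ne_bot

theorem normalizer_sylow_le {S : Subgroup G} (hSM : S ≤ M) (hS : IsPGroup p S)
    (hSi : ¬ p ∣ S.relIndex M) : normalizer (S : Set G) ≤ M :=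
  normalizer_le_of_sylowIn c.hG c.hp2 c.hM c.hcore hSM hS hSi (c.sylow_ne_bot hSi)

theorem not_dvd_index {S : Subgroup G} (hSM : S ≤ M) (hS : IsPGroup p S)
    (hSi : ¬ p ∣ S.relIndex M) : ¬ p ∣ S.index :=
  not_dvd_index_of_normalizer_le hSM hS hSi (c.normalizer_sylow_le hSM hS hSi)

theorem fit_le_sylow {S : Subgroup G} (hSM : S ≤ M) (hS : IsPGroup p S)
    (hSi : ¬ p ∣ S.relIndex M) : fittingOf M ≤ S := by
  rw [c.fit_eq]
  exact pCoreOf_le_of_sylowIn hSM hS hSi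

/-- `Z(F(M))` as `zPart` -/
theorem zPart_eq : zPart p M = fittingOf M ⊓ centralizer (fittingOf M : Set G) := by
  unfold zPart
  rw [← c.fit_eq]

theorem centralizer_center_le :
    centralizer ((fittingOf M ⊓ centralizer (fittingOf M : Set G) : Subgroup G) : Set G) ≤ M := by
  rw [← c.zPart_eq]
  exact centralizer_zPart_le_of_isCoatom c.hG c.hM c.hpF

theorem scn_le_centralizer {S A : Subgroup G} (hA : IsSCN S A) :
    A ≤ centralizer (A : Set G) := by
  intro a ha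
  have h : a ∈ S ⊓ centralizer (A : Set G) := by rw [hA.2.2]; exact ha
  exact h.2

omit c in
theorem isMulCommutative_of_le_centralizer {A : Subgroup G} (h : A ≤ centralizer (A : Set G)) :
    IsMulCommutative ↥A := by
  refine ⟨⟨fun a b => ?_⟩⟩
  apply Subtype.ext
  exact (mem_centralizer_iff.mp (h b.2) a a.2)

/-- a self-centralizing normal subgroup of a Sylow `p`-subgroup of `M` lies in `F(M)` -/
theorem scn_le_fit {S A : Subgroup G} (hSM : S ≤ M) (hS : IsPGroup p S)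
    (hSi : ¬ p ∣ S.relIndex M) (hA : IsSCN S A) : A ≤ fittingOf M := by
  rw [c.fit_eq]
  exact le_pCoreOf_of_abelian_normal c.hp2 c.hMs (odd_card_subgroup c.hG M) c.hcore
    (hA.1.trans hSM) (isMulCommutative_of_le_centralizer (c.scn_le_centralizer hA))
    ((pCoreOf_le_of_sylowIn hSM hS hSi).trans hA.2.1)

/-- the only `A`-invariant `p'`-subgroup is trivial, for `A ∈ SCN_3(S)` -/
theorem scn_inv_trivial {S A : Subgroup G} (hSM : S ≤ M) (hS : IsPGroup p S)
    (hSi : ¬ p ∣ S.relIndex M) (hA : IsSCN S A) (hA3 : ¬ PRankLE p 2 ↥A) :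
    ∀ Y ∈ invSubgroups ⊤ A (primesNotDvd (Nat.card A)), Y = ⊥ := by
  have hpp : p.Prime := Fact.out
  haveI := c.hG.2.1
  have hAF : A ≤ fittingOf M := c.scn_le_fit hSM hS hSi hA
  have hAM : A ≤ M := hA.1.trans hSM
  have hAp : IsPGroup p A := hS.to_le hA.1
  have hAc : A ≤ centralizer (A : Set G) := c.scn_le_centralizer hA
  have hAcomm : IsMulCommutative ↥A := isMulCommutative_of_le_centralizer hAc
  have hZA : fittingOf M ⊓ centralizer (fittingOf M : Set G) ≤ A := by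
    rw [← hA.2.2]
    exact le_inf (inf_le_left.trans (c.fit_le_sylow hSM hS hSi))
      (inf_le_right.trans (centralizer_le hAF))
  have hCAM : centralizer (A : Set G) ≤ M := (centralizer_le hZA).trans c.centralizer_center_le
  have hidx : ¬ p ∣ S.index := c.not_dvd_index hSM hS hSi
  have hpG : p ∣ Nat.card G := c.hpF.trans (Subgroup.card_subgroup_dvd_card _)
  have hA1 : ¬ PRankLE p 1 ↥A := fun h => hA3 (pRankLE_mono hpp.pos (by norm_num) h)
  have hTrans : TransitivityHypothesis A := by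
    apply Cfsg.Agent.S1396.result c.hG p hpG A hAp hAcomm
    refine Or.inr ⟨hS.toSylow hidx, ?_, hA1⟩
    rw [IsPGroup.toSylow_coe]
    exact hA
  have hrank : ¬ RankLE 2 ↥(A ⊓ centralizer (A : Set G)) :=
    not_rankLE_two_of_not_pRankLE (le_inf le_rfl hAc) hA3
  have hA0 : A ≠ ⊥ := hTrans.1
  have hpA : p ∣ Nat.card A := by
    obtain ⟨k, hk⟩ := IsPGroup.iff_card.mp hAp
    have hk0 : k ≠ 0 := by
      rintro rfl
      rw [pow_zero] at hk
      exact hA0 (Subgroup.card_eq_one.mp hk)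
    rw [hk]
    exact dvd_pow_self p hk0
  -- `O_{p'}(C_G(A)) = 1`
  have hKbot : piCoreOf (primesNotDvd (Nat.card A)) (centralizer (A : Set G)) = ⊥ := by
    obtain ⟨K, hK⟩ : ∃ K, K = piCoreOf (primesNotDvd (Nat.card A)) (centralizer (A : Set G)) :=
      ⟨_, rfl⟩
    rw [← hK]
    have hKC : K ≤ centralizer (A : Set G) := hK ▸ piCoreOf_le _ _
    have hKcop : (Nat.card K).Coprime p := by
      apply Nat.Coprime.symm
      rw [Nat.Prime.coprime_iff_not_dvd hpp]
      intro hd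
      have := (hK ▸ isPi_piCoreOf (primesNotDvd (Nat.card A)) (centralizer (A : Set G))) p hpp hd
      exact this.2 hpA
    have hKn : M ⊓ centralizer (A : Set G) ≤ normalizer (K : Set G) :=
      inf_le_right.trans (hK ▸ le_normalizer_piCoreOf _ _)
    have h1 := le_map_pPrimeCore_of_normalized c.hMs p hAM hAp (hKC.trans hCAM) hKcop hKC hKn
    have h2 : (pPrimeCore p ↥M).map M.subtype = ⊥ := c.hcore
    rw [h2] at h1
    exact le_bot_iff.mp h1
  have hprime : ∀ q : ℕ, q.Prime → ¬ q ∣ Nat.card A → ∀ Q : Subgroup G,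
      IsPGroup q Q → A ≤ normalizer (Q : Set G) → Q = ⊥ := by
    intro q hq hqA Q hQ hAQ
    haveI : Fact q.Prime := ⟨hq⟩
    have hconj := Cfsg.Agent.S1393.result c.hG A hTrans hrank q hq hqA
    obtain ⟨Q₀, hQ₀⟩ := exists_uniqMax_of_conj hKbot hconj
    have hQ₀F : UniqMax q (fittingOf M) Q₀ := hQ₀.of_nilpotent (isNilpotent_fittingOf M) hAF
    have hMQ₀ : M ≤ normalizer (Q₀ : Set G) :=
      (le_normalizer_fittingOf M).trans hQ₀F.normalizer_le
    have hqF : ¬ q ∣ Nat.card (fittingOf M) := by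
      intro hd
      obtain ⟨k, hk⟩ := IsPGroup.iff_card.mp c.hF
      rw [hk] at hd
      have hqp : q = p := (Nat.prime_dvd_prime_iff_eq hq hpp).mp (hq.dvd_of_dvd_pow hd)
      exact hqA (hqp ▸ hpA)
    have hQ₀bot : Q₀ = ⊥ := eq_bot_of_coatom_le_normalizer c.hG c.hM hQ₀.pg hqF hMQ₀
    have := hQ₀.max Q hQ hAQ
    rw [hQ₀bot] at this
    exact le_bot_iff.mp this
  have hAs : Group.IsSolvable ↥A := isSolvable_of_ne_top c.hG hTrans.2.1
  exact invSubgroups_eq_bot_of_prime dvd_rfl hAs hprime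

/-- `M` is the only maximal subgroup containing `A ∈ SCN_3(S)` -/
theorem scn_unique {S A : Subgroup G} (hSM : S ≤ M) (hS : IsPGroup p S)
    (hSi : ¬ p ∣ S.relIndex M) (hA : IsSCN S A) (hA3 : ¬ PRankLE p 2 ↥A) :
    ∀ H : Subgroup G, IsCoatom H → A ≤ H → H = M := by
  intro H₀ hH₀ hAH₀
  by_contra hne₀
  have hpp : p.Prime := Fact.out
  haveI := c.hG.2.1
  have hinv := c.scn_inv_trivial hSM hS hSi hA hA3
  have hAp : IsPGroup p A := hS.to_le hA.1
  have hAM : A ≤ M := hA.1.trans hSM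
  have hA0 : A ≠ ⊥ := by
    rintro rfl
    apply hA3
    intro B _ _
    have h1 : Nat.card B ≤ Nat.card (⊥ : Subgroup G) := Subgroup.card_le_card_group B
    rw [Subgroup.card_bot] at h1
    exact h1.trans (Nat.one_le_pow _ _ hpp.pos)
  have hpA : p ∣ Nat.card A := by
    obtain ⟨k, hk⟩ := IsPGroup.iff_card.mp hAp
    have hk0 : k ≠ 0 := by
      rintro rfl
      rw [pow_zero] at hk
      exact hA0 (Subgroup.card_eq_one.mp hk)
    rw [hk]
    exact dvd_pow_self p hk0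
  -- `O_{p'}(H) = 1` for every `H ≥ A`
  have hcoreH : ∀ H : Subgroup G, A ≤ H → pPrimeCoreOf p H = ⊥ := by
    intro H hAH
    apply hinv
    refine ⟨le_top, ?_, hAH.trans (le_normalizer_pPrimeCoreOf p H)⟩
    intro r hr hrd
    refine ⟨hr, fun hrA => ?_⟩
    obtain ⟨k, hk⟩ := IsPGroup.iff_card.mp hAp
    rw [hk] at hrA
    have hrp : r = p := (Nat.prime_dvd_prime_iff_eq hr hpp).mp (hr.dvd_of_dvd_pow hrA)
    have h1 := card_pPrimeCoreOf_coprime p H
    rw [hrp] at hrd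
    have h2 : p ∣ Nat.gcd (Nat.card (pPrimeCoreOf p H)) p := Nat.dvd_gcd hrd dvd_rfl
    rw [h1.gcd_eq_one] at h2
    exact hpp.one_lt.ne' (Nat.dvd_one.mp h2)
  -- extremal pair
  obtain ⟨s, hs⟩ : ∃ s : Set (Subgroup G × Subgroup G), s = {x | IsCoatom x.1 ∧ x.1 ≠ M ∧
      A ≤ x.2 ∧ x.2 ≤ x.1 ∧ x.2 ≤ M ∧ IsPGroup p x.2} := ⟨_, rfl⟩
  have hsne : s.Nonempty := ⟨(H₀, A), by rw [hs]; exact ⟨hH₀, hne₀, le_rfl, hAH₀, hAM, hAp⟩⟩
  obtain ⟨⟨H, T⟩, hHT, hmax'⟩ :=
    Set.exists_max_image s (fun x => Nat.card x.2) (Set.toFinite s) hsne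
  have hmax : ∀ H' T' : Subgroup G, IsCoatom H' → H' ≠ M → A ≤ T' → T' ≤ H' → T' ≤ M →
      IsPGroup p T' → Nat.card T' ≤ Nat.card T := by
    intro H' T' h1 h2 h3 h4 h5 h6
    exact hmax' (H', T') (by rw [hs]; exact ⟨h1, h2, h3, h4, h5, h6⟩)
  rw [hs] at hHT
  obtain ⟨hH, hHM, hAT, hTH, hTM, hT⟩ := hHT
  simp only at hH hHM hAT hTH hTM hT
  have hT0 : T ≠ ⊥ := fun h => hA0 (le_bot_iff.mp (h ▸ hAT))
  have hT1 : T ≠ ⊤ := by
    rintro rfl
    exact c.hM.1 (top_le_iff.mp hTM)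
  -- growth inside a subgroup
  have grow : ∀ X : Subgroup G, T ≤ X → p ∣ T.relIndex X →
      ∃ T' : Subgroup G, T ≤ T' ∧ T' ≤ X ∧ T' ≤ normalizer (T : Set G) ∧ IsPGroup p T' ∧
        Nat.card T < Nat.card T' := by
    intro X hTX hd
    obtain ⟨x, hxX, hxN, hxT, hxp⟩ := exists_normalizing_of_dvd_relIndex hTX hT hd
    exact ⟨T ⊔ zpowers x, le_sup_left, sup_le hTX ((zpowers_le).mpr hxX),
      sup_zpowers_le_normalizer hxN, hxp, card_lt_of_lt' (lt_sup_zpowers hxT)⟩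
  -- Claim 1: `T` is a Sylow `p`-subgroup of `H`
  have hTi : ¬ p ∣ T.relIndex H := by
    intro hd
    obtain ⟨T₁, hTT₁, hT₁H, hT₁N, hT₁p, hlt₁⟩ := grow H hTH hd
    have hN := normalizer_ne_top_of_simple hT0 hT1
    rcases eq_top_or_exists_le_coatom (normalizer (T : Set G)) with h | ⟨L, hL, hNL⟩
    · exact hN h
    by_cases hLM : L = M
    · have := hmax H T₁ hH hHM (hAT.trans hTT₁) hT₁H (hT₁N.trans (hLM ▸ hNL)) hT₁p
      omega
    · by_cases hd2 : p ∣ T.relIndex M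
      · obtain ⟨T₂, hTT₂, hT₂M, hT₂N, hT₂p, hlt₂⟩ := grow M hTM hd2
        have := hmax L T₂ hL hLM (hAT.trans hTT₂) (hT₂N.trans hNL) hT₂M hT₂p
        omega
      · have h1 := c.not_dvd_index hTM hT hd2
        exact h1 (hd.trans (Subgroup.relIndex_dvd_index_of_le hTH))
  -- Claim 2
  have hNH : normalizer ((centerThompsonAOf T : Subgroup G) : Set G) = H :=
    normalizer_centerThompsonAOf_eq c.hG c.hp2 hH (hcoreH H (hAT.trans hTH)) hTH hT hTi hT0
  have hNT : normalizer (T : Set G) ≤ H := by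
    rw [← hNH]
    exact normalizer_le_normalizer_centerThompsonAOf T
  -- Claim 3
  have hTiM : ¬ p ∣ T.relIndex M := by
    intro hd
    obtain ⟨T₂, hTT₂, hT₂M, hT₂N, hT₂p, hlt₂⟩ := grow M hTM hd
    have := hmax H T₂ hH hHM (hAT.trans hTT₂) (hT₂N.trans hNT) hT₂M hT₂p
    omega
  -- Claim 4
  have hNM : normalizer ((centerThompsonAOf T : Subgroup G) : Set G) = M :=
    normalizer_centerThompsonAOf_eq c.hG c.hp2 c.hM c.hcore hTM hT hTiM hT0
  exact hHM (hNH.symm.trans hNM)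

end PFitCtx

end ctx

end Cfsg.Agent.Lib.Helper23
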