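import Cfsg.Agent.Lib.Helper23.TwoLayer
import Cfsg.Agent.Lib.Helper62.Subnormal
import Cfsg.Agent.Lib.Helper91.Components

set_option autoImplicit false

namespace Cfsg.Agent.Lib.Helper23

open Cfsg
open Cfsg.Agent.Lib.Helper33 (cj)

variable {X : Type*} [Group X]

/-! ### `O^{p'}(Y)`: the subgroup generated by the `p`-elements of `Y` -/

/-- `O^{p'}(Y)`: the subgroup generated by the elements of `Y` of `p`-power order. -/
def pUp (p : ℕ) (Y : Subgroup X) : Subgroup X :=
  Subgroup.closure {g : X | g ∈ Y ∧ ∃ n : ℕ, g ^ p ^ n = 1}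

theorem pUp_le (p : ℕ) (Y : Subgroup X) : pUp p Y ≤ Y := by
  unfold pUp
  rw [Subgroup.closure_le]
  intro g hg
  exact hg.1

theorem pUp_mono (p : ℕ) {Y₁ Y₂ : Subgroup X} (h : Y₁ ≤ Y₂) : pUp p Y₁ ≤ pUp p Y₂ := by
  unfold pUp
  apply Subgroup.closure_mono
  intro g hg
  exact ⟨h hg.1, hg.2⟩

theorem mem_pUp_of_pow (p : ℕ) {Y : Subgroup X} {g : X} (hg : g ∈ Y) {n : ℕ} (h : g ^ p ^ n = 1) :
    g ∈ pUp p Y :=
  Subgroup.subset_closure ⟨hg, n, h⟩

theorem pUp_cj_le (p : ℕ) (g : X) (Y : Subgroup X) : cj g (pUp p Y) ≤ pUp p (cj g Y) := by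
  unfold cj pUp
  rw [Subgroup.map_le_iff_le_comap, Subgroup.closure_le]
  intro x hx
  apply Subgroup.subset_closure
  refine ⟨Subgroup.mem_map_of_mem _ hx.1, ?_⟩
  obtain ⟨n, hn⟩ := hx.2
  refine ⟨n, ?_⟩
  rw [← map_pow, hn, map_one]

theorem pUp_cj (p : ℕ) (g : X) (Y : Subgroup X) : pUp p (cj g Y) = cj g (pUp p Y) := by
  apply le_antisymm _ (pUp_cj_le p g Y)
  have := pUp_cj_le p g⁻¹ (cj g Y)
  rw [Cfsg.Agent.Lib.Helper33.cj_inv_cj] at this
  rw [Cfsg.Agent.Lib.Helper33.cj_le_iff, inv_inv] at this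
  exact this

theorem normalizer_le_normalizer_pUp (p : ℕ) (Y : Subgroup X) :
    Subgroup.normalizer (Y : Set X) ≤ Subgroup.normalizer (pUp p Y : Set X) := by
  intro g hg
  rw [← Cfsg.Agent.Lib.Helper33.cj_eq_self_iff] at hg ⊢
  rw [← pUp_cj, hg]

theorem le_normalizer_pUp (p : ℕ) (Y : Subgroup X) : Y ≤ Subgroup.normalizer (pUp p Y : Set X) :=
  Subgroup.le_normalizer.trans (normalizer_le_normalizer_pUp p Y)

theorem pUp_subgroupOf_normal (p : ℕ) (Y : Subgroup X) : ((pUp p Y).subgroupOf Y).Normal :=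
  (Subgroup.normal_subgroupOf_iff_le_normalizer (pUp_le p Y)).mpr (le_normalizer_pUp p Y)

theorem isPGroup_le_pUp (p : ℕ) {P Y : Subgroup X} (hP : IsPGroup p P) (hPY : P ≤ Y) :
    P ≤ pUp p Y := by
  intro g hg
  obtain ⟨n, hn⟩ := hP ⟨g, hg⟩
  have : g ^ p ^ n = 1 := by
    have := congrArg Subtype.val hn
    simpa using this
  exact mem_pUp_of_pow p (hPY hg) this

theorem pUp_isSubnormal (p : ℕ) {Y : Subgroup X} (hY : Y.IsSubnormal) : (pUp p Y).IsSubnormal :=
  Subgroup.IsSubnormal.step _ Y (pUp_le p Y) hY (pUp_subgroupOf_normal p Y)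

theorem pUp_relIndex_coprime [Finite X] (p : ℕ) [hp : Fact p.Prime] (Y : Subgroup X) :
    ((pUp p Y).relIndex Y).Coprime p := by
  obtain ⟨P⟩ : Nonempty (Sylow p ↥Y) := inferInstance
  have hP' : (P : Subgroup ↥Y).map Y.subtype ≤ pUp p Y := by
    apply isPGroup_le_pUp p (P.isPGroup'.map _)
    intro x hx
    obtain ⟨y, _, rfl⟩ := Subgroup.mem_map.mp hx
    exact y.2
  have h1 : (pUp p Y).relIndex Y ∣ ((P : Subgroup ↥Y).map Y.subtype).relIndex Y :=
    Subgroup.relIndex_dvd_of_le_left Y hP'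
  have h2 : ((P : Subgroup ↥Y).map Y.subtype).relIndex Y = (P : Subgroup ↥Y).index := by
    have : ((P : Subgroup ↥Y).map Y.subtype).subgroupOf Y = P :=
      Subgroup.comap_map_eq_self_of_injective Y.subtype_injective _
    rw [Subgroup.relIndex, this]
  rw [h2] at h1
  have h3 : ¬ p ∣ (P : Subgroup ↥Y).index := P.not_dvd_index
  have h4 : ¬ p ∣ (pUp p Y).relIndex Y := fun h => h3 (dvd_trans h h1)
  exact ((Nat.Prime.coprime_iff_not_dvd hp.out).mpr h4).symm

theorem eq_pUp_of_normal_of_coprime [Finite X] (p : ℕ) (Y M : Subgroup X) (hM : M ≤ pUp p Y)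
    (hn : pUp p Y ≤ Subgroup.normalizer (M : Set X)) (hc : (M.relIndex (pUp p Y)).Coprime p) :
    M = pUp p Y := by
  apply le_antisymm hM
  have hnorm : (M.subgroupOf (pUp p Y)).Normal :=
    (Subgroup.normal_subgroupOf_iff_le_normalizer hM).mpr hn
  conv_lhs => unfold pUp
  rw [Subgroup.closure_le]
  rintro g ⟨hgY, n, hgn⟩
  have hgR : g ∈ pUp p Y := mem_pUp_of_pow p hgY hgn
  have h1 : (⟨g, hgR⟩ : ↥(pUp p Y)) ^ (M.subgroupOf (pUp p Y)).index ∈ M.subgroupOf (pUp p Y) :=
    Subgroup.pow_index_mem _ _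
  rw [Subgroup.mem_subgroupOf] at h1
  simp only [Subgroup.coe_pow] at h1
  have h2 : (M.relIndex (pUp p Y)).Coprime (orderOf g) := by
    have : orderOf g ∣ p ^ n := orderOf_dvd_of_pow_eq_one hgn
    exact Nat.Coprime.coprime_dvd_right this (Nat.Coprime.pow_right n hc)
  obtain ⟨j, hj⟩ := exists_pow_eq_self_of_coprime h2
  rw [SetLike.mem_coe, ← hj]
  exact Subgroup.pow_mem _ h1 j

/-! ### subnormal `p'`-subgroups, quasisimple groups -/

theorem subnormal_coprime_le_pPrimeCore [Finite X] (p : ℕ) [hp : Fact p.Prime] {A : Subgroup X}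
    (hA : A.IsSubnormal) (hc : (Nat.card A).Coprime p) : A ≤ pPrimeCore p X := by
  have h1 : A ≤ piCore {q | q ≠ p} X := by
    apply Cfsg.Agent.Lib.Helper62.subnormal_pi_le_piCore _ hA
    intro q hq hqA hqp
    subst hqp
    exact (Nat.Prime.coprime_iff_not_dvd hq).mp hc.symm hqA
  refine h1.trans ?_
  apply sSup_le
  rintro N ⟨hN, hNpi⟩
  apply le_sSup
  refine ⟨hN, ?_⟩
  apply Nat.Coprime.symm
  rw [Nat.Prime.coprime_iff_not_dvd hp.out]
  intro hdvd
  exact hNpi p hp.out hdvd rfl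

/-- a component of `X / O_{p'}(X)` is not a `p'`-group -/
theorem component_not_coprime [Finite X] (p : ℕ) [hp : Fact p.Prime]
    {Kbar : Subgroup (X ⧸ pPrimeCore p X)} (hK : IsComponent Kbar) :
    ¬ (Nat.card Kbar).Coprime p := by
  intro hc
  have h1 := subnormal_coprime_le_pPrimeCore p hK.1 hc
  rw [Cfsg.Agent.Lib.Helper55.pPrimeCore_quotient_eq_bot] at h1
  have h2 := Cfsg.Agent.Lib.Helper21.quasisimple_nontrivial hK.2
  have h3 : Kbar = ⊥ := le_bot_iff.mp h1
  rw [h3] at h2
  exact not_nontrivial _ h2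

/-- a normal subgroup of `p'`-index in a quasisimple group of order divisible by `p` is everything -/
theorem quasisimple_normal_coprime_index {Q : Type*} [Group Q] [Finite Q] (p : ℕ) [hp : Fact p.Prime]
    (hQ : IsQuasisimple Q) (hp' : ¬ (Nat.card Q).Coprime p) (M : Subgroup Q) [hM : M.Normal]
    (hidx : M.index.Coprime p) : M = ⊤ := by
  rcases Cfsg.Agent.Lib.Helper21.quasisimple_subnormal hQ hM.isSubnormal with h | h
  · exact h
  · exfalso
    apply hp'
    have h1 : (Subgroup.center Q).index ∣ M.index := Subgroup.index_dvd_of_le h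
    have h2 : ((Subgroup.center Q).index).Coprime p := Nat.Coprime.coprime_dvd_left h1 hidx
    have h3 := Subgroup.card_commutator_dvd_index_center_pow Q
    have h4 : _root_.commutator Q = ⊤ := hQ.1.commutator_eq_top
    rw [h4, Subgroup.card_top] at h3
    exact Nat.Coprime.coprime_dvd_left h3 (Nat.Coprime.pow_left _ h2)

/-! ### images in `X / O_{p'}(X)` -/

theorem relIndex_sup_dvd_card [Finite X] (Y O : Subgroup X) [O.Normal] :
    Y.relIndex (Y ⊔ O) ∣ Nat.card O := by
  have h1 := Cfsg.Agent.Lib.Helper55.card_sup_dvd_mul Y O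
  have h2 := Cfsg.Agent.Lib.Helper55.card_mul_relIndex_eq (le_sup_left : Y ≤ Y ⊔ O)
  rw [← h2] at h1
  exact Nat.dvd_of_mul_dvd_mul_left Nat.card_pos h1

theorem map_pUp_relIndex_coprime [Finite X] (p : ℕ) [hp : Fact p.Prime] (Y : Subgroup X) :
    (((pUp p Y).map (QuotientGroup.mk' (pPrimeCore p X))).relIndex
      (Y.map (QuotientGroup.mk' (pPrimeCore p X)))).Coprime p := by
  rw [Subgroup.relIndex_map_map, QuotientGroup.ker_mk']
  have h1 : (pUp p Y ⊔ pPrimeCore p X).relIndex (Y ⊔ pPrimeCore p X) ∣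
      (pUp p Y).relIndex (Y ⊔ pPrimeCore p X) :=
    Subgroup.relIndex_dvd_of_le_left _ le_sup_left
  have h2 : (pUp p Y).relIndex (Y ⊔ pPrimeCore p X) =
      (pUp p Y).relIndex Y * Y.relIndex (Y ⊔ pPrimeCore p X) :=
    (Subgroup.relIndex_mul_relIndex _ _ _ (pUp_le p Y) le_sup_left).symm
  rw [h2] at h1
  apply Nat.Coprime.coprime_dvd_left h1
  apply Nat.Coprime.mul_left (pUp_relIndex_coprime p Y)
  exact Nat.Coprime.coprime_dvd_left (relIndex_sup_dvd_card Y _)
    (Cfsg.Agent.Lib.Helper55.pPrimeCore_card_coprime p)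

theorem map_pUp_eq [Finite X] (p : ℕ) [hp : Fact p.Prime] {Y : Subgroup X}
    (hY : IsComponent (Y.map (QuotientGroup.mk' (pPrimeCore p X)))) :
    (pUp p Y).map (QuotientGroup.mk' (pPrimeCore p X)) = Y.map (QuotientGroup.mk' (pPrimeCore p X)) := by
  have hle : (pUp p Y).map (QuotientGroup.mk' (pPrimeCore p X)) ≤
      Y.map (QuotientGroup.mk' (pPrimeCore p X)) := Subgroup.map_mono (pUp_le p Y)
  apply le_antisymm hle
  have hnorm : (((pUp p Y).map (QuotientGroup.mk' (pPrimeCore p X))).subgroupOf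
      (Y.map (QuotientGroup.mk' (pPrimeCore p X)))).Normal := by
    rw [Subgroup.normal_subgroupOf_iff_le_normalizer hle]
    exact (Subgroup.map_mono (le_normalizer_pUp p Y)).trans (Subgroup.le_normalizer_map _)
  have hidx : (((pUp p Y).map (QuotientGroup.mk' (pPrimeCore p X))).subgroupOf
      (Y.map (QuotientGroup.mk' (pPrimeCore p X)))).index.Coprime p :=
    map_pUp_relIndex_coprime p Y
  have := quasisimple_normal_coprime_index p hY.2 (component_not_coprime p hY) _ hidx
  rwa [Subgroup.subgroupOf_eq_top] at this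

/-- `O^{p'}(Y)` has no proper normal subgroup of `p'`-index (subgroup-of-subtype form) -/
theorem pUp_normal_eq_top [Finite X] (p : ℕ) (Y : Subgroup X) (M' : Subgroup ↥(pUp p Y))
    [hM' : M'.Normal] (hc : M'.index.Coprime p) : M' = ⊤ := by
  have hle : M'.map (pUp p Y).subtype ≤ pUp p Y := by
    intro x hx
    obtain ⟨y, _, rfl⟩ := Subgroup.mem_map.mp hx
    exact y.2
  have hsub : (M'.map (pUp p Y).subtype).subgroupOf (pUp p Y) = M' :=
    Subgroup.comap_map_eq_self_of_injective (pUp p Y).subtype_injective _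
  have h1 := eq_pUp_of_normal_of_coprime p Y (M'.map (pUp p Y).subtype) hle
    (by
      rw [← Subgroup.normal_subgroupOf_iff_le_normalizer hle, hsub]
      exact hM')
    (by
      rw [Subgroup.relIndex, hsub]
      exact hc)
  rw [← hsub, h1, Subgroup.subgroupOf_self]

/-- a subnormal subgroup of `O^{p'}(Y)` with the same image modulo `O_{p'}(X)` is all of it -/
theorem eq_pUp_of_subnormal [Finite X] (p : ℕ) [hp : Fact p.Prime] (Y H : Subgroup X)
    (hH : H.IsSubnormal) (hHR : H ≤ pUp p Y)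
    (himg : (pUp p Y).map (QuotientGroup.mk' (pPrimeCore p X)) ≤
      H.map (QuotientGroup.mk' (pPrimeCore p X))) : H = pUp p Y := by
  by_contra hne
  have hH' : (H.subgroupOf (pUp p Y)).IsSubnormal := hH.subgroupOf
  have hH'ne : H.subgroupOf (pUp p Y) ≠ ⊤ := by
    intro h
    rw [Subgroup.subgroupOf_eq_top] at h
    exact hne (le_antisymm hHR h)
  obtain ⟨M', hM'n, hHM', hM'lt⟩ := hH'.exists_normal_and_le_and_lt_top_of_ne hH'ne
  have hN'n : ((pPrimeCore p X).subgroupOf (pUp p Y)).Normal := Subgroup.Normal.subgroupOf inferInstance _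
  have htop : M' ⊔ (pPrimeCore p X).subgroupOf (pUp p Y) = ⊤ := by
    rw [eq_top_iff]
    rintro ⟨r, hr⟩ -
    have h1 : QuotientGroup.mk' (pPrimeCore p X) r ∈ H.map (QuotientGroup.mk' (pPrimeCore p X)) :=
      himg (Subgroup.mem_map_of_mem _ hr)
    obtain ⟨h, hh, hhr⟩ := Subgroup.mem_map.mp h1
    have h2 : h⁻¹ * r ∈ pPrimeCore p X := by
      have := QuotientGroup.eq.mp hhr
      exact this
    have e : (⟨r, hr⟩ : ↥(pUp p Y)) =
        ⟨h, hHR hh⟩ * ⟨h⁻¹ * r, (pUp p Y).mul_mem ((pUp p Y).inv_mem (hHR hh)) hr⟩ := by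
      apply Subtype.ext
      simp
    rw [e]
    apply Subgroup.mul_mem_sup
    · exact hHM' (Subgroup.mem_subgroupOf.mpr hh)
    · exact Subgroup.mem_subgroupOf.mpr h2
  have hidx : M'.index.Coprime p := by
    have h1 : M'.index = M'.relIndex (M' ⊔ (pPrimeCore p X).subgroupOf (pUp p Y)) := by
      rw [htop, Subgroup.relIndex_top_right]
    rw [h1, Subgroup.relIndex_sup_left]
    have h2 : M'.relIndex ((pPrimeCore p X).subgroupOf (pUp p Y)) ∣
        Nat.card ((pPrimeCore p X).subgroupOf (pUp p Y)) := Subgroup.relIndex_dvd_card _ _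
    have h3 : Nat.card ((pPrimeCore p X).subgroupOf (pUp p Y)) ∣ Nat.card (pPrimeCore p X) :=
      Subgroup.card_comap_dvd_of_injective _ _ (pUp p Y).subtype_injective
    exact Nat.Coprime.coprime_dvd_left (h2.trans h3)
      (Cfsg.Agent.Lib.Helper55.pPrimeCore_card_coprime p)
  exact hM'lt.ne (pUp_normal_eq_top p Y M' hidx)

/-! ### `p`-components -/

theorem isPComponent_pUp [Finite X] (p : ℕ) [hp : Fact p.Prime]
    {Kbar : Subgroup (X ⧸ pPrimeCore p X)} (hK : IsComponent Kbar) :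
    IsPComponent p (pUp p (Kbar.comap (QuotientGroup.mk' (pPrimeCore p X)))) ∧
      (pUp p (Kbar.comap (QuotientGroup.mk' (pPrimeCore p X)))).map
        (QuotientGroup.mk' (pPrimeCore p X)) = Kbar := by
  have hY : (Kbar.comap (QuotientGroup.mk' (pPrimeCore p X))).map
      (QuotientGroup.mk' (pPrimeCore p X)) = Kbar :=
    Subgroup.map_comap_eq_self_of_surjective (QuotientGroup.mk'_surjective _) _
  have hYc : IsComponent ((Kbar.comap (QuotientGroup.mk' (pPrimeCore p X))).map
      (QuotientGroup.mk' (pPrimeCore p X))) := by rw [hY]; exact hK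
  have himg := map_pUp_eq p hYc
  rw [hY] at himg
  refine ⟨⟨pUp_isSubnormal p (hK.1.comap _), ?_, ?_⟩, himg⟩
  · rw [himg]; exact hK
  · intro H hH hle heq
    exact eq_pUp_of_subnormal p _ H hH hle (le_of_eq heq.symm)

theorem eq_pUp_of_isPComponent [Finite X] (p : ℕ) [hp : Fact p.Prime] {K : Subgroup X}
    (hK : IsPComponent p K) :
    K = pUp p ((K.map (QuotientGroup.mk' (pPrimeCore p X))).comap
      (QuotientGroup.mk' (pPrimeCore p X))) := by
  have hKY : K ≤ (K.map (QuotientGroup.mk' (pPrimeCore p X))).comap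
      (QuotientGroup.mk' (pPrimeCore p X)) := Subgroup.le_comap_map _ _
  have hY : ((K.map (QuotientGroup.mk' (pPrimeCore p X))).comap
      (QuotientGroup.mk' (pPrimeCore p X))).map (QuotientGroup.mk' (pPrimeCore p X)) =
        K.map (QuotientGroup.mk' (pPrimeCore p X)) :=
    Subgroup.map_comap_eq_self_of_surjective (QuotientGroup.mk'_surjective _) _
  have h1 : pUp p K = K :=
    hK.2.2 (pUp p K) (pUp_isSubnormal p hK.1) (pUp_le p K) (map_pUp_eq p hK.2.1)
  have h2 : K ≤ pUp p ((K.map (QuotientGroup.mk' (pPrimeCore p X))).comap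
      (QuotientGroup.mk' (pPrimeCore p X))) := by
    conv_lhs => rw [← h1]
    exact pUp_mono p hKY
  apply eq_pUp_of_subnormal p _ K hK.1 h2
  exact (Subgroup.map_mono (pUp_le p _)).trans (le_of_eq hY)

/-- a `p`-component is determined by its image in `X / O_{p'}(X)` -/
theorem isPComponent_unique [Finite X] (p : ℕ) [hp : Fact p.Prime] {K₁ K₂ : Subgroup X}
    (h₁ : IsPComponent p K₁) (h₂ : IsPComponent p K₂)
    (h : K₁.map (QuotientGroup.mk' (pPrimeCore p X)) = K₂.map (QuotientGroup.mk' (pPrimeCore p X))) :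
    K₁ = K₂ := by
  rw [eq_pUp_of_isPComponent p h₁, eq_pUp_of_isPComponent p h₂, h]

/-- a `p`-component has no proper normal subgroup of index prime to `p` -/
theorem isPComponent_normal_eq_top [Finite X] (p : ℕ) [hp : Fact p.Prime] {K : Subgroup X}
    (hK : IsPComponent p K) (N : Subgroup ↥K) [hN : N.Normal] (hidx : N.index.Coprime p) : N = ⊤ := by
  have h := eq_pUp_of_isPComponent p hK
  generalize (K.map (QuotientGroup.mk' (pPrimeCore p X))).comap
      (QuotientGroup.mk' (pPrimeCore p X)) = Y at h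
  subst h
  exact pUp_normal_eq_top p Y N hidx

/-! ### normalizers of `p`-components -/

/-- components of a finite group normalize each other -/
theorem component_le_normalizer {G : Type*} [Group G] [Finite G] {L L' : Subgroup G}
    (hL : IsComponent L) (hL' : IsComponent L') : L' ≤ Subgroup.normalizer (L : Set G) := by
  by_cases h : L = L'
  · subst h; exact Subgroup.le_normalizer
  · have hc := Cfsg.Agent.Lib.Helper91.component_commute_of_ne hL hL' h
    intro g hg
    rw [Subgroup.mem_normalizer_iff]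
    intro x
    constructor
    · intro hx
      have : g * x * g⁻¹ = x := by
        rw [← hc x hx g hg]; group
      rw [this]; exact hx
    · intro hx
      have h1 := hc _ hx g hg
      have : x = g * x * g⁻¹ := by
        have h2 : g * x * g⁻¹ * g = g * (g * x * g⁻¹) := h1
        have h3 : g * x = g * (g * x * g⁻¹) := by
          rw [← h2]; group
        exact mul_left_cancel h3
      rw [this]; exact hx

/-- an element whose image normalizes the image of a `p`-component normalizes the `p`-component -/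
theorem cj_eq_of_map_mem_normalizer [Finite X] (p : ℕ) [hp : Fact p.Prime] {K : Subgroup X}
    (hK : IsPComponent p K) (g : X)
    (hg : QuotientGroup.mk' (pPrimeCore p X) g ∈
      Subgroup.normalizer ((K.map (QuotientGroup.mk' (pPrimeCore p X)) : Subgroup _) : Set _)) :
    cj g K = K := by
  apply isPComponent_unique p (isPComponent_cj p g hK) hK
  rw [map_mk'_cj]
  exact Cfsg.Agent.Lib.Helper33.cj_eq_self_iff.mpr hg

theorem isPComponent_le_normalizer [Finite X] (p : ℕ) [hp : Fact p.Prime] {K K₂ : Subgroup X}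
    (hK : IsPComponent p K) (hK₂ : IsPComponent p K₂) :
    K₂ ≤ Subgroup.normalizer (K : Set X) := by
  intro g hg
  rw [← Cfsg.Agent.Lib.Helper33.cj_eq_self_iff]
  apply cj_eq_of_map_mem_normalizer p hK
  exact component_le_normalizer hK.2.1 hK₂.2.1 (Subgroup.mem_map_of_mem _ hg)

theorem pLayer_le_normalizer [Finite X] (p : ℕ) [hp : Fact p.Prime] {K : Subgroup X}
    (hK : IsPComponent p K) : pLayer p X ≤ Subgroup.normalizer (K : Set X) :=
  sSup_le fun _ hK₂ => isPComponent_le_normalizer p hK hK₂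

theorem pPrimeCore_le_normalizer [Finite X] (p : ℕ) [hp : Fact p.Prime] {K : Subgroup X}
    (hK : IsPComponent p K) : pPrimeCore p X ≤ Subgroup.normalizer (K : Set X) := by
  intro g hg
  rw [← Cfsg.Agent.Lib.Helper33.cj_eq_self_iff]
  apply cj_eq_of_map_mem_normalizer p hK
  have : QuotientGroup.mk' (pPrimeCore p X) g = 1 := (QuotientGroup.eq_one_iff g).mpr hg
  rw [this]
  exact Subgroup.one_mem _

end Cfsg.Agent.Lib.Helper23
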