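import Mathlib
import Cfsg.Agent.Lib.Helper32.SignalizerCore
import Cfsg.Agent.Lib.Helper24.PxQ
import Cfsg.Agent.Lib.Helper24.Coprime
import Cfsg.Agent.Lib.Helper11.Quad

set_option autoImplicit false

/-!
# `A`-invariant `p'`-subgroups of `p`-constrained groups: the quadratic case

If `A` is a `p`-subgroup containing every `p`-element of `C_X(A)`, and the `p`-subgroups of `X`
have class at most two, then every `A`-invariant `p'`-subgroup of the `p`-constrained group `X`
lies in `O_{p'}(X)`.  (For odd `p` no class condition is needed: `Helper32.signalizer_le_pPrimeCore`.)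
-/

namespace Cfsg.Agent.Lib.Helper23

open Subgroup Cfsg.Agent.Lib.Helper24 Cfsg.Agent.Lib.Helper32
open scoped commutatorElement

universe u

section core

variable {Y : Type u} [Group Y] [Finite Y] {p : ℕ} [Fact p.Prime]

/-- The stability group of the chain `R ≥ D ≥ 1`. -/
def stabChain (R D : Subgroup Y) : Subgroup Y where
  carrier := {g | g ∈ centralizer (D : Set Y) ∧ ∀ r ∈ R, ⁅r, g⁆ ∈ D}
  one_mem' := by
    refine ⟨one_mem _, fun r _ => ?_⟩
    rw [commutatorElement_one_right]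
    exact D.one_mem
  mul_mem' := by
    rintro g h ⟨hg1, hg2⟩ ⟨hh1, hh2⟩
    refine ⟨mul_mem hg1 hh1, fun r hr => ?_⟩
    have e : ⁅r, g * h⁆ = ⁅r, g⁆ * (g * ⁅r, h⁆ * g⁻¹) := by
      simp only [commutatorElement_def]; group
    have e2 : g * ⁅r, h⁆ * g⁻¹ = ⁅r, h⁆ := by
      have := mem_centralizer_iff.mp hg1 _ (hh2 r hr)
      rw [← this, mul_inv_cancel_right]
    rw [e, e2]
    exact D.mul_mem (hg2 r hr) (hh2 r hr)
  inv_mem' := by
    rintro g ⟨hg1, hg2⟩
    refine ⟨inv_mem hg1, fun r hr => ?_⟩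
    have e : ⁅r, g⁻¹⁆ = g⁻¹ * ⁅r, g⁆⁻¹ * g := by
      simp only [commutatorElement_def]; group
    have hd : ⁅r, g⁆⁻¹ ∈ D := D.inv_mem (hg2 r hr)
    have e2 : g⁻¹ * ⁅r, g⁆⁻¹ * g = ⁅r, g⁆⁻¹ := by
      have := mem_centralizer_iff.mp hg1 _ hd
      rw [mul_assoc, this, ← mul_assoc, inv_mul_cancel, one_mul]
    rw [e, e2]
    exact hd

omit [Finite Y] in
theorem mem_stabChain {R D : Subgroup Y} {g : Y} :
    g ∈ stabChain R D ↔ g ∈ centralizer (D : Set Y) ∧ ∀ r ∈ R, ⁅r, g⁆ ∈ D := Iff.rfl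

/-- The quadratic version of the signalizer core lemma. -/
theorem signalizer_core_quad (R A Q : Subgroup Y) [hRn : R.Normal] (hR : IsPGroup p R)
    (hAp : IsPGroup p A) (hQ : (Nat.card Q).Coprime p) (hAQ : A ≤ normalizer (Q : Set Y))
    (hC : ∀ x ∈ R, x ∈ centralizer (A : Set Y) → x ∈ A)
    (hquad : ∀ r ∈ R, ∀ a ∈ A, ∀ b ∈ A, ⁅⁅r, a⁆, b⁆ = 1) :
    Q ≤ centralizer (R : Set Y) := by
  have hpp : p.Prime := Fact.out
  obtain ⟨D, hD⟩ : ∃ D : Subgroup Y, D = ⁅R, A⁆ := ⟨_, rfl⟩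
  have hDR : D ≤ R := hD ▸ commutator_le_left R A
  have hDA : D ≤ centralizer (A : Set Y) := by
    rw [hD, commutator_le]
    intro r hr a ha
    rw [mem_centralizer_iff]
    intro b hb
    exact ((commutatorElement_eq_one_iff_commute.mp (hquad r hr a ha b hb)).eq).symm
  have hDmemA : ∀ d ∈ D, d ∈ A := fun d hd => hC d (hDR hd) (hDA hd)
  have hQD : ∀ d ∈ D, ∀ x ∈ Q, d * x = x * d := fun d hd x hx =>
    commute_of_mem_inf_normal R A Q hR hQ hAQ (hDmemA d hd) (hDR hd) hx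
  have hAsolv : Group.IsSolvable A := by
    have := hAp.isNilpotent
    infer_instance
  have hRsolv : Group.IsSolvable R := by
    have := hR.isNilpotent
    infer_instance
  have hAcard : ∃ k, Nat.card A = p ^ k := IsPGroup.iff_card.mp hAp
  have hRcard : ∃ k, Nat.card R = p ^ k := IsPGroup.iff_card.mp hR
  have hcopAQ : (Nat.card A).Coprime (Nat.card Q) := by
    obtain ⟨k, hk⟩ := hAcard
    rw [hk]
    exact Nat.Coprime.pow_left k hQ.symm
  have hnR : ∀ H : Subgroup Y, H ≤ normalizer (R : Set Y) := fun H => by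
    rw [normalizer_eq_top]; exact le_top
  -- the part of `Q` centralized by `A`
  have h0 : Q ⊓ centralizer (A : Set Y) ≤ centralizer (R : Set Y) := by
    apply thompson_PxQ A (Q ⊓ centralizer (A : Set Y)) R hAp
      (Nat.Coprime.coprime_dvd_left (card_dvd_of_le inf_le_left) hQ) hR
    · intro a ha
      rw [mem_centralizer_iff]
      intro x hx
      exact (mem_centralizer_iff.mp hx.2 a ha).symm
    · exact hnR A
    · exact hnR _
    · intro z hz
      rw [mem_centralizer_iff]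
      intro x hx
      exact (commute_of_mem_inf_normal R A Q hR hQ hAQ (hC z hz.1 hz.2) hz.1 hx.1).symm
  -- the commutator part
  have hAM : A ≤ stabChain R D := by
    intro a ha
    refine ⟨?_, fun r hr => hD ▸ commutator_mem_commutator hr ha⟩
    rw [mem_centralizer_iff]
    intro d hd
    exact (mem_centralizer_iff.mp (hDA hd) a ha).symm
  have hQ1M : ⁅Q, A⁆ ≤ stabChain R D := by
    rw [commutator_le]
    intro x hx a ha
    have hxa : x * a * x⁻¹ ∈ stabChain R D := by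
      obtain ⟨ha1, ha2⟩ := hAM ha
      refine ⟨?_, fun r hr => ?_⟩
      · rw [mem_centralizer_iff]
        intro d hd
        have e1 : d * x = x * d := hQD d hd x hx
        have e2 : d * a = a * d := mem_centralizer_iff.mp ha1 d hd
        have e3 : d * x⁻¹ = x⁻¹ * d := by
          calc d * x⁻¹ = x⁻¹ * (x * d) * x⁻¹ := by group
            _ = x⁻¹ * (d * x) * x⁻¹ := by rw [e1]
            _ = x⁻¹ * d := by group
        calc d * (x * a * x⁻¹) = (d * x) * a * x⁻¹ := by group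
          _ = x * (d * a) * x⁻¹ := by rw [e1]; group
          _ = x * a * (d * x⁻¹) := by rw [e2]; group
          _ = x * a * x⁻¹ * d := by rw [e3]; group
      · have e : ⁅r, x * a * x⁻¹⁆ = x * ⁅x⁻¹ * r * x⁻¹⁻¹, a⁆ * x⁻¹ := by
          simp only [commutatorElement_def]; group
        have hr' : x⁻¹ * r * x⁻¹⁻¹ ∈ R := hRn.conj_mem r hr x⁻¹
        have hd := ha2 _ hr'
        have e1 := hQD _ hd x hx
        rw [e, ← e1, mul_inv_cancel_right]
        exact hd
    have : ⁅x, a⁆ = x * a * x⁻¹ * a⁻¹ := commutatorElement_def x a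
    rw [this]
    exact mul_mem hxa (inv_mem (hAM ha))
  have hQ1Q : ⁅Q, A⁆ ≤ Q := commutator_le_of_le_normalizer Q A hAQ
  have h1 : ⁅Q, A⁆ ≤ centralizer (R : Set Y) := by
    have hcomm1 : ⁅R, ⁅Q, A⁆⁆ ≤ D := by
      rw [commutator_le]
      intro r hr g hg
      exact (hQ1M hg).2 r hr
    have hcomm2 : ⁅D, ⁅Q, A⁆⁆ = ⊥ := by
      rw [commutator_eq_bot_iff_le_centralizer, le_centralizer_iff]
      intro g hg
      exact (hQ1M hg).1
    have hcomm3 : ⁅⁅R, ⁅Q, A⁆⁆, ⁅Q, A⁆⁆ = ⊥ := by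
      rw [eq_bot_iff, ← hcomm2]
      exact commutator_mono hcomm1 le_rfl
    have hcop1 : (Nat.card ↥⁅Q, A⁆).Coprime (Nat.card R) := by
      obtain ⟨k, hk⟩ := hRcard
      rw [hk]
      exact Nat.Coprime.pow_right k (Nat.Coprime.coprime_dvd_left (card_dvd_of_le hQ1Q) hQ)
    have h4 := commutator_commutator_eq ⁅Q, A⁆ R (hnR _) hcop1 (Or.inr hRsolv)
    rw [hcomm3] at h4
    rw [le_centralizer_iff]
    exact commutator_eq_bot_iff_le_centralizer.mp h4.symm
  have hsplit := commutator_sup_centralizer_eq A Q hAQ hcopAQ (Or.inl hAsolv)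
  rw [← hsplit]
  exact sup_le h1 h0

end core

section quotient

variable {X : Type u} [Group X] [Finite X] {p : ℕ} [Fact p.Prime]

/-- Lifting a `p`-element of the image of a subgroup `C` modulo a normal subgroup `N`
to a `p`-element of `C`. -/
theorem exists_pElement_lift (N C : Subgroup X) [N.Normal]
    {y : X ⧸ N} (hy : y ∈ C.map (QuotientGroup.mk' N)) {K : ℕ} (hyK : y ^ (p ^ K) = 1) :
    ∃ x ∈ C, (∃ k : ℕ, x ^ (p ^ k) = 1) ∧ QuotientGroup.mk' N x = y := by
  have hpp : p.Prime := Fact.out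
  obtain ⟨x, hxC, rfl⟩ := hy
  have hn0 : orderOf x ≠ 0 := (orderOf_pos x).ne'
  obtain ⟨k, m, hm, hkm⟩ := Nat.exists_eq_pow_mul_and_not_dvd hn0 p hpp.ne_one
  have hcop : Nat.Coprime m (p ^ K) :=
    Nat.Coprime.pow_right K ((Nat.Prime.coprime_iff_not_dvd hpp).mpr hm).symm
  -- choose `j` with `m * j ≡ 1 mod p ^ K`
  obtain ⟨j, hj⟩ : ∃ j : ℕ, (m * j) % (p ^ K) = 1 % (p ^ K) := by
    by_cases hK : 1 < p ^ K
    · obtain ⟨j, -, hj⟩ := Nat.exists_mul_mod_eq_one_of_coprime hcop hK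
      exact ⟨j, by rw [hj, Nat.mod_eq_of_lt hK]⟩
    · have : p ^ K = 1 := by
        have := pow_pos hpp.pos K
        omega
      exact ⟨0, by rw [this]; simp⟩
  refine ⟨x ^ (m * j), C.pow_mem hxC _, ⟨k, ?_⟩, ?_⟩
  · rw [← pow_mul]
    have : m * j * p ^ k = orderOf x * j := by rw [hkm]; ring
    rw [this, pow_mul, pow_orderOf_eq_one, one_pow]
  · rw [map_pow]
    have hord : orderOf (QuotientGroup.mk' N x) ∣ p ^ K := orderOf_dvd_of_pow_eq_one hyK
    have h1 : (QuotientGroup.mk' N x) ^ (m * j) = (QuotientGroup.mk' N x) ^ 1 := by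
      rw [pow_eq_pow_iff_modEq]
      exact (Nat.ModEq.of_dvd hord hj)
    rw [h1, pow_one]

/-- Let `X` be `p`-constrained with all `p`-subgroups of class at most two, `A` a `p`-subgroup
containing every `p`-element of `C_X(A)`. Then every `A`-invariant `p'`-subgroup lies in
`O_{p'}(X)`. -/
theorem signalizer_le_pPrimeCore_quad (hX : Cfsg.IsPConstrained p X) (A : Subgroup X)
    (hAp : IsPGroup p A)
    (hfull : ∀ x ∈ centralizer (A : Set X), (∃ k : ℕ, x ^ (p ^ k) = 1) → x ∈ A)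
    (hcl : ∀ S : Subgroup X, IsPGroup p S → ∀ x ∈ S, ∀ y ∈ S, ∀ z ∈ S, ⁅⁅x, y⁆, z⁆ = 1)
    (Q : Subgroup X) (hQ : ¬ p ∣ Nat.card Q) (hAQ : A ≤ normalizer (Q : Set X)) :
    Q ≤ Cfsg.pPrimeCore p X := by
  have hpp : p.Prime := Fact.out
  set N := Cfsg.pPrimeCore p X with hNdef
  have hNcop : (Nat.card N).Coprime p := Cfsg.Agent.Lib.Helper33.pPrimeCore_card_coprime' p
  have hcent := (Cfsg.Agent.Lib.Helper22.isPConstrained_iff_centralizer_le p).mp hX
  set R := Cfsg.pCore p (X ⧸ N) with hRdef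
  have hRp : IsPGroup p R := Cfsg.Agent.Lib.Helper22.pCore_isPGroup' p (X ⧸ N)
  have hRn : R.Normal := by
    rw [hRdef, Cfsg.pCore]
    exact Subgroup.sSup_normal _ (fun _ h => h.1)
  set π := QuotientGroup.mk' N with hπdef
  have hπsurj : Function.Surjective π := QuotientGroup.mk'_surjective N
  have hAbar : IsPGroup p (A.map π) := hAp.map π
  have hQcop : (Nat.card Q).Coprime p := ((Nat.Prime.coprime_iff_not_dvd hpp).mpr hQ).symm
  have hQbar : (Nat.card (Q.map π)).Coprime p :=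
    Nat.Coprime.coprime_dvd_left (Subgroup.card_map_dvd Q π) hQcop
  have hAQbar : A.map π ≤ normalizer ((Q.map π : Subgroup (X ⧸ N)) : Set (X ⧸ N)) :=
    (Subgroup.map_mono hAQ).trans (Subgroup.le_normalizer_map π)
  have hAsolv : Group.IsSolvable A := by
    have := hAp.isNilpotent
    infer_instance
  have hAN : (Nat.card A).Coprime (Nat.card N) := by
    obtain ⟨k, hk⟩ := IsPGroup.iff_card.mp hAp
    rw [hk]
    exact Nat.Coprime.pow_left k hNcop.symm
  have hmapC := Cfsg.Agent.Lib.Helper22.map_centralizer_mk'_of_coprime N A hAN (Or.inr hAsolv)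
  have hCbar : ∀ y ∈ R, y ∈ centralizer ((A.map π : Subgroup (X ⧸ N)) : Set (X ⧸ N)) →
      y ∈ A.map π := by
    intro y hyR hyC
    rw [← hmapC] at hyC
    obtain ⟨K, hK⟩ := hRp ⟨y, hyR⟩
    have hK' : y ^ (p ^ K) = 1 := by
      have := congrArg Subtype.val hK
      simpa using this
    obtain ⟨x, hxC, hxp, hxy⟩ := exists_pElement_lift N _ hyC hK'
    exact ⟨x, hfull x hxC hxp, hxy⟩
  have hquad : ∀ r ∈ R, ∀ a ∈ A.map π, ∀ b ∈ A.map π, ⁅⁅r, a⁆, b⁆ = 1 := by
    obtain ⟨S, hAS⟩ := hAp.exists_le_sylow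
    have hRS : R ≤ (S : Subgroup X).map π := by
      have h1 := Cfsg.Agent.Lib.Helper11.pCore_le_sylow (S.mapSurjective hπsurj)
      rw [Sylow.coe_mapSurjective] at h1
      exact h1
    intro r hr a ha b hb
    obtain ⟨s1, hs1, rfl⟩ := hRS hr
    obtain ⟨s2, hs2, rfl⟩ := ha
    obtain ⟨s3, hs3, rfl⟩ := hb
    rw [← map_commutatorElement, ← map_commutatorElement,
      hcl S S.2 s1 hs1 s2 (hAS hs2) s3 (hAS hs3), map_one]
  have hcore := signalizer_core_quad R (A.map π) (Q.map π) hRp hAbar hQbar hAQbar hCbar hquad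
  have hQR : Q.map π ≤ R := hcore.trans hcent
  have hQbot : Q.map π = ⊥ := by
    have h1 : IsPGroup p (Q.map π) := hRp.to_le hQR
    obtain ⟨k, hk⟩ := IsPGroup.iff_card.mp h1
    rw [hk] at hQbar
    apply Subgroup.card_eq_one.mp
    rw [hk]
    rcases Nat.eq_zero_or_pos k with h0 | h0
    · rw [h0, pow_zero]
    · exfalso
      have : p ∣ Nat.gcd (p ^ k) p := Nat.dvd_gcd (dvd_pow_self p h0.ne') dvd_rfl
      rw [Nat.Coprime] at hQbar
      rw [hQbar, Nat.dvd_one] at this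
      exact hpp.one_lt.ne' this
  intro x hx
  have h1 : π x ∈ Q.map π := ⟨x, hx, rfl⟩
  rw [hQbot, mem_bot] at h1
  exact (QuotientGroup.eq_one_iff x).mp h1

end quotient

end Cfsg.Agent.Lib.Helper23
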