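import Mathlib
import Cfsg.Prelude.Def_OddOrderLocal
import Cfsg.Agent.Lib.Helper23.QuadSignalizer
import Cfsg.Agent.Lib.Helper32.Burnside

set_option autoImplicit false

/-!
# Local ingredients for the Thompson transitivity theorem

Subgroup-level versions of the signalizer lemma (`A`-invariant `p'`-subgroups of a `p`-constrained
subgroup `H` lie in `O_{p'}(H)`), an elementary abelian subgroup of order `p ^ 3` from
`¬ PRankLE p 2`, and the `p'`-elements of `C_G(E)` when `E` is a central Sylow subgroup of it.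
-/

namespace Cfsg.Agent.Lib.Helper23

open Subgroup Cfsg.Agent.Lib.Helper32
open scoped commutatorElement

universe u

variable {G : Type u} [Group G]

theorem le_normalizer_map_subtype_of_normal (H : Subgroup G) (N : Subgroup H) [hN : N.Normal] :
    H ≤ normalizer ((N.map H.subtype : Subgroup G) : Set G) := by
  intro h hh
  rw [mem_normalizer_iff]
  intro x
  constructor
  · rintro ⟨y, hy, rfl⟩
    exact ⟨⟨h, hh⟩ * y * ⟨h, hh⟩⁻¹, hN.conj_mem y hy _, by simp⟩
  · rintro ⟨y, hy, hyx⟩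
    refine ⟨⟨h, hh⟩⁻¹ * y * ⟨h, hh⟩, ?_, ?_⟩
    · have := hN.conj_mem y hy ⟨h, hh⟩⁻¹
      simpa using this
    · have e : (y : G) = h * x * h⁻¹ := hyx
      simp only [coe_subtype, coe_mul, InvMemClass.coe_inv, e]
      group

theorem subgroupOf_le_normalizer_subgroupOf {A K : Subgroup G} (H : Subgroup G)
    (hAK : A ≤ normalizer (K : Set G)) :
    A.subgroupOf H ≤ normalizer ((K.subgroupOf H : Subgroup H) : Set H) := by
  intro a ha
  rw [mem_normalizer_iff]
  intro y
  simp only [mem_subgroupOf]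
  have := (mem_normalizer_iff.mp (hAK (mem_subgroupOf.mp ha))) (y : G)
  simpa using this

theorem coe_mem_centralizer_of_subgroupOf {A H : Subgroup G} (hAH : A ≤ H) {x : H}
    (hx : x ∈ centralizer ((A.subgroupOf H : Subgroup H) : Set H)) :
    (x : G) ∈ centralizer (A : Set G) := by
  rw [mem_centralizer_iff]
  intro a ha
  have h1 : (⟨a, hAH ha⟩ : H) ∈ A.subgroupOf H := mem_subgroupOf.mpr ha
  have h2 := mem_centralizer_iff.mp hx _ h1
  have := congrArg Subtype.val h2
  simpa using this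

theorem card_subgroupOf_eq_of_le {K H : Subgroup G} (h : K ≤ H) :
    Nat.card (K.subgroupOf H) = Nat.card K :=
  Nat.card_congr (subgroupOfEquivOfLe h).toEquiv

variable [Finite G] {p : ℕ} [hp : Fact p.Prime]

/-- Subgroup-level signalizer lemma, `p` odd. -/
theorem signalizer_le_map_pPrimeCore_odd (hp2 : p ≠ 2) {H A K : Subgroup G}
    (hcons : Cfsg.IsPConstrained p H) (hAH : A ≤ H) (hAp : IsPGroup p A)
    (hΩ : ∀ x ∈ centralizer (A : Set G), orderOf x = p → x ∈ A)
    (hKH : K ≤ H) (hK : ¬ p ∣ Nat.card K) (hAK : A ≤ normalizer (K : Set G)) :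
    K ≤ (Cfsg.pPrimeCore p H).map H.subtype := by
  have h := signalizer_le_pPrimeCore hp2 hcons (A.subgroupOf H) hAp.comap_subtype
    (fun x hx hxo => mem_subgroupOf.mpr
      (hΩ _ (coe_mem_centralizer_of_subgroupOf hAH hx) (by rw [Subgroup.orderOf_coe]; exact hxo)))
    (K.subgroupOf H) (by rw [card_subgroupOf_eq_of_le hKH]; exact hK)
    (subgroupOf_le_normalizer_subgroupOf H hAK)
  intro k hk
  exact ⟨⟨k, hKH hk⟩, h (mem_subgroupOf.mpr hk), rfl⟩

/-- Subgroup-level signalizer lemma, class two version. -/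
theorem signalizer_le_map_pPrimeCore_quad {H A K : Subgroup G}
    (hcons : Cfsg.IsPConstrained p H) (hAH : A ≤ H) (hAp : IsPGroup p A)
    (hfull : ∀ x ∈ centralizer (A : Set G), (∃ k : ℕ, x ^ (p ^ k) = 1) → x ∈ A)
    (hcl : ∀ S : Subgroup G, IsPGroup p S → ∀ x ∈ S, ∀ y ∈ S, ∀ z ∈ S, ⁅⁅x, y⁆, z⁆ = 1)
    (hKH : K ≤ H) (hK : ¬ p ∣ Nat.card K) (hAK : A ≤ normalizer (K : Set G)) :
    K ≤ (Cfsg.pPrimeCore p H).map H.subtype := by
  have h := signalizer_le_pPrimeCore_quad hcons (A.subgroupOf H) hAp.comap_subtype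
    (fun x hx hxo => mem_subgroupOf.mpr
      (hfull _ (coe_mem_centralizer_of_subgroupOf hAH hx) (by
        obtain ⟨k, hk⟩ := hxo
        refine ⟨k, ?_⟩
        have := congrArg Subtype.val hk
        simpa using this)))
    (fun S hS x hx y hy z hz => by
      have h1 := hcl (S.map H.subtype) (hS.map _) x ⟨x, hx, rfl⟩ y ⟨y, hy, rfl⟩ z ⟨z, hz, rfl⟩
      apply Subtype.ext
      have e : ((⁅⁅x, y⁆, z⁆ : H) : G) = ⁅⁅(x : G), (y : G)⁆, (z : G)⁆ := by
        simp [commutatorElement_def]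
      rw [e, h1]
      rfl)
    (K.subgroupOf H) (by rw [card_subgroupOf_eq_of_le hKH]; exact hK)
    (subgroupOf_le_normalizer_subgroupOf H hAK)
  intro k hk
  exact ⟨⟨k, hKH hk⟩, h (mem_subgroupOf.mpr hk), rfl⟩

omit [Finite G] hp in
/-- class at most two for all `p`-subgroups from class at most two for the Sylow subgroups -/
theorem class_two_of_sylow [Fact p.Prime] [Finite (Sylow p G)]
    (h : ∀ S : Sylow p G, ∀ x ∈ (S : Subgroup G), ∀ y ∈ (S : Subgroup G),
      ∀ z ∈ (S : Subgroup G), ⁅⁅x, y⁆, z⁆ = 1) :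
    ∀ S : Subgroup G, IsPGroup p S → ∀ x ∈ S, ∀ y ∈ S, ∀ z ∈ S, ⁅⁅x, y⁆, z⁆ = 1 := by
  intro S hS x hx y hy z hz
  obtain ⟨P, hSP⟩ := hS.exists_le_sylow
  exact h P x (hSP hx) y (hSP hy) z (hSP hz)

omit [Finite G] hp in
theorem triple_comm_eq_one_of_class_le_two (T : Subgroup G) [hT : Group.IsNilpotent T]
    (hcl : Group.nilpotencyClass T ≤ 2) :
    ∀ x ∈ T, ∀ y ∈ T, ∀ z ∈ T, ⁅⁅x, y⁆, z⁆ = 1 := by
  intro x hx y hy z hz
  have h1 : (⊤ : Subgroup T).lowerCentralSeries 2 ≤ ⊥ := by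
    rw [← Subgroup.lowerCentralSeries_nilpotencyClass (G := T)]
    exact Subgroup.lowerCentralSeries_antitone _ hcl
  have h2 : ⁅⁅(⟨x, hx⟩ : T), (⟨y, hy⟩ : T)⁆, (⟨z, hz⟩ : T)⁆ ∈
      (⊤ : Subgroup T).lowerCentralSeries 2 := by
    change _ ∈ ⁅⁅(⊤ : Subgroup T), ⊤⁆, ⊤⁆
    exact commutator_mem_commutator (commutator_mem_commutator (mem_top _) (mem_top _)) (mem_top _)
  have h3 := mem_bot.mp (h1 h2)
  have := congrArg Subtype.val h3
  simpa [commutatorElement_def] using this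

omit [Finite G] hp in
theorem isPGroup_zpowers_of_pow_eq_one {x : G} {k : ℕ} (h : x ^ (p ^ k) = 1) :
    IsPGroup p (zpowers x) := by
  rintro ⟨y, hy⟩
  obtain ⟨n, rfl⟩ := mem_zpowers_iff.mp hy
  refine ⟨k, Subtype.ext ?_⟩
  simp only [SubgroupClass.coe_pow, OneMemClass.coe_one]
  rw [← zpow_natCast, ← zpow_mul, mul_comm, zpow_mul, zpow_natCast, h, one_zpow]

/-- An elementary abelian subgroup of order `p ^ 3` inside a subgroup of `p`-rank at least 3. -/
theorem exists_elemAb_card_cube {E : Subgroup G} (hE3 : ¬ Cfsg.PRankLE p 2 E) :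
    ∃ A₀ : Subgroup G, A₀ ≤ E ∧ (∀ x ∈ A₀, ∀ y ∈ A₀, x * y = y * x) ∧ (∀ a ∈ A₀, a ^ p = 1) ∧
      Nat.card A₀ = p ^ 3 := by
  have hpp : p.Prime := hp.out
  unfold Cfsg.PRankLE at hE3
  push Not at hE3
  obtain ⟨V, hVc, hVp, hVcard⟩ := hE3
  have hVpg : IsPGroup p V := by
    rintro ⟨v, hv⟩
    refine ⟨1, Subtype.ext ?_⟩
    rw [pow_one]
    exact hVp v hv
  obtain ⟨k, hk⟩ := IsPGroup.iff_card.mp hVpg
  have hk3 : 3 ≤ k := by
    by_contra hcon
    push Not at hcon
    have : p ^ k ≤ p ^ 2 := Nat.pow_le_pow_right hpp.pos (by omega)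
    omega
  have hdvd : p ^ 3 ∣ Nat.card V := by
    rw [hk]
    exact pow_dvd_pow p hk3
  obtain ⟨K, hK⟩ := Sylow.exists_subgroup_card_pow_prime p hdvd
  refine ⟨(K.map V.subtype).map E.subtype, map_subtype_le _, ?_, ?_, ?_⟩
  · rintro x ⟨x', ⟨x'', hx'', rfl⟩, rfl⟩ y ⟨y', ⟨y'', hy'', rfl⟩, rfl⟩
    have := hVc.is_comm.comm x'' y''
    have h2 := congrArg (fun t : V => ((t : E) : G)) this
    simpa using h2
  · rintro a ⟨a', ⟨a'', ha'', rfl⟩, rfl⟩
    have := hVp a''.1 a''.2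
    have h2 := congrArg (fun t : E => (t : G)) this
    simpa using h2
  · rw [card_map_of_injective E.subtype_injective, card_map_of_injective V.subtype_injective, hK]

/-- If the abelian `p`-group `E` contains every `p`-element of `C_G(E)`, then every `p'`-element
of `C_G(E)` lies in `O_{p'}(C_G(E))`. -/
theorem mem_piCoreOf_centralizer (E : Subgroup G) (hEp : IsPGroup p E)
    (hEc : ∀ x ∈ E, ∀ y ∈ E, x * y = y * x)
    (hEfull : ∀ x ∈ centralizer (E : Set G), IsPGroup p (zpowers x) → x ∈ E)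
    {c : G} (hc : c ∈ centralizer (E : Set G)) (hco : (orderOf c).Coprime p) :
    c ∈ Cfsg.piCoreOf (Cfsg.primesNotDvd p) (centralizer (E : Set G)) := by
  have hpp : p.Prime := hp.out
  obtain ⟨Z, hZ⟩ : ∃ Z : Subgroup G, Z = centralizer (E : Set G) := ⟨_, rfl⟩
  rw [← hZ] at hc ⊢
  have hEZ : E ≤ Z := by
    rw [hZ]
    intro x hx
    rw [mem_centralizer_iff]
    intro y hy
    exact hEc y hy x hx
  let P : Sylow p Z :=
    { E.subgroupOf Z with
      isPGroup' := hEp.comap_subtype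
      is_maximal' := by
        intro Q hQ hle
        refine le_antisymm ?_ hle
        intro x hx
        rw [mem_subgroupOf]
        apply hEfull
        · rw [← hZ]; exact x.2
        · obtain ⟨k, hk⟩ := hQ ⟨x, hx⟩
          apply isPGroup_zpowers_of_pow_eq_one (k := k)
          have := congrArg (fun t : Q => ((t : Z) : G)) hk
          simpa using this }
  have hPcoe : (P : Subgroup Z) = E.subgroupOf Z := rfl
  have hPc : (P : Subgroup Z) ≤ center Z := by
    rw [hPcoe]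
    intro x hx
    rw [mem_center_iff]
    intro z
    apply Subtype.ext
    have hz : (z : G) ∈ centralizer (E : Set G) := by rw [← hZ]; exact z.2
    have := mem_centralizer_iff.mp hz _ (mem_subgroupOf.mp hx)
    simpa using this.symm
  obtain ⟨K, hKn, hKcop, -, hKmem⟩ := exists_normal_pComplement_of_le_center P hPc
  have hcK : (⟨c, hc⟩ : Z) ∈ K := by
    rw [hKmem]
    have : orderOf (⟨c, hc⟩ : Z) = orderOf c := by
      rw [← Subgroup.orderOf_coe]
    rw [this]
    exact hco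
  have hKle : K ≤ Cfsg.piCore (Cfsg.primesNotDvd p) Z := by
    apply le_sSup
    refine ⟨hKn, fun r hr hrK => ⟨hr, fun hrp => ?_⟩⟩
    have hrp' : r = p := (Nat.prime_dvd_prime_iff_eq hr hpp).mp hrp
    rw [hrp'] at hrK
    have := Nat.Coprime.eq_one_of_dvd hKcop.symm hrK
    exact hpp.one_lt.ne' this
  exact ⟨⟨c, hc⟩, hKle hcK, rfl⟩

end Cfsg.Agent.Lib.Helper23
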