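import Cfsg.Agent.Lib.Helper22.Fitting
import Cfsg.Agent.Lib.Helper22.CharP
import Cfsg.Agent.Lib.Helper21.BenderLemma
import Cfsg.Agent.Lib.Helper24.NilpCrit
import Cfsg.Agent.Lib.Helper23.TransLocal
import Cfsg.Agent.Lib.Helper33.Conj
import Cfsg.Prelude.Def_OddOrderLocal

set_option autoImplicit false

/-!
# The Fitting subgroup of a subgroup, viewed in the ambient group: primary decomposition
-/

namespace Cfsg.Agent.Lib.Helper23

open Subgroup Cfsg Cfsg.Agent.Lib.Helper33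

universe u

section primary

variable {G : Type u} [Group G]

/-- primary decomposition: a subgroup containing all prime-power-order powers of `x`
contains `x` -/
theorem mem_of_primary_powers_mem_aux [Finite G] (T : Subgroup G) :
    ∀ (n : ℕ) (x : G), orderOf x = n →
      (∀ y ∈ zpowers x, (∃ r k : ℕ, r.Prime ∧ y ^ (r ^ k) = 1) → y ∈ T) → x ∈ T := by
  intro n
  induction n using Nat.strong_induction_on with
  | _ n ih =>
  intro x hx h
  by_cases h1 : n = 1
  · rw [h1, orderOf_eq_one_iff] at hx; rw [hx]; exact T.one_mem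
  have hn0 : n ≠ 0 := by rw [← hx]; exact (orderOf_pos x).ne'
  obtain ⟨r, hr, hrn⟩ := Nat.exists_prime_and_dvd h1
  obtain ⟨a, m, hrm, hnm⟩ := Nat.exists_eq_pow_mul_and_not_dvd hn0 r hr.ne_one
  have ha : a ≠ 0 := by
    rintro rfl
    rw [pow_zero, one_mul] at hnm
    exact hrm (hnm ▸ hrn)
  have hm0 : m ≠ 0 := by
    rintro rfl
    rw [mul_zero] at hnm
    exact hn0 hnm
  have hcop : (r ^ a).Coprime m :=
    Nat.Coprime.pow_left a ((Nat.Prime.coprime_iff_not_dvd hr).mpr hrm)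
  have hra1 : 1 < r ^ a := Nat.one_lt_pow ha hr.one_lt
  apply Cfsg.Agent.Lib.Helper24.mem_of_pow_mem_of_coprime T x hcop.symm
  · apply h (x ^ m) (pow_mem (mem_zpowers x) m) ⟨r, a, hr, ?_⟩
    rw [← pow_mul, mul_comm, ← hnm, ← hx, pow_orderOf_eq_one]
  · have hdvd : r ^ a ∣ orderOf x := by rw [hx, hnm]; exact dvd_mul_right _ _
    have hord : orderOf (x ^ (r ^ a)) = m := by
      rw [orderOf_pow_of_dvd (pow_ne_zero a hr.ne_zero) hdvd, hx, hnm,
        Nat.mul_div_cancel_left m (pow_pos hr.pos a)]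
    have hlt : m < n := by
      rw [hnm]
      calc m = 1 * m := (one_mul m).symm
        _ < r ^ a * m := Nat.mul_lt_mul_of_pos_right hra1 (Nat.pos_of_ne_zero hm0)
    apply ih m hlt (x ^ (r ^ a)) hord
    intro y hy hyp
    exact h y (zpowers_le.mpr (pow_mem (mem_zpowers x) _) hy) hyp

theorem mem_of_primary_powers_mem [Finite G] (T : Subgroup G) (x : G)
    (h : ∀ y ∈ zpowers x, (∃ r k : ℕ, r.Prime ∧ y ^ (r ^ k) = 1) → y ∈ T) : x ∈ T :=
  mem_of_primary_powers_mem_aux T _ x rfl h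

end primary

section fit

variable {G : Type u} [Group G]

/-- `O_p(H)` as a subgroup of `G` -/
def pCoreOf (p : ℕ) (H : Subgroup G) : Subgroup G := (pCore p ↥H).map H.subtype

theorem pCoreOf_le (p : ℕ) (H : Subgroup G) : pCoreOf p H ≤ H := map_subtype_le _

theorem fittingOf_le (H : Subgroup G) : fittingOf H ≤ H := map_subtype_le _

theorem isPGroup_pCoreOf (p : ℕ) [Fact p.Prime] (H : Subgroup G) : IsPGroup p (pCoreOf p H) :=
  (Cfsg.Agent.Lib.Helper22.pCore_isPGroup' p ↥H).map _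

theorem le_normalizer_pCoreOf (p : ℕ) (H : Subgroup G) :
    H ≤ normalizer ((pCoreOf p H : Subgroup G) : Set G) := by
  haveI := Cfsg.Agent.Lib.Helper22.pCore_normal' p ↥H
  exact le_normalizer_map_subtype_of_normal H _

theorem le_normalizer_fittingOf (H : Subgroup G) :
    H ≤ normalizer ((fittingOf H : Subgroup G) : Set G) := by
  haveI := Cfsg.Agent.Lib.Helper22.fittingSubgroup_normal ↥H
  exact le_normalizer_map_subtype_of_normal H _

theorem pCoreOf_le_fittingOf [Finite G] (p : ℕ) [Fact p.Prime] (H : Subgroup G) :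
    pCoreOf p H ≤ fittingOf H :=
  map_mono (Cfsg.Agent.Lib.Helper22.pCore_le_fitting p)

theorem mem_pCoreOf_of_mem_fittingOf [Finite G] {p : ℕ} [Fact p.Prime] {H : Subgroup G} {x : G}
    (hx : x ∈ fittingOf H) {k : ℕ} (hk : x ^ (p ^ k) = 1) : x ∈ pCoreOf p H := by
  obtain ⟨y, hy, rfl⟩ := hx
  have hk' : y ^ (p ^ k) = 1 := by
    apply Subtype.ext
    simpa using hk
  exact ⟨y, Cfsg.Agent.Lib.Helper21.bl_mem_pCore_of_mem_fitting hy hk', rfl⟩

theorem pCoreOf_le_centralizer_pCoreOf {p r : ℕ} [Fact p.Prime] [Fact r.Prime] (hne : p ≠ r)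
    (H : Subgroup G) : pCoreOf p H ≤ centralizer ((pCoreOf r H : Subgroup G) : Set G) := by
  haveI := Cfsg.Agent.Lib.Helper22.pCore_normal' p ↥H
  haveI := Cfsg.Agent.Lib.Helper22.pCore_normal' r ↥H
  have hd : Disjoint (pCore p ↥H) (pCore r ↥H) :=
    IsPGroup.disjoint_of_ne p r hne _ _ (Cfsg.Agent.Lib.Helper22.pCore_isPGroup' p ↥H)
      (Cfsg.Agent.Lib.Helper22.pCore_isPGroup' r ↥H)
  rintro _ ⟨x, hx, rfl⟩
  rw [mem_centralizer_iff]
  rintro _ ⟨y, hy, rfl⟩
  have := Subgroup.commute_of_normal_of_disjoint _ _ inferInstance inferInstance hd x y hx hy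
  have h2 := congrArg (fun z : H => (z : G)) this.eq
  simpa using h2.symm

theorem fittingOf_le_of_pCoreOf_le [Finite G] {H T : Subgroup G}
    (h : ∀ (p : ℕ) [Fact p.Prime], pCoreOf p H ≤ T) : fittingOf H ≤ T := by
  unfold fittingOf
  rw [Cfsg.Agent.Lib.Helper22.fittingSubgroup_eq_iSup_pCore, Subgroup.map_iSup]
  apply iSup_le
  intro p
  haveI : Fact (p : ℕ).Prime := ⟨p.2⟩
  exact h p

theorem le_of_inf_pCoreOf_le [Finite G] {H M T : Subgroup G} (hM : M ≤ fittingOf H)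
    (h : ∀ (p : ℕ) [Fact p.Prime], M ⊓ pCoreOf p H ≤ T) : M ≤ T := by
  intro x hx
  apply mem_of_primary_powers_mem T x
  rintro y hy ⟨r, k, hr, hyk⟩
  haveI : Fact r.Prime := ⟨hr⟩
  have hyM : y ∈ M := zpowers_le.mpr hx hy
  exact h r ⟨hyM, mem_pCoreOf_of_mem_fittingOf (hM hyM) hyk⟩

theorem pCoreOf_ne_bot_of_dvd [Finite G] {p : ℕ} [Fact p.Prime] {H : Subgroup G}
    (h : p ∣ Nat.card (fittingOf H)) : pCoreOf p H ≠ ⊥ := by
  obtain ⟨x, hx⟩ := exists_prime_orderOf_dvd_card' p h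
  have hx' : orderOf (x : G) = p := by rw [Subgroup.orderOf_coe]; exact hx
  have hmem : (x : G) ∈ pCoreOf p H := by
    apply mem_pCoreOf_of_mem_fittingOf x.2 (k := 1)
    rw [pow_one, ← hx', pow_orderOf_eq_one]
  intro hbot
  rw [hbot, mem_bot] at hmem
  rw [hmem, orderOf_one] at hx'
  exact (Fact.out : p.Prime).one_lt.ne hx'

end fit

end Cfsg.Agent.Lib.Helper23
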