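import Cfsg.Agent.Lib.Helper32.Transitivity
import Cfsg.Agent.Lib.Helper24.Glauberman
import Cfsg.Agent.Lib.Helper24.InvCompl
import Cfsg.Agent.Lib.Helper24.NilpCrit
import Cfsg.Agent.Lib.Helper33.NormalFusion
import Cfsg.Agent.Lib.Helper23.TransCore

set_option autoImplicit false

/-!
# Bender–Glauberman Theorem 7.5: transitivity passes to subnormal overgroups
-/

namespace Cfsg.Agent.Lib.Helper23

open Subgroup Cfsg Cfsg.Agent.Lib.Helper33 Cfsg.Agent.Lib.Helper24 Cfsg.Agent.Lib.Helper32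

universe u

section general

variable {G : Type u} [Group G] [Finite G]

/-- `N_G(X)` normalizes `O_π(X)`. -/
theorem normalizer_le_normalizer_piCoreOf (π : Set ℕ) (X : Subgroup G) :
    normalizer (X : Set G) ≤ normalizer ((piCoreOf π X : Subgroup G) : Set G) := by
  intro g hg
  rw [← cj_eq_self_iff]
  apply cj_eq_of_le
  have hX : cj g X = X := cj_eq_self_iff.mpr hg
  apply le_piCoreOf
  · exact (cj_mono (piCoreOf_le π X)).trans hX.le
  · have h1 : cj g X ≤ cj g (normalizer ((piCoreOf π X : Subgroup G) : Set G)) :=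
      cj_mono (le_normalizer_piCoreOf π X)
    rwa [hX, ← normalizer_cj] at h1
  · intro r hr hrd
    rw [card_cj] at hrd
    exact isPi_piCoreOf π X r hr hrd

omit [Finite G] in
/-- elements of the centralizer normalize -/
theorem centralizer_le_normalizer_of_le {B W : Subgroup G} (h : W ≤ centralizer (B : Set G)) :
    B ≤ normalizer (W : Set G) := by
  intro b hb
  have : b ∈ centralizer (W : Set G) := by
    rw [mem_centralizer_iff]
    intro w hw
    exact ((mem_centralizer_iff.mp (h hw)) b hb).symm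
  exact centralizer_le_normalizer _ this

omit [Finite G] in
/-- prime divisors of `|B|` dividing `|A|`, versus a `π(A)'`-group: coprime orders -/
theorem coprime_of_dvd_of_isPi {A B W : Subgroup G}
    (hBπ : ∀ r : ℕ, r.Prime → r ∣ Nat.card B → r ∣ Nat.card A)
    (hW : Cfsg.Agent.Lib.Helper62.IsPi (primesNotDvd (Nat.card A)) W) :
    (Nat.card B).Coprime (Nat.card W) :=
  Nat.coprime_of_dvd (fun k hk hkB hkW => (hW k hk hkW).2 (hBπ k hk hkB))

omit [Finite G] in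
/-- conjugation by an element normalizing `B` preserves `И_G(B;q)` -/
theorem cj_mem_invSubgroups_of_mem_normalizer {B R : Subgroup G} {q : ℕ} {g : G}
    (hg : g ∈ normalizer (B : Set G)) (hR : R ∈ invSubgroups ⊤ B {q}) :
    cj g R ∈ invSubgroups ⊤ B {q} := by
  refine ⟨le_top, ?_, ?_⟩
  · intro r hr hrd
    rw [card_cj] at hrd
    exact hR.2.1 r hr hrd
  · rw [normalizer_cj]
    have h1 : cj g B ≤ cj g (normalizer (R : Set G)) := cj_mono hR.2.2
    rwa [cj_eq_self_iff.mpr hg] at h1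

omit [Finite G] in
/-- conjugation by an element normalizing `B` preserves `И*_G(B;q)` -/
theorem cj_mem_maxInv_of_mem_normalizer {B Q : Subgroup G} {q : ℕ} {g : G}
    (hg : g ∈ normalizer (B : Set G)) (hQ : Q ∈ maxInvSubgroups ⊤ B {q}) :
    cj g Q ∈ maxInvSubgroups ⊤ B {q} := by
  refine ⟨cj_mem_invSubgroups_of_mem_normalizer hg hQ.1, ?_⟩
  intro R' hR' hle
  have h1 : Q ≤ cj g⁻¹ R' := cj_le_iff.mp hle
  have h2 := hQ.2 (cj g⁻¹ R') (cj_mem_invSubgroups_of_mem_normalizer (inv_mem hg) hR') h1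
  rw [← h2, cj_cj_inv]

omit [Finite G] in
theorem bot_mem_invSubgroups (B : Subgroup G) (q : ℕ) :
    (⊥ : Subgroup G) ∈ invSubgroups ⊤ B {q} := by
  refine ⟨le_top, ?_, ?_⟩
  · intro r hr hrd
    rw [Subgroup.card_bot] at hrd
    exact absurd (Nat.dvd_one.mp hrd) hr.ne_one
  · intro b _
    rw [← cj_eq_self_iff, cj_eq_bot_iff]

omit [Finite G] in
theorem invSubgroups_mono {B B' : Subgroup G} (h : B ≤ B') {q : ℕ} {R : Subgroup G}
    (hR : R ∈ invSubgroups ⊤ B' {q}) : R ∈ invSubgroups ⊤ B {q} :=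
  ⟨hR.1, hR.2.1, h.trans hR.2.2⟩

/-- The statement `T(B)`: `O_{π(A)'}(C_G(B))` is transitive on `И*(B;q)` and
`И*(B;q) ⊆ И*(A;q)`. -/
def OverTrans (A B : Subgroup G) (q : ℕ) : Prop :=
  (∀ Q₁ ∈ maxInvSubgroups ⊤ B {q}, ∀ Q₂ ∈ maxInvSubgroups ⊤ B {q},
      ∃ k ∈ piCoreOf (primesNotDvd (Nat.card A)) (centralizer (B : Set G)), Q₂ = cj k Q₁) ∧
    maxInvSubgroups ⊤ B {q} ⊆ maxInvSubgroups ⊤ A {q}

/-- if `H ⊴ K` inside `P` then the image of `K` normalizes the image of `H` -/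
theorem map_subtype_le_normalizer_map_subtype {P : Subgroup G} {H K : Subgroup P} (hHK : H ≤ K)
    (hn : (H.subgroupOf K).Normal) :
    K.map P.subtype ≤ normalizer ((H.map P.subtype : Subgroup G) : Set G) := by
  have hKN : K ≤ normalizer (H : Set P) := (normal_subgroupOf_iff_le_normalizer hHK).mp hn
  rintro _ ⟨k, hk, rfl⟩
  rw [← cj_eq_self_iff]
  apply cj_eq_of_le
  intro z hz
  obtain ⟨h', ⟨h, hh, rfl⟩, rfl⟩ := mem_cj'.mp hz
  exact ⟨k * h * k⁻¹, (mem_normalizer_iff.mp (hKN hk) h).mp hh, by simp⟩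

end general

section trans

variable {G : Type u} [Group G] [Finite G]
variable (hG : IsMinSimpleOddOrder G) {A : Subgroup G} (hA : TransitivityHypothesis A)
include hG hA

/-- BG 7.5(a): `K ∩ C_G(B) = O_{π'}(C_G(B))` for every `B ≥ A`. -/
theorem piCoreOf_centralizer_inf_eq {B : Subgroup G} (hAB : A ≤ B) :
    piCoreOf (primesNotDvd (Nat.card A)) (centralizer (A : Set G)) ⊓ centralizer (B : Set G) =
      piCoreOf (primesNotDvd (Nat.card A)) (centralizer (B : Set G)) := by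
  haveI : IsSimpleGroup G := hG.2.1
  have hCBA : centralizer (B : Set G) ≤ centralizer (A : Set G) := centralizer_le hAB
  apply le_antisymm
  · apply le_piCoreOf inf_le_right
    · intro c hc
      rw [← cj_eq_self_iff, cj_inf,
        cj_eq_self_iff.mpr (le_normalizer_piCoreOf _ _ (hCBA hc)),
        cj_eq_self_iff.mpr (le_normalizer hc)]
    · exact (isPi_piCoreOf _ _).mono inf_le_left
  · refine le_inf ?_ (piCoreOf_le _ _)
    have hNtop : normalizer (A : Set G) ≠ ⊤ := normalizer_ne_top_of_simple hA.1 hA.2.1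
    have hKC : piCoreOf (primesNotDvd (Nat.card A)) (centralizer (B : Set G)) ≤
        centralizer (A : Set G) := (piCoreOf_le _ _).trans hCBA
    have h1 : piCoreOf (primesNotDvd (Nat.card A)) (centralizer (B : Set G)) ≤
        piCoreOf (primesNotDvd (Nat.card A)) (normalizer (A : Set G)) :=
      transHyp_le_piCoreOf hA hNtop le_normalizer (hKC.trans (centralizer_le_normalizer _))
        (isPi_piCoreOf _ _) (centralizer_le_normalizer_of_le hKC)
    exact (le_inf h1 hKC).trans (centralizer_inf_piCoreOf_le hG hA hNtop le_normalizer)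

/-- A nontrivial maximal `B`-invariant `q`-subgroup (for a `π(A)`-group `B ≥ A`) is a maximal
`A`-invariant `q`-subgroup. -/
theorem mem_maxInv_of_mem_maxInv_over {q : ℕ} (hq : q.Prime) (hqA : ¬ q ∣ Nat.card A)
    {B : Subgroup G} (hAB : A ≤ B)
    (hBπ : ∀ r : ℕ, r.Prime → r ∣ Nat.card B → r ∣ Nat.card A)
    {Q : Subgroup G} (hQ : Q ∈ maxInvSubgroups ⊤ B {q}) (hQ1 : Q ≠ ⊥) :
    Q ∈ maxInvSubgroups ⊤ A {q} := by
  haveI : IsSimpleGroup G := hG.2.1
  haveI : Fact q.Prime := ⟨hq⟩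
  have hQp : IsPGroup q Q := isPGroup_of_mem_invSubgroups hq hQ.1
  have hBQ : B ≤ normalizer (Q : Set G) := hQ.1.2.2
  have hAQ : A ≤ normalizer (Q : Set G) := hAB.trans hBQ
  have hQA : Q ∈ invSubgroups ⊤ A {q} := mem_invSubgroups_of_isPGroup hq hQp hAQ
  refine ⟨hQA, ?_⟩
  intro R hR hQR
  by_contra hne
  have hlt : Q < R := lt_of_le_of_ne hQR (Ne.symm hne)
  have hRp : IsPGroup q R := isPGroup_of_mem_invSubgroups hq hR
  have hQtop : Q ≠ ⊤ := by
    intro h; rw [h] at hlt; exact not_top_lt hlt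
  have hNtop : normalizer (Q : Set G) ≠ ⊤ := normalizer_ne_top_of_simple hQ1 hQtop
  have hlt2 : Q < R ⊓ normalizer (Q : Set G) := lt_inf_normalizer_of_lt hRp hlt
  have hR₁p : IsPGroup q (R ⊓ normalizer (Q : Set G) : Subgroup G) := hRp.to_le inf_le_left
  have hAR₁ : A ≤ normalizer ((R ⊓ normalizer (Q : Set G) : Subgroup G) : Set G) :=
    le_normalizer_inf' hR.2.2 (le_normalizer_normalizer' hAQ)
  have hqπ : q ∈ primesNotDvd (Nat.card A) := ⟨hq, hqA⟩
  have hR₁π : Cfsg.Agent.Lib.Helper62.IsPi (primesNotDvd (Nat.card A))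
      (R ⊓ normalizer (Q : Set G) : Subgroup G) := by
    intro r hr hrd
    have h1 := (mem_invSubgroups_of_isPGroup hq hR₁p hAR₁).2.1 r hr hrd
    have : r = q := h1
    rw [this]; exact hqπ
  have hR₁O : R ⊓ normalizer (Q : Set G) ≤
      piCoreOf (primesNotDvd (Nat.card A)) (normalizer (Q : Set G)) :=
    transHyp_le_piCoreOf hA hNtop hAQ inf_le_right hR₁π hAR₁
  obtain ⟨O, hO⟩ : ∃ O, O = piCoreOf (primesNotDvd (Nat.card A)) (normalizer (Q : Set G)) :=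
    ⟨_, rfl⟩
  rw [← hO] at hR₁O
  have hON : O ≤ normalizer (Q : Set G) := hO ▸ piCoreOf_le _ _
  have hOπ : Cfsg.Agent.Lib.Helper62.IsPi (primesNotDvd (Nat.card A)) O := hO ▸ isPi_piCoreOf _ _
  have hBO : B ≤ normalizer (O : Set G) := hO ▸ hBQ.trans (le_normalizer_piCoreOf _ _)
  have hcop : (Nat.card B).Coprime (Nat.card O) := coprime_of_dvd_of_isPi hBπ hOπ
  have hOtop : O ≠ ⊤ := fun h => hNtop (top_le_iff.mp (h ▸ hON))
  have hsolv : Group.IsSolvable O := hG.2.2.2 O hOtop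
  obtain ⟨S, hQS, hBS⟩ := invariant_pSubgroup_le_sylow B O hBO hcop (Or.inr hsolv) Q
    (hlt2.le.trans hR₁O) hQp hBQ
  obtain ⟨hSO, hSp, hSi⟩ := sylow_map_facts O S
  have hSI : (S : Subgroup O).map O.subtype ∈ invSubgroups ⊤ B {q} :=
    mem_invSubgroups_of_isPGroup hq hSp hBS
  have hSQ := hQ.2 _ hSI hQS
  obtain ⟨c, hc, hcle⟩ := sylow_sub hSO hSp hSi hR₁O hR₁p
  have h1 : Nat.card (R ⊓ normalizer (Q : Set G) : Subgroup G) ≤ Nat.card Q := by
    calc Nat.card (R ⊓ normalizer (Q : Set G) : Subgroup G)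
        = Nat.card (cj c (R ⊓ normalizer (Q : Set G))) := (card_cj c _).symm
      _ ≤ Nat.card ((S : Subgroup O).map O.subtype) := Subgroup.card_le_of_le hcle
      _ = Nat.card Q := by rw [hSQ]
  have h2 : Nat.card Q < Nat.card (R ⊓ normalizer (Q : Set G) : Subgroup G) := card_lt_of_lt' hlt2
  omega

/-- The normal step of BG 7.5. -/
theorem OverTrans.step {q : ℕ} (hq : q.Prime) (hqA : ¬ q ∣ Nat.card A) {B B' : Subgroup G}
    (hAB : A ≤ B) (hBB' : B ≤ B') (hnorm : B' ≤ normalizer (B : Set G)) (hB'top : B' ≠ ⊤)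
    (hB'π : ∀ r : ℕ, r.Prime → r ∣ Nat.card B' → r ∣ Nat.card A)
    (hT : OverTrans A B q) : OverTrans A B' q := by
  haveI : IsSimpleGroup G := hG.2.1
  haveI : Fact q.Prime := ⟨hq⟩
  have hAB' : A ≤ B' := hAB.trans hBB'
  obtain ⟨KB, hKB⟩ : ∃ KB, KB = piCoreOf (primesNotDvd (Nat.card A)) (centralizer (B : Set G)) :=
    ⟨_, rfl⟩
  have hT1 : ∀ Q₁ ∈ maxInvSubgroups ⊤ B {q}, ∀ Q₂ ∈ maxInvSubgroups ⊤ B {q},
      ∃ k ∈ KB, Q₂ = cj k Q₁ := hKB ▸ hT.1
  have hKBC : KB ≤ centralizer (B : Set G) := hKB ▸ piCoreOf_le _ _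
  have hKBπ : Cfsg.Agent.Lib.Helper62.IsPi (primesNotDvd (Nat.card A)) KB :=
    hKB ▸ isPi_piCoreOf _ _
  have hB'KB : B' ≤ normalizer (KB : Set G) :=
    hKB ▸ (le_normalizer_centralizer' hnorm).trans (normalizer_le_normalizer_piCoreOf _ _)
  have hcop : (Nat.card B').Coprime (Nat.card KB) := coprime_of_dvd_of_isPi hB'π hKBπ
  have hsolv : Group.IsSolvable B' := hG.2.2.2 B' hB'top
  have hKle : KB ⊓ centralizer (B' : Set G) ≤
      piCoreOf (primesNotDvd (Nat.card A)) (centralizer (B' : Set G)) := by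
    rw [← piCoreOf_centralizer_inf_eq hG hA hAB', hKB, ← piCoreOf_centralizer_inf_eq hG hA hAB]
    exact le_inf (inf_le_left.trans inf_le_left) inf_le_right
  -- a `B'`-invariant member of `И*(B;q)`
  obtain ⟨Q₀', hQ₀', -⟩ := exists_maxInv_ge (bot_mem_invSubgroups B q)
  have hU : ∀ a ∈ B', ∃ k ∈ KB, cj a Q₀' = cj k Q₀' := fun a ha =>
    hT1 Q₀' hQ₀' (cj a Q₀') (cj_mem_maxInv_of_mem_normalizer (hnorm ha) hQ₀')
  obtain ⟨k₀, hk₀, hB'Q₀⟩ := glauberman_exists B' KB Q₀' hB'KB hcop (Or.inl hsolv) hU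
  have hQ₀ : cj k₀ Q₀' ∈ maxInvSubgroups ⊤ B {q} := cj_mem_maxInv (hKBC hk₀) hQ₀'
  -- fixed points are maximal `B'`-invariant
  have hfix1 : ∀ Q ∈ maxInvSubgroups ⊤ B {q}, B' ≤ normalizer (Q : Set G) →
      Q ∈ maxInvSubgroups ⊤ B' {q} := by
    intro Q hQ hB'Q
    refine ⟨⟨le_top, hQ.1.2.1, hB'Q⟩, ?_⟩
    intro R hR hQR
    exact hQ.2 R (invSubgroups_mono hBB' hR) hQR
  -- maximal `B'`-invariant are fixed points
  have hfix2 : ∀ Q' ∈ maxInvSubgroups ⊤ B' {q}, Q' ∈ maxInvSubgroups ⊤ B {q} := by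
    intro Q' hQ'
    by_cases h0 : cj k₀ Q₀' = ⊥
    · have hall : ∀ R ∈ invSubgroups ⊤ B {q}, R = ⊥ := by
        intro R hR
        have := hQ₀.2 R hR (h0 ▸ bot_le)
        rw [this, h0]
      have hQ'bot : Q' = ⊥ := hall Q' (invSubgroups_mono hBB' hQ'.1)
      rw [hQ'bot, ← h0]; exact hQ₀
    · have hQ'1 : Q' ≠ ⊥ := by
        intro h
        apply h0
        have h1 : cj k₀ Q₀' ∈ invSubgroups ⊤ B' {q} := ⟨le_top, hQ₀.1.2.1, hB'Q₀⟩
        have := hQ'.2 _ h1 (h ▸ bot_le)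
        rw [this, h]
      have hQ'A : Q' ∈ maxInvSubgroups ⊤ A {q} :=
        mem_maxInv_of_mem_maxInv_over hG hA hq hqA hAB' hB'π hQ' hQ'1
      refine ⟨invSubgroups_mono hBB' hQ'.1, ?_⟩
      intro R hR hQR
      exact hQ'A.2 R (invSubgroups_mono hAB hR) hQR
  refine ⟨?_, fun Q' hQ' => hT.2 (hfix2 Q' hQ')⟩
  intro Q₁ hQ₁ Q₂ hQ₂
  obtain ⟨k, hk, hkQ⟩ := hT1 Q₁ (hfix2 Q₁ hQ₁) Q₂ (hfix2 Q₂ hQ₂)
  obtain ⟨c, hc, hcQ⟩ := glauberman_conj B' KB Q₁ hB'KB hcop (Or.inl hsolv) hQ₁.1.2.2 k hk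
    (hkQ ▸ hQ₂.1.2.2)
  exact ⟨c, hKle hc, by rw [hcQ, hkQ]⟩

/-- BG 7.5 (b),(c) for a subnormal overgroup. -/
theorem OverTrans.of_isSubnormal {q : ℕ} (hq : q.Prime) (hqA : ¬ q ∣ Nat.card A) {P : Subgroup G}
    (hP : P ≠ ⊤) (hPπ : ∀ r : ℕ, r.Prime → r ∣ Nat.card P → r ∣ Nat.card A) (hAP : A ≤ P)
    (hsn : (A.subgroupOf P).IsSubnormal) (htr : OverTrans A A q) : OverTrans A P q := by
  obtain ⟨n, f, hmono, hnorm, h0, hn⟩ := hsn.exists_chain
  have key : ∀ i, OverTrans A ((f i).map P.subtype) q := by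
    intro i
    induction i with
    | zero => rw [h0, map_subgroupOf_eq_of_le hAP]; exact htr
    | succ i ih =>
      have hle' : (f (i + 1)).map P.subtype ≤ P := map_subtype_le _
      have hA_le : A ≤ (f i).map P.subtype := by
        have : (f 0).map P.subtype ≤ (f i).map P.subtype := map_mono (hmono (Nat.zero_le i))
        rwa [h0, map_subgroupOf_eq_of_le hAP] at this
      refine OverTrans.step hG hA hq hqA hA_le (map_mono (hmono (Nat.le_succ i))) ?_ ?_ ?_ ih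
      · exact map_subtype_le_normalizer_map_subtype (hmono (Nat.le_succ i)) (hnorm i)
      · intro h; apply hP; rw [h] at hle'; exact top_le_iff.mp hle'
      · intro r hr hrd; exact hPπ r hr (hrd.trans (card_dvd_of_le hle'))
  have := key n
  rw [hn, ← MonoidHom.range_eq_map, range_subtype] at this
  exact this

end trans

section frattini

open scoped commutatorElement

variable {G : Type u} [Group G]

/-- Frattini argument for a group `KP ≤ N_G(P)` transitive on the `N_G(P)`-orbit of `Q`. -/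
theorem normalizer_eq_sup_of_trans {P Q KP : Subgroup G} (hKP : KP ≤ normalizer (P : Set G))
    (htrans : ∀ g ∈ normalizer (P : Set G), ∃ k ∈ KP, cj g Q = cj k Q) :
    normalizer (P : Set G) = KP ⊔ (normalizer (P : Set G) ⊓ normalizer (Q : Set G)) := by
  apply le_antisymm
  · intro g hg
    obtain ⟨k, hk, hkg⟩ := htrans g hg
    have h1 : k⁻¹ * g ∈ normalizer (Q : Set G) := by
      rw [← cj_eq_self_iff, cj_mul, hkg, cj_inv_cj]
    have h2 : k⁻¹ * g ∈ normalizer (P : Set G) := mul_mem (inv_mem (hKP hk)) hg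
    have : g = k * (k⁻¹ * g) := by group
    rw [this]
    exact mul_mem (mem_sup_left hk) (mem_sup_right ⟨h2, h1⟩)
  · exact sup_le hKP inf_le_left

theorem conj_mem_of_mem_normalizer {K : Subgroup G} {g k : G} (hg : g ∈ normalizer (K : Set G))
    (hk : k ∈ K) : g * k * g⁻¹ ∈ K := (mem_normalizer_iff.mp hg k).mp hk

theorem le_normalizer_commutator_self (N₁ : Subgroup G) :
    N₁ ≤ normalizer ((⁅N₁, N₁⁆ : Subgroup G) : Set G) := by
  intro g hg
  rw [← cj_eq_self_iff]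
  have h1 : cj g ⁅N₁, N₁⁆ = ⁅cj g N₁, cj g N₁⁆ := Subgroup.map_commutator _ _ _
  rw [h1, cj_eq_self_of_mem hg]

/-- If `N = K N₁` with `K ⊴ N` and `P ≤ N₁` has order prime to `|K|` then `P ∩ N' ≤ N₁'`. -/
theorem inf_commutator_le_of_eq_sup [Finite G] {P N N₁ K : Subgroup G} (hPN₁ : P ≤ N₁)
    (hN₁N : N₁ ≤ N) (hNK : N ≤ normalizer (K : Set G)) (heq : N = K ⊔ N₁)
    (hcop : (Nat.card P).Coprime (Nat.card K)) :
    P ⊓ ⁅N, N⁆ ≤ ⁅N₁, N₁⁆ := by
  have hN₁K : N₁ ≤ normalizer (K : Set G) := hN₁N.trans hNK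
  have hN₁'N₁ : (⁅N₁, N₁⁆ : Subgroup G) ≤ N₁ := Subgroup.commutator_le_self N₁
  have hN₁'K : (⁅N₁, N₁⁆ : Subgroup G) ≤ normalizer (K : Set G) := hN₁'N₁.trans hN₁K
  have h1 : (⁅N, N⁆ : Subgroup G) ≤ ⁅N₁, N₁⁆ ⊔ K := by
    rw [Subgroup.commutator_le]
    intro g₁ hg₁ g₂ hg₂
    rw [heq, sup_comm] at hg₁ hg₂
    obtain ⟨n₁, hn₁, k₁, hk₁, rfl⟩ := exists_mul_of_mem_sup_of_le_normalizer N₁ K hN₁K g₁ hg₁
    obtain ⟨n₂, hn₂, k₂, hk₂, rfl⟩ := exists_mul_of_mem_sup_of_le_normalizer N₁ K hN₁K g₂ hg₂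
    have e : ⁅n₁ * k₁, n₂ * k₂⁆ = ⁅n₁, n₂⁆ * ((n₂ * n₁ * n₂⁻¹) * k₁ * (n₂ * n₁ * n₂⁻¹)⁻¹ *
        ((n₂ * n₁) * (k₂ * k₁⁻¹) * (n₂ * n₁)⁻¹) * (n₂ * k₂⁻¹ * n₂⁻¹)) := by
      simp only [commutatorElement_def]
      group
    rw [e]
    refine mul_mem (mem_sup_left (Subgroup.commutator_mem_commutator hn₁ hn₂)) (mem_sup_right ?_)
    refine mul_mem (mul_mem ?_ ?_) ?_
    · exact conj_mem_of_mem_normalizer (hN₁K (mul_mem (mul_mem hn₂ hn₁) (inv_mem hn₂))) hk₁
    · exact conj_mem_of_mem_normalizer (hN₁K (mul_mem hn₂ hn₁)) (mul_mem hk₂ (inv_mem hk₁))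
    · exact conj_mem_of_mem_normalizer (hN₁K hn₂) (inv_mem hk₂)
  intro x hx
  obtain ⟨a, ha, k, hk, rfl⟩ := exists_mul_of_mem_sup_of_le_normalizer _ K hN₁'K x (h1 hx.2)
  have hkN₁ : k ∈ N₁ := by
    have : k = a⁻¹ * (a * k) := by group
    rw [this]
    exact mul_mem (inv_mem (hN₁'N₁ ha)) (hPN₁ hx.1)
  have hpow : ∀ m : ℕ, ∃ a' ∈ (⁅N₁, N₁⁆ : Subgroup G), (a * k) ^ m = a' * k ^ m := by
    intro m
    induction m with
    | zero => exact ⟨1, one_mem _, by simp⟩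
    | succ m ih =>
      obtain ⟨a', ha', hm⟩ := ih
      refine ⟨a' * (k ^ m * a * (k ^ m)⁻¹), mul_mem ha' ?_, ?_⟩
      · exact conj_mem_of_mem_normalizer (le_normalizer_commutator_self N₁ (pow_mem hkN₁ m)) ha
      · rw [pow_succ, hm, pow_succ]; group
  obtain ⟨a', ha', hr⟩ := hpow (Nat.card K)
  have hk1 : k ^ Nat.card K = 1 := by
    have h2 := orderOf_dvd_natCard (⟨k, hk⟩ : K)
    rw [Subgroup.orderOf_mk] at h2
    exact orderOf_dvd_iff_pow_eq_one.mp h2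
  have hx1 : (a * k) ^ Nat.card P = 1 := by
    have h2 := orderOf_dvd_natCard (⟨a * k, hx.1⟩ : P)
    rw [Subgroup.orderOf_mk] at h2
    exact orderOf_dvd_iff_pow_eq_one.mp h2
  apply mem_of_pow_mem_of_coprime _ (a * k) hcop
  · rw [hx1]; exact one_mem _
  · rw [hr, hk1, mul_one]; exact ha'

end frattini

end Cfsg.Agent.Lib.Helper23
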