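import Cfsg.Agent.Lib.Helper23.FitLocal
import Cfsg.Agent.Lib.Helper23.TransOver
import Cfsg.Agent.Lib.Helper10.FittingCent
import Cfsg.Agent.Lib.Helper22.FStar
import Cfsg.Agent.Lib.Helper24.PxQ
import Cfsg.Agent.Lib.Helper24.Coprime
import Cfsg.Agent.Lib.Helper54.Balance
import Cfsg.Agent.Lib.Helper21.SupNormalizer
import Cfsg.Agent.Lib.Helper55.Cores
import Cfsg.Agent.Lib.Helper24.SylowInv

set_option autoImplicit false

/-!
# Maximal local subgroups whose Fitting subgroup involves two primes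
-/

namespace Cfsg.Agent.Lib.Helper23

open Subgroup Cfsg Cfsg.Agent.Lib.Helper33 Cfsg.Agent.Lib.Helper24 Cfsg.Agent.Lib.Helper32

universe u

section typelevel

variable {T : Type u} [Group T] [Finite T]

/-- In a finite group `T`, a solvable subgroup `S'` normalized by `C_T(F(T))` meets `C_T(F(T))`
inside `F(T)`. -/
theorem centralizer_fitting_inf_le_fitting (S' : Subgroup T) (hS : Group.IsSolvable S')
    (hn : centralizer (fittingSubgroup T : Set T) ≤ normalizer (S' : Set T)) :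
    centralizer (fittingSubgroup T : Set T) ⊓ S' ≤ fittingSubgroup T := by
  haveI := Cfsg.Agent.Lib.Helper22.fittingSubgroup_normal T
  obtain ⟨X', hX'⟩ : ∃ X', X' = centralizer (fittingSubgroup T : Set T) := ⟨_, rfl⟩
  have hX'n : X'.Normal := hX' ▸ Subgroup.normal_centralizer
  rw [← hX'] at hn ⊢
  have hYn : X' ≤ normalizer ((X' ⊓ S' : Subgroup T) : Set T) :=
    le_normalizer_inf' le_normalizer hn
  have hsub : (X' ⊓ S' : Subgroup T).IsSubnormal :=
    IsSubnormal.step _ X' inf_le_left hX'n.isSubnormal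
      ((normal_subgroupOf_iff_le_normalizer inf_le_left).mpr hYn)
  have hF := Cfsg.Agent.Lib.Helper22.fitting_map_subtype_le hsub
  haveI : Group.IsSolvable ↥(X' ⊓ S' : Subgroup T) :=
    Group.isSolvable_of_isSolvable_injective (Subgroup.inclusion_injective (inf_le_right : X' ⊓ S' ≤ S'))
  have hc := Cfsg.Agent.Lib.Helper10.centralizer_fitting_le (G := ↥(X' ⊓ S' : Subgroup T))
  intro y hy
  have hy' : (⟨y, hy⟩ : ↥(X' ⊓ S' : Subgroup T)) ∈
      centralizer (fittingSubgroup ↥(X' ⊓ S' : Subgroup T) : Set ↥(X' ⊓ S' : Subgroup T)) := by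
    rw [mem_centralizer_iff]
    intro f hf
    have hfT : (f : T) ∈ fittingSubgroup T := hF ⟨f, hf, rfl⟩
    have hyX : y ∈ centralizer (fittingSubgroup T : Set T) := hX' ▸ hy.1
    have := mem_centralizer_iff.mp hyX _ hfT
    exact Subtype.ext this
  exact hF ⟨_, hc hy', rfl⟩

end typelevel

section amb

variable {G : Type u} [Group G] [Finite G]

/-- **Lemma C.** A solvable subgroup `S` normalized by `X = C_H(F(H))` meets `X` inside `F(H)`. -/
theorem centralizer_fittingOf_inf_le {H S : Subgroup G} (hS : Group.IsSolvable S)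
    (hXS : H ⊓ centralizer (fittingOf H : Set G) ≤ normalizer (S : Set G)) :
    H ⊓ centralizer (fittingOf H : Set G) ⊓ S ≤ fittingOf H := by
  have hS' : Group.IsSolvable ↥(S.subgroupOf H) := by
    haveI := hS
    let f : ↥(S.subgroupOf H) →* ↥S :=
      { toFun := fun x => ⟨(x : H), x.2⟩
        map_one' := rfl
        map_mul' := fun _ _ => rfl }
    have hf : Function.Injective f := by
      intro a b hab
      have := congrArg (fun z : S => (z : G)) hab
      exact Subtype.ext (Subtype.ext this)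
    exact Group.isSolvable_of_isSolvable_injective hf
  have hcoe : ∀ x : H, x ∈ centralizer (fittingSubgroup ↥H : Set ↥H) →
      (x : G) ∈ H ⊓ centralizer (fittingOf H : Set G) := by
    intro x hx
    refine ⟨x.2, ?_⟩
    show (x : G) ∈ centralizer (fittingOf H : Set G)
    rw [mem_centralizer_iff]
    rintro _ ⟨f, hf, rfl⟩
    have := mem_centralizer_iff.mp hx f hf
    exact congrArg Subtype.val this
  have hn : centralizer (fittingSubgroup ↥H : Set ↥H) ≤
      normalizer ((S.subgroupOf H : Subgroup ↥H) : Set ↥H) := by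
    intro x hx
    have h1 : (x : G) ∈ normalizer (S : Set G) := hXS (hcoe x hx)
    have h2 : x ∈ (normalizer (S : Set G)).subgroupOf H := mem_subgroupOf.mpr h1
    exact subgroupOf_le_normalizer_subgroupOf H le_rfl h2
  have key := centralizer_fitting_inf_le_fitting (S.subgroupOf H) hS' hn
  rintro g ⟨⟨hgH, hgC⟩, hgS⟩
  have hg1 : (⟨g, hgH⟩ : H) ∈ centralizer (fittingSubgroup ↥H : Set ↥H) := by
    rw [mem_centralizer_iff]
    intro f hf
    have := mem_centralizer_iff.mp hgC (f : G) ⟨f, hf, rfl⟩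
    exact Subtype.ext this
  exact ⟨⟨g, hgH⟩, key ⟨hg1, mem_subgroupOf.mpr hgS⟩, rfl⟩

/-- **Lemma B.** A subgroup of `H` of order prime to `|F(H)|` centralizing a self-centralizing
subgroup `M` of `F(H)` centralizes `F(H)`. -/
theorem le_centralizer_fittingOf_of_le_centralizer {H M Y : Subgroup G} (hM : M ≤ fittingOf H)
    (hCM : fittingOf H ⊓ centralizer (M : Set G) ≤ M) (hYH : Y ≤ H)
    (hcop : (Nat.card Y).Coprime (Nat.card (fittingOf H)))
    (hYM : Y ≤ centralizer (M : Set G)) : Y ≤ centralizer (fittingOf H : Set G) := by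
  rw [le_centralizer_iff]
  apply fittingOf_le_of_pCoreOf_le
  intro p _
  rw [← le_centralizer_iff]
  by_cases hp : p ∣ Nat.card (fittingOf H)
  · apply thompson_PxQ (M ⊓ pCoreOf p H) Y (pCoreOf p H)
      ((isPGroup_pCoreOf p H).to_le inf_le_right) (Nat.Coprime.coprime_dvd_right hp hcop)
      (isPGroup_pCoreOf p H)
    · exact inf_le_left.trans (le_centralizer_iff.mp hYM)
    · exact inf_le_right.trans le_normalizer
    · exact hYH.trans (le_normalizer_pCoreOf p H)
    · rintro x ⟨hxF, hxC⟩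
      have hxCM : x ∈ centralizer (M : Set G) := by
        have h1 : M ≤ centralizer ({x} : Set G) := by
          apply le_of_inf_pCoreOf_le hM
          intro r _
          by_cases hrp : r = p
          · subst hrp
            intro y hy
            rw [mem_centralizer_singleton_iff]
            exact (mem_centralizer_iff.mp hxC y hy)
          · intro y hy
            rw [mem_centralizer_singleton_iff]
            exact (mem_centralizer_iff.mp (pCoreOf_le_centralizer_pCoreOf hrp H hy.2) x hxF).symm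
        rw [mem_centralizer_iff]
        intro m hm
        exact mem_centralizer_singleton_iff.mp (h1 hm)
      have hxM : x ∈ M := hCM ⟨pCoreOf_le_fittingOf p H hxF, hxCM⟩
      exact le_centralizer_iff.mp hYM hxM
  · have hbot : pCoreOf p H = ⊥ := by
      rcases (isPGroup_pCoreOf p H).card_eq_or_dvd with h | h
      · exact Subgroup.card_eq_one.mp h
      · exact absurd (h.trans (card_dvd_of_le (pCoreOf_le_fittingOf p H))) hp
    intro y _
    rw [mem_centralizer_iff]
    intro g hg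
    have hg1 : g = 1 := by
      have hg' : g ∈ pCoreOf p H := hg
      rw [hbot] at hg'
      exact mem_bot.mp hg'
    rw [hg1, one_mul, mul_one]

/-- **Lemma E** (Goldschmidt). In a solvable subgroup `S`, a `p'`-subgroup `Y` centralizing a
`p`-subgroup `P` and normalized by `C_S(P)` lies in `O_{p'}(S)`. -/
theorem le_map_pPrimeCore_of_normalized {S P Y : Subgroup G} (hS : Group.IsSolvable S) (p : ℕ)
    [Fact p.Prime] (hPS : P ≤ S) (hP : IsPGroup p P) (hYS : Y ≤ S) (hY : (Nat.card Y).Coprime p)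
    (hYP : Y ≤ centralizer (P : Set G))
    (hnorm : S ⊓ centralizer (P : Set G) ≤ normalizer (Y : Set G)) :
    Y ≤ (pPrimeCore p ↥S).map S.subtype := by
  haveI := hS
  have key := Cfsg.Agent.Lib.Helper54.le_pPrimeCore_of_normalized_by_centralizer (H := ↥S) p
    (Cfsg.Agent.Lib.Helper54.centralizer_pCore_quotient_le_of_isSolvable p)
    (P.subgroupOf S) hP.comap_subtype (Y.subgroupOf S)
    (by rw [card_subgroupOf_eq_of_le hYS]; exact hY)
    (by
      intro y hy
      rw [mem_centralizer_iff]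
      intro x hx
      have := mem_centralizer_iff.mp (hYP (mem_subgroupOf.mp hy)) (x : G) (mem_subgroupOf.mp hx)
      exact Subtype.ext this)
    (by
      intro g hg y hy
      have hgC : (g : G) ∈ centralizer (P : Set G) := coe_mem_centralizer_of_subgroupOf hPS hg
      have hgN := hnorm ⟨g.2, hgC⟩
      rw [mem_subgroupOf]
      exact conj_mem_of_mem_normalizer hgN (mem_subgroupOf.mp hy))
  intro y hy
  exact ⟨⟨y, hYS hy⟩, key (mem_subgroupOf.mpr hy), rfl⟩

end amb

section misc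

variable {G : Type u} [Group G]

theorem le_normalizer_iInf' {ι : Sort*} {A : Subgroup G} {f : ι → Subgroup G}
    (h : ∀ i, A ≤ normalizer ((f i : Subgroup G) : Set G)) :
    A ≤ normalizer ((⨅ i, f i : Subgroup G) : Set G) := by
  intro a ha
  rw [mem_normalizer_iff]
  intro x
  simp only [mem_iInf]
  constructor
  · intro hx i
    exact (mem_normalizer_iff.mp (h i ha) x).mp (hx i)
  · intro hx i
    exact (mem_normalizer_iff.mp (h i ha) x).mpr (hx i)

theorem coprime_card_of_isPi {n : ℕ} {W : Subgroup G}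
    (hW : Cfsg.Agent.Lib.Helper62.IsPi (primesNotDvd n) W) : (Nat.card W).Coprime n :=
  Nat.coprime_of_dvd (fun k hk hkW hkn => (hW k hk hkW).2 hkn)

/-- a member of `И_R(M; q)` is a `q`-group -/
theorem isPGroup_of_mem_invSubgroups' {R M Y : Subgroup G} {q : ℕ} [Fact q.Prime] [Finite G]
    (hY : Y ∈ invSubgroups R M {q}) : IsPGroup q Y := by
  have h : ∀ {d : ℕ}, d.Prime → d ∣ Nat.card Y → d = q := fun hd hdd => hY.2.1 _ hd hdd
  have := Nat.eq_prime_pow_of_unique_prime_dvd (Nat.card_pos (α := Y)).ne' h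
  exact IsPGroup.of_card this

end misc

section ctx

variable {G : Type u} [Group G] [Finite G]

/-- hypotheses: `H` a maximal local subgroup, `M ≤ F(H)` self-centralizing in `F(H)` -/
structure MaxLocalCtx (H M : Subgroup G) : Prop where
  hmax : ∀ L : Subgroup G, IsLocalSubgroup L → H ≤ L → L = H
  hF2 : 2 ≤ (Nat.card (fittingOf H)).primeFactors.card
  hM : M ≤ fittingOf H
  hCM : fittingOf H ⊓ centralizer (M : Set G) ≤ M

/-- the `r`-part of `Z(F(H))` -/
def zPart (r : ℕ) (H : Subgroup G) : Subgroup G :=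
  pCoreOf r H ⊓ centralizer (fittingOf H : Set G)

theorem isPGroup_zPart (r : ℕ) [Fact r.Prime] (H : Subgroup G) : IsPGroup r (zPart r H) :=
  (isPGroup_pCoreOf r H).to_le inf_le_left

theorem zPart_le_fittingOf (r : ℕ) [Fact r.Prime] (H : Subgroup G) : zPart r H ≤ fittingOf H :=
  inf_le_left.trans (pCoreOf_le_fittingOf r H)

theorem le_normalizer_zPart (r : ℕ) (H : Subgroup G) :
    H ≤ normalizer ((zPart r H : Subgroup G) : Set G) :=
  le_normalizer_inf' (le_normalizer_pCoreOf r H)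
    (le_normalizer_centralizer' (le_normalizer_fittingOf H))

theorem zPart_ne_bot {r : ℕ} [Fact r.Prime] {H : Subgroup G}
    (hr : r ∣ Nat.card (fittingOf H)) : zPart r H ≠ ⊥ := by
  have hne : pCoreOf r H ≠ ⊥ := pCoreOf_ne_bot_of_dvd hr
  haveI : Nontrivial ↥(pCoreOf r H) := (Subgroup.nontrivial_iff_ne_bot _).mpr hne
  haveI := (isPGroup_pCoreOf r H).center_nontrivial
  obtain ⟨z, hz1⟩ := exists_ne (1 : ↥(center ↥(pCoreOf r H)))
  have hzc : ∀ y ∈ pCoreOf r H, y * (z : pCoreOf r H) = (z : pCoreOf r H) * y := by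
    intro y hy
    have h1 := (mem_center_iff.mp z.2) ⟨y, hy⟩
    exact congrArg Subtype.val h1
  have hz : ((z : pCoreOf r H) : G) ∈ zPart r H := by
    refine ⟨(z : pCoreOf r H).2, ?_⟩
    have h1 : fittingOf H ≤ centralizer ({((z : pCoreOf r H) : G)} : Set G) := by
      apply fittingOf_le_of_pCoreOf_le
      intro s _
      by_cases hsr : s = r
      · subst hsr
        intro y hy
        rw [mem_centralizer_singleton_iff]
        exact hzc y hy
      · intro y hy
        rw [mem_centralizer_singleton_iff]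
        exact (mem_centralizer_iff.mp (pCoreOf_le_centralizer_pCoreOf hsr H hy) _
          (z : pCoreOf r H).2).symm
    show ((z : pCoreOf r H) : G) ∈ centralizer (fittingOf H : Set G)
    rw [mem_centralizer_iff]
    intro f hf
    exact mem_centralizer_singleton_iff.mp (h1 hf)
  intro hbot
  rw [hbot, mem_bot] at hz
  apply hz1
  apply Subtype.ext
  apply Subtype.ext
  simpa using hz

namespace MaxLocalCtx

variable {H M : Subgroup G} (c : MaxLocalCtx H M)
include c

theorem centralizer_zPart_le {r : ℕ} [Fact r.Prime] (hr : r ∣ Nat.card (fittingOf H)) :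
    centralizer ((zPart r H : Subgroup G) : Set G) ≤ H := by
  have hloc : IsLocalSubgroup (normalizer ((zPart r H : Subgroup G) : Set G)) :=
    ⟨r, zPart r H, Fact.out, isPGroup_zPart r H, zPart_ne_bot hr, rfl⟩
  have := c.hmax _ hloc (le_normalizer_zPart r H)
  calc centralizer ((zPart r H : Subgroup G) : Set G)
      ≤ normalizer ((zPart r H : Subgroup G) : Set G) := centralizer_le_normalizer _
    _ = H := this

theorem zPart_le (r : ℕ) [Fact r.Prime] : zPart r H ≤ M := by
  intro x hx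
  exact c.hCM ⟨zPart_le_fittingOf r H hx, centralizer_le c.hM hx.2⟩

theorem le_centralizer_zPart (r : ℕ) : M ≤ centralizer ((zPart r H : Subgroup G) : Set G) := by
  rw [le_centralizer_iff]
  exact inf_le_right.trans (centralizer_le c.hM)

theorem exists_prime_ne (p : ℕ) : ∃ r : ℕ, r.Prime ∧ r ∣ Nat.card (fittingOf H) ∧ r ≠ p := by
  have h1 : 1 < (Nat.card (fittingOf H)).primeFactors.card := c.hF2
  by_cases hp : p ∈ (Nat.card (fittingOf H)).primeFactors
  · obtain ⟨r, hr, hne⟩ := Finset.exists_mem_ne h1 p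
    exact ⟨r, Nat.prime_of_mem_primeFactors hr, Nat.dvd_of_mem_primeFactors hr, hne⟩
  · obtain ⟨r, hr⟩ := Finset.card_pos.mp (by omega : 0 < (Nat.card (fittingOf H)).primeFactors.card)
    refine ⟨r, Nat.prime_of_mem_primeFactors hr, Nat.dvd_of_mem_primeFactors hr, ?_⟩
    rintro rfl
    exact hp hr

/-- **Lemma D.** `Z(F)_r` acts fixed-point-freely on `M`-invariant `π(F)'`-subgroups of a solvable
group normalized by `C_H(F)`. -/
theorem inf_centralizer_zPart_eq_bot {S Q : Subgroup G} (hS : Group.IsSolvable S)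
    (hXS : H ⊓ centralizer (fittingOf H : Set G) ≤ normalizer (S : Set G)) (hQS : Q ≤ S)
    (hMQ : M ≤ normalizer (Q : Set G))
    (hcop : (Nat.card Q).Coprime (Nat.card (fittingOf H)))
    {r : ℕ} [Fact r.Prime] (hr : r ∣ Nat.card (fittingOf H)) :
    Q ⊓ centralizer ((zPart r H : Subgroup G) : Set G) = ⊥ := by
  obtain ⟨Q₀, hQ₀⟩ : ∃ Q₀, Q₀ = Q ⊓ centralizer ((zPart r H : Subgroup G) : Set G) := ⟨_, rfl⟩
  rw [← hQ₀]
  have hQ₀Q : Q₀ ≤ Q := hQ₀ ▸ inf_le_left
  have hQ₀H : Q₀ ≤ H := hQ₀ ▸ inf_le_right.trans (c.centralizer_zPart_le hr)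
  have hMZ : M ≤ normalizer ((zPart r H : Subgroup G) : Set G) :=
    (c.le_centralizer_zPart r).trans (centralizer_le_normalizer _)
  have hMQ₀ : M ≤ normalizer (Q₀ : Set G) :=
    hQ₀ ▸ le_normalizer_inf' hMQ (le_normalizer_centralizer' hMZ)
  have hcop₀ : (Nat.card Q₀).Coprime (Nat.card (fittingOf H)) :=
    Nat.Coprime.coprime_dvd_left (card_dvd_of_le hQ₀Q) hcop
  have hdisj : Q₀ ⊓ fittingOf H = ⊥ := (Subgroup.disjoint_of_coprime_natCard hcop₀).eq_bot
  have hQ₀M : Q₀ ≤ centralizer (M : Set G) := by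
    intro x hx
    rw [mem_centralizer_iff]
    intro m hm
    have h1 : x * m * x⁻¹ * m⁻¹ ∈ fittingOf H :=
      mul_mem (conj_mem_of_mem_normalizer (le_normalizer_fittingOf H (hQ₀H hx)) (c.hM hm))
        (inv_mem (c.hM hm))
    have h2 : x * m * x⁻¹ * m⁻¹ ∈ Q₀ := by
      have h3 : m * x⁻¹ * m⁻¹ ∈ Q₀ := conj_mem_of_mem_normalizer (hMQ₀ hm) (inv_mem hx)
      have e : x * m * x⁻¹ * m⁻¹ = x * (m * x⁻¹ * m⁻¹) := by group
      rw [e]; exact mul_mem hx h3
    have h4 : x * m * x⁻¹ * m⁻¹ ∈ Q₀ ⊓ fittingOf H := ⟨h2, h1⟩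
    rw [hdisj, mem_bot] at h4
    calc m * x = (x * m * x⁻¹ * m⁻¹)⁻¹ * (x * m) := by group
      _ = x * m := by rw [h4, inv_one, one_mul]
  have hQ₀F : Q₀ ≤ centralizer (fittingOf H : Set G) :=
    le_centralizer_fittingOf_of_le_centralizer c.hM c.hCM hQ₀H hcop₀ hQ₀M
  have hQ₀F' : Q₀ ≤ fittingOf H :=
    (le_inf (le_inf hQ₀H hQ₀F) (hQ₀Q.trans hQS)).trans (centralizer_fittingOf_inf_le hS hXS)
  rw [eq_bot_iff, ← hdisj]
  exact le_inf le_rfl hQ₀F'

/-- **Main step.** An `M`-invariant `π(F)'`-subgroup of `R` lies in `O_{p'}(RM)` for `p ∈ π(F)`. -/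
theorem le_map_pPrimeCore_sup {R Q : Subgroup G} (hR : Group.IsSolvable R)
    (hMR : M ≤ normalizer (R : Set G))
    (hXR : H ⊓ centralizer (fittingOf H : Set G) ≤ normalizer (R : Set G)) (hQR : Q ≤ R)
    (hMQ : M ≤ normalizer (Q : Set G))
    (hcop : (Nat.card Q).Coprime (Nat.card (fittingOf H)))
    {p : ℕ} [Fact p.Prime] (hp : p ∣ Nat.card (fittingOf H)) :
    Q ≤ (pPrimeCore p ↥(R ⊔ M : Subgroup G)).map (R ⊔ M : Subgroup G).subtype := by
  obtain ⟨r, hrp, hr, hne⟩ := c.exists_prime_ne p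
  haveI : Fact r.Prime := ⟨hrp⟩
  have hMsolv : Group.IsSolvable M := by
    haveI : Group.IsNilpotent ↥(fittingSubgroup ↥H) :=
      Cfsg.Agent.Lib.Helper22.fittingSubgroup_isNilpotent
    haveI : Group.IsSolvable ↥(fittingOf H) := by
      have e : ↥(fittingSubgroup ↥H) ≃* ↥(fittingOf H) :=
        (fittingSubgroup ↥H).equivMapOfInjective H.subtype H.subtype_injective
      exact Group.isSolvable_of_isSolvable_injective (f := e.symm.toMonoidHom) e.symm.injective
    exact Group.isSolvable_of_isSolvable_injective (Subgroup.inclusion_injective c.hM)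
  have hSsolv : Group.IsSolvable ↥(R ⊔ M : Subgroup G) :=
    Cfsg.Agent.Lib.Helper21.sup_isSolvable hMR hR hMsolv
  obtain ⟨S, hSdef⟩ : ∃ S, S = R ⊔ M := ⟨_, rfl⟩
  rw [← hSdef] at hSsolv ⊢
  have hRS : R ≤ S := hSdef ▸ le_sup_left
  have hMS : M ≤ S := hSdef ▸ le_sup_right
  -- `Z_r ≤ O_{p'}(S)`
  have hZO : zPart r H ≤ (pPrimeCore p ↥S).map S.subtype := by
    apply le_map_pPrimeCore_of_normalized hSsolv p ((c.zPart_le p).trans hMS) (isPGroup_zPart p H)
      ((c.zPart_le r).trans hMS)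
    · obtain ⟨k, hk⟩ := (isPGroup_zPart r H).exists_card_eq
      rw [hk]
      exact Nat.Coprime.pow_left k ((Nat.coprime_primes hrp Fact.out).mpr hne)
    · exact inf_le_right.trans (centralizer_le (zPart_le_fittingOf p H))
    · exact inf_le_right.trans ((c.centralizer_zPart_le hp).trans (le_normalizer_zPart r H))
  have hSO : S ≤ normalizer (((pPrimeCore p ↥S).map S.subtype : Subgroup G) : Set G) := by
    haveI := Cfsg.Agent.Lib.Helper22.pPrimeCore_normal' p ↥S
    exact le_normalizer_map_subtype_of_normal S _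
  -- `Q = [Q, Z_r]`
  have hZQ : zPart r H ≤ normalizer (Q : Set G) := (c.zPart_le r).trans hMQ
  have hcopZ : (Nat.card (zPart r H)).Coprime (Nat.card Q) := by
    obtain ⟨k, hk⟩ := (isPGroup_zPart r H).exists_card_eq
    rw [hk]
    apply Nat.Coprime.pow_left
    rw [Nat.Prime.coprime_iff_not_dvd hrp]
    intro hd
    have h1 : r ∣ Nat.gcd (Nat.card Q) (Nat.card (fittingOf H)) := Nat.dvd_gcd hd hr
    rw [hcop.gcd_eq_one] at h1
    exact hrp.one_lt.ne' (Nat.dvd_one.mp h1)
  have hZsolv : Group.IsSolvable ↥(zPart r H) := by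
    haveI := (isPGroup_zPart r H).isNilpotent
    infer_instance
  have hdec := commutator_sup_centralizer_eq (zPart r H) Q hZQ hcopZ (Or.inl hZsolv)
  rw [c.inf_centralizer_zPart_eq_bot hR hXR hQR hMQ hcop hr, sup_bot_eq] at hdec
  rw [← hdec, Subgroup.commutator_le]
  intro a ha b hb
  have hbO := hZO hb
  rw [commutatorElement_def]
  exact mul_mem (conj_mem_of_mem_normalizer (hSO (hRS (hQR ha))) hbO) (inv_mem hbO)

/-- An `M`-invariant `π(F)'`-subgroup of `R` lies in `O_{π(F)'}(R)`. -/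
theorem le_piCoreOf_of_invariant {R Q : Subgroup G} (hR : Group.IsSolvable R)
    (hMR : M ≤ normalizer (R : Set G))
    (hXR : H ⊓ centralizer (fittingOf H : Set G) ≤ normalizer (R : Set G)) (hQR : Q ≤ R)
    (hMQ : M ≤ normalizer (Q : Set G))
    (hcop : (Nat.card Q).Coprime (Nat.card (fittingOf H))) :
    Q ≤ piCoreOf (primesNotDvd (Nat.card (fittingOf H))) R := by
  obtain ⟨f, hf⟩ : ∃ f : {p : ℕ // p.Prime ∧ p ∣ Nat.card (fittingOf H)} → Subgroup G,
      f = fun p => (pPrimeCore p.1 ↥(R ⊔ M : Subgroup G)).map (R ⊔ M : Subgroup G).subtype :=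
    ⟨_, rfl⟩
  have hQW : Q ≤ R ⊓ ⨅ i, f i := by
    refine le_inf hQR (le_iInf fun i => ?_)
    haveI : Fact i.1.Prime := ⟨i.2.1⟩
    rw [hf]
    exact c.le_map_pPrimeCore_sup hR hMR hXR hQR hMQ hcop i.2.2
  refine hQW.trans (le_piCoreOf inf_le_left ?_ ?_)
  · apply le_normalizer_inf' le_normalizer
    apply le_normalizer_iInf'
    intro i
    rw [hf]
    haveI := Cfsg.Agent.Lib.Helper22.pPrimeCore_normal' i.1 ↥(R ⊔ M : Subgroup G)
    exact le_sup_left.trans (le_normalizer_map_subtype_of_normal (R ⊔ M : Subgroup G) _)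
  · intro ℓ hℓ hℓd
    refine ⟨hℓ, fun hℓF => ?_⟩
    have h1 : R ⊓ ⨅ i, f i ≤ f ⟨ℓ, hℓ, hℓF⟩ := inf_le_right.trans (iInf_le _ _)
    have h2 : ℓ ∣ Nat.card (f ⟨ℓ, hℓ, hℓF⟩) := hℓd.trans (card_dvd_of_le h1)
    have h3 : (Nat.card (f ⟨ℓ, hℓ, hℓF⟩)).Coprime ℓ := by
      rw [hf]
      show (Nat.card ((pPrimeCore ℓ ↥(R ⊔ M : Subgroup G)).map
        (R ⊔ M : Subgroup G).subtype)).Coprime ℓ
      rw [Subgroup.card_map_of_injective (R ⊔ M : Subgroup G).subtype_injective]
      exact Cfsg.Agent.Lib.Helper55.pPrimeCore_card_coprime ℓ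
    have h4 : ℓ ∣ Nat.gcd (Nat.card (f ⟨ℓ, hℓ, hℓF⟩)) ℓ := Nat.dvd_gcd h2 dvd_rfl
    rw [h3.gcd_eq_one] at h4
    exact hℓ.one_lt.ne' (Nat.dvd_one.mp h4)

theorem piCoreOf_inf_centralizer_eq_bot {R : Subgroup G} (hR : Group.IsSolvable R)
    (hXR : H ⊓ centralizer (fittingOf H : Set G) ≤ normalizer (R : Set G)) :
    piCoreOf (primesNotDvd (Nat.card (fittingOf H))) R ⊓ centralizer (M : Set G) = ⊥ := by
  obtain ⟨r, hrp, hr, -⟩ := c.exists_prime_ne 0
  haveI : Fact r.Prime := ⟨hrp⟩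
  obtain ⟨Y, hY⟩ : ∃ Y, Y = piCoreOf (primesNotDvd (Nat.card (fittingOf H))) R ⊓
      centralizer (M : Set G) := ⟨_, rfl⟩
  rw [← hY]
  have hYK : Y ≤ piCoreOf (primesNotDvd (Nat.card (fittingOf H))) R := hY ▸ inf_le_left
  have hYM : Y ≤ centralizer (M : Set G) := hY ▸ inf_le_right
  have hYH : Y ≤ H :=
    hYM.trans ((centralizer_le (c.zPart_le r)).trans (c.centralizer_zPart_le hr))
  have hcopK : (Nat.card (piCoreOf (primesNotDvd (Nat.card (fittingOf H))) R)).Coprime
      (Nat.card (fittingOf H)) := coprime_card_of_isPi (isPi_piCoreOf _ _)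
  have hcopY : (Nat.card Y).Coprime (Nat.card (fittingOf H)) :=
    Nat.Coprime.coprime_dvd_left (card_dvd_of_le hYK) hcopK
  have hYF := le_centralizer_fittingOf_of_le_centralizer c.hM c.hCM hYH hcopY hYM
  have hYF' : Y ≤ fittingOf H :=
    (le_inf (le_inf hYH hYF) (hYK.trans (piCoreOf_le _ _))).trans
      (centralizer_fittingOf_inf_le hR hXR)
  have hdisj : Y ⊓ fittingOf H = ⊥ := (Subgroup.disjoint_of_coprime_natCard hcopY).eq_bot
  rw [eq_bot_iff, ← hdisj]
  exact le_inf le_rfl hYF'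

/-- The theorem: a unique maximal `M`-invariant `q`-subgroup of `R`, Sylow in `O_{π(F)'}(R)`. -/
theorem existsUnique_maxInv {R : Subgroup G} (hR : Group.IsSolvable R)
    (hMR : M ≤ normalizer (R : Set G))
    (hXR : H ⊓ centralizer (fittingOf H : Set G) ≤ normalizer (R : Set G))
    {q : ℕ} [Fact q.Prime] (hq : ¬ q ∣ Nat.card (fittingOf H)) :
    ∃! Q : Subgroup G, Q ∈ maxInvSubgroups R M {q} ∧
      (∀ Q' : Subgroup G, Q' ∈ maxInvSubgroups R M {q} →
        Q' ≤ piCoreOf (primesNotDvd (Nat.card (fittingOf H))) R ∧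
        ¬ q ∣ Q'.relIndex (piCoreOf (primesNotDvd (Nat.card (fittingOf H))) R)) := by
  have hqp : q.Prime := Fact.out
  obtain ⟨K, hK⟩ : ∃ K, K = piCoreOf (primesNotDvd (Nat.card (fittingOf H))) R := ⟨_, rfl⟩
  rw [← hK]
  have hKR : K ≤ R := hK ▸ piCoreOf_le _ _
  have hMK : M ≤ normalizer (K : Set G) :=
    hK ▸ hMR.trans (normalizer_le_normalizer_piCoreOf _ _)
  have hcopK : (Nat.card K).Coprime (Nat.card (fittingOf H)) :=
    hK ▸ coprime_card_of_isPi (isPi_piCoreOf _ _)
  have hcopMK : (Nat.card M).Coprime (Nat.card K) :=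
    (Nat.Coprime.coprime_dvd_right (card_dvd_of_le c.hM) hcopK).symm
  have hKsolv : Group.IsSolvable K := by
    haveI := hR
    exact Group.isSolvable_of_isSolvable_injective (Subgroup.inclusion_injective hKR)
  have hCK : K ⊓ centralizer (M : Set G) = ⊥ := hK ▸ c.piCoreOf_inf_centralizer_eq_bot hR hXR
  obtain ⟨P, hP⟩ := exists_invariant_sylow (p := q) M K hMK hcopMK (Or.inr hKsolv)
  obtain ⟨hQK, hQp, hQi⟩ := sylow_map_facts K P
  have huniq : ∀ P' : Sylow q K,
      M ≤ normalizer (((P' : Subgroup K).map K.subtype : Subgroup G) : Set G) →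
      (P' : Subgroup K).map K.subtype = (P : Subgroup K).map K.subtype := by
    intro P' hP'
    obtain ⟨x, hx, hxP⟩ := invariant_sylow_conj M K hMK hcopMK (Or.inr hKsolv) P' P hP' hP
    rw [hCK, mem_bot] at hx
    rw [← hxP, hx, cj_one]
  have hle : ∀ Y ∈ invSubgroups R M {q}, Y ≤ (P : Subgroup K).map K.subtype := by
    intro Y hY
    have hYp : IsPGroup q Y := isPGroup_of_mem_invSubgroups' hY
    have hYcop : (Nat.card Y).Coprime (Nat.card (fittingOf H)) := by
      obtain ⟨k, hk⟩ := hYp.exists_card_eq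
      rw [hk]
      exact Nat.Coprime.pow_left k ((Nat.Prime.coprime_iff_not_dvd hqp).mpr hq)
    have hYK : Y ≤ K := hK ▸ c.le_piCoreOf_of_invariant hR hMR hXR hY.1 hY.2.2 hYcop
    obtain ⟨P', hYP', hMP'⟩ := invariant_pSubgroup_le_sylow M K hMK hcopMK (Or.inr hKsolv) Y hYK
      hYp hY.2.2
    rw [← huniq P' hMP']
    exact hYP'
  have hQmem : (P : Subgroup K).map K.subtype ∈ invSubgroups R M {q} := by
    refine ⟨hQK.trans hKR, ?_, hP⟩
    intro r hr hrd
    obtain ⟨k, hk⟩ := hQp.exists_card_eq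
    rw [hk] at hrd
    exact (Nat.prime_dvd_prime_iff_eq hr hqp).mp (hr.dvd_of_dvd_pow hrd)
  have hQmax : (P : Subgroup K).map K.subtype ∈ maxInvSubgroups R M {q} :=
    ⟨hQmem, fun Y hY hle' => le_antisymm (hle Y hY) hle'⟩
  have hall : ∀ Q' ∈ maxInvSubgroups R M {q}, Q' = (P : Subgroup K).map K.subtype := by
    intro Q' hQ'
    exact (hQ'.2 _ hQmem (hle Q' hQ'.1)).symm
  refine ⟨(P : Subgroup K).map K.subtype, ⟨hQmax, fun Q' hQ' => ?_⟩, fun Q₂ hQ₂ => hall Q₂ hQ₂.1⟩
  rw [hall Q' hQ']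
  exact ⟨hQK, hQi⟩

end MaxLocalCtx

end ctx

end Cfsg.Agent.Lib.Helper23
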