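import Cfsg.Agent.Lib.Helper23.OddStable
import Cfsg.Agent.Lib.Helper23.MaxLocalFit
import Cfsg.Agent.Lib.Helper47.PCoreOf2
import Cfsg.Agent.Lib.Helper30.PPrimeCore

set_option autoImplicit false
set_option linter.style.haveILetI false

/-!
# Generic subgroup-level lemmas for the Fitting-overgroup uniqueness theorem

`pPrimeCoreOf p X` (= `O_{p'}(X)` inside `G`), Sylow subgroups relative to a subgroup, a Frattini
argument for `Z(J(S))`.
-/

namespace Cfsg.Agent.Lib.Helper23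

open Subgroup Cfsg Cfsg.Agent.Lib.Helper33 Cfsg.Agent.Lib.Helper24 Cfsg.Agent.Lib.Helper32

universe u

section generic

variable {G : Type u} [Group G]

/-- two subgroups normalizing each other and meeting trivially commute -/
theorem le_centralizer_of_normalize_of_inf_eq_bot {A B : Subgroup G}
    (hAB : A ≤ normalizer (B : Set G)) (hBA : B ≤ normalizer (A : Set G)) (hd : A ⊓ B = ⊥) :
    A ≤ centralizer (B : Set G) := by
  intro a ha
  rw [mem_centralizer_iff]
  intro b hb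
  have h1 : a * b * a⁻¹ * b⁻¹ ∈ A ⊓ B := by
    refine ⟨?_, ?_⟩
    · have h2 : b * a⁻¹ * b⁻¹ ∈ A := (mem_normalizer_iff.mp (hBA hb) a⁻¹).mp (A.inv_mem ha)
      have h3 : a * (b * a⁻¹ * b⁻¹) ∈ A := A.mul_mem ha h2
      have h4 : a * (b * a⁻¹ * b⁻¹) = a * b * a⁻¹ * b⁻¹ := by group
      rwa [h4] at h3
    · have h2 : a * b * a⁻¹ ∈ B := (mem_normalizer_iff.mp (hAB ha) b).mp hb
      exact B.mul_mem h2 (B.inv_mem hb)
  rw [hd, mem_bot] at h1
  have h5 : b * a = (a * b * a⁻¹ * b⁻¹)⁻¹ * (a * b) := by group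
  rw [h5, h1, inv_one, one_mul]

/-- `O_{p'}(X)` as a subgroup of the ambient group -/
def pPrimeCoreOf (p : ℕ) (X : Subgroup G) : Subgroup G := (pPrimeCore p ↥X).map X.subtype

theorem pPrimeCoreOf_le (p : ℕ) (X : Subgroup G) : pPrimeCoreOf p X ≤ X := map_subtype_le _

theorem le_normalizer_pPrimeCoreOf (p : ℕ) (X : Subgroup G) :
    X ≤ normalizer ((pPrimeCoreOf p X : Subgroup G) : Set G) := by
  haveI := Cfsg.Agent.Lib.Helper22.pPrimeCore_normal' p ↥X
  exact le_normalizer_map_subtype_of_normal X _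

theorem normalizer_le_normalizer_pPrimeCoreOf (p : ℕ) (X : Subgroup G) :
    normalizer (X : Set G) ≤ normalizer ((pPrimeCoreOf p X : Subgroup G) : Set G) :=
  Cfsg.Agent.Lib.Helper47.normalizer_le_normalizer_map_characteristic X (pPrimeCore p ↥X)

theorem card_pPrimeCoreOf_coprime [Finite G] (p : ℕ) (X : Subgroup G) :
    (Nat.card (pPrimeCoreOf p X)).Coprime p := by
  unfold pPrimeCoreOf
  rw [Nat.card_congr (Subgroup.equivMapOfInjective _ _ X.subtype_injective).symm.toEquiv]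
  exact Cfsg.Agent.Lib.Helper55.pPrimeCore_card_coprime p

theorem le_pPrimeCoreOf {p : ℕ} {W X : Subgroup G} (hWX : W ≤ X)
    (hN : X ≤ normalizer (W : Set G)) (hc : (Nat.card W).Coprime p) : W ≤ pPrimeCoreOf p X := by
  haveI h1 : (W.subgroupOf X).Normal := Subgroup.normal_subgroupOf_of_le_normalizer hN
  have h2 : (Nat.card (W.subgroupOf X)).Coprime p := by
    rw [Nat.card_congr (Subgroup.subgroupOfEquivOfLe hWX).toEquiv]
    exact hc
  have h3 : W.subgroupOf X ≤ pPrimeCore p ↥X := Cfsg.Agent.Lib.Helper30.le_pPrimeCore p _ h2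
  have h4 := Subgroup.map_mono (f := X.subtype) h3
  rw [Subgroup.subgroupOf_map_subtype, inf_of_le_left hWX] at h4
  exact h4

theorem pPrimeCore_eq_bot_iff (p : ℕ) (X : Subgroup G) :
    pPrimeCore p ↥X = ⊥ ↔ pPrimeCoreOf p X = ⊥ := by
  unfold pPrimeCoreOf
  exact (Subgroup.map_eq_bot_iff_of_injective _ Subtype.coe_injective).symm

/-- `O_{p'}(X)` commutes with `O_p(X)` -/
theorem pPrimeCoreOf_le_centralizer_pCoreOf [Finite G] (p : ℕ) [Fact p.Prime] (X : Subgroup G) :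
    pPrimeCoreOf p X ≤ centralizer ((pCoreOf p X : Subgroup G) : Set G) := by
  apply le_centralizer_of_normalize_of_inf_eq_bot
  · exact (pPrimeCoreOf_le p X).trans (le_normalizer_pCoreOf p X)
  · exact (pCoreOf_le p X).trans (le_normalizer_pPrimeCoreOf p X)
  · apply Disjoint.eq_bot
    apply Subgroup.disjoint_of_coprime_natCard
    obtain ⟨k, hk⟩ := IsPGroup.iff_card.mp (isPGroup_pCoreOf p X)
    rw [hk]
    exact Nat.Coprime.pow_right k (card_pPrimeCoreOf_coprime p X)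

/-- in a solvable `X` with `O_{p'}(X) = 1`: `C_X(O_p(X)) ≤ O_p(X)` -/
theorem inf_centralizer_pCoreOf_le [Finite G] {p : ℕ} [Fact p.Prime] {X : Subgroup G}
    (hX : Group.IsSolvable ↥X) (hcore : pPrimeCoreOf p X = ⊥) :
    X ⊓ centralizer ((pCoreOf p X : Subgroup G) : Set G) ≤ pCoreOf p X := by
  haveI := hX
  have hc := Cfsg.Agent.Lib.Helper55.centralizer_pCore_le (G := ↥X) p
    ((pPrimeCore_eq_bot_iff p X).mpr hcore)
  rintro g ⟨hgX, hgc⟩
  have h1 : (⟨g, hgX⟩ : ↥X) ∈ centralizer ((pCore p ↥X : Subgroup ↥X) : Set ↥X) := by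
    rw [mem_centralizer_iff]
    intro y hy
    apply Subtype.ext
    exact (mem_centralizer_iff.mp hgc) (y : G) ⟨y, hy, rfl⟩
  exact ⟨⟨g, hgX⟩, hc h1, rfl⟩

/-- `O_{p'}(V) = 1` for `O_p(X) ≤ V ≤ X` when `X` is solvable with `O_{p'}(X) = 1` -/
theorem pPrimeCoreOf_eq_bot_of_pCoreOf_le [Finite G] {p : ℕ} [Fact p.Prime] {X V : Subgroup G}
    (hX : Group.IsSolvable ↥X) (hcore : pPrimeCoreOf p X = ⊥) (hVX : V ≤ X)
    (hRV : pCoreOf p X ≤ V) : pPrimeCoreOf p V = ⊥ := by
  obtain ⟨W, hW⟩ : ∃ W, W = pPrimeCoreOf p V := ⟨_, rfl⟩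
  rw [← hW]
  have hWV : W ≤ V := hW ▸ pPrimeCoreOf_le p V
  have hd : W ⊓ pCoreOf p X = ⊥ := by
    apply Disjoint.eq_bot
    apply Subgroup.disjoint_of_coprime_natCard
    obtain ⟨k, hk⟩ := IsPGroup.iff_card.mp (isPGroup_pCoreOf p X)
    rw [hk, hW]
    exact Nat.Coprime.pow_right k (card_pPrimeCoreOf_coprime p V)
  have hc : W ≤ centralizer ((pCoreOf p X : Subgroup G) : Set G) := by
    apply le_centralizer_of_normalize_of_inf_eq_bot _ _ hd
    · exact (hWV.trans hVX).trans (le_normalizer_pCoreOf p X)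
    · exact hRV.trans (hW ▸ le_normalizer_pPrimeCoreOf p V)
  have h1 : W ≤ pCoreOf p X :=
    (le_inf (hWV.trans hVX) hc).trans (inf_centralizer_pCoreOf_le hX hcore)
  rw [← hd]
  exact le_antisymm (le_inf le_rfl h1) inf_le_left

end generic

section sylow

variable {G : Type u} [Group G] [Finite G] {p : ℕ} [Fact p.Prime]

/-- existence of a Sylow `p`-subgroup of a subgroup, at the subgroup level -/
theorem exists_sylowIn (V : Subgroup G) :
    ∃ S : Subgroup G, S ≤ V ∧ IsPGroup p S ∧ ¬ p ∣ S.relIndex V := by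
  obtain ⟨P⟩ : Nonempty (Sylow p ↥V) := inferInstance
  exact ⟨_, sylow_map_facts V P⟩

/-- a Sylow `p`-subgroup of `V` is a maximal `p`-subgroup of `V` -/
theorem sylowIn_max {V S S' : Subgroup G} (hSi : ¬ p ∣ S.relIndex V) (hSS' : S ≤ S')
    (hS'V : S' ≤ V) (hS' : IsPGroup p S') : S' = S := by
  have h1 := Subgroup.relIndex_mul_relIndex S S' V hSS' hS'V
  obtain ⟨k, hk⟩ : ∃ k, S.relIndex S' = p ^ k := by
    have : IsPGroup p ↥S' := hS'
    exact IsPGroup.index this (S.subgroupOf S')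
  rcases Nat.eq_zero_or_pos k with rfl | hpos
  · rw [pow_zero] at hk
    exact le_antisymm (Subgroup.relIndex_eq_one.mp hk) hSS'
  · exfalso
    apply hSi
    rw [← h1, hk]
    exact Dvd.dvd.mul_right (dvd_pow_self p hpos.ne') _

/-- a Sylow `p`-subgroup of `V` is nontrivial if `V` has a nontrivial `p`-subgroup -/
theorem sylowIn_ne_bot {V S R : Subgroup G} (hSi : ¬ p ∣ S.relIndex V) (hRV : R ≤ V)
    (hR : IsPGroup p R) (hR1 : R ≠ ⊥) : S ≠ ⊥ := by
  rintro rfl
  apply hSi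
  rw [Subgroup.relIndex_bot_left]
  obtain ⟨k, hk⟩ := IsPGroup.iff_card.mp hR
  have hk0 : k ≠ 0 := by
    rintro rfl
    rw [pow_zero] at hk
    exact hR1 (Subgroup.card_eq_one.mp hk)
  have h1 : p ∣ Nat.card R := by rw [hk]; exact dvd_pow_self p hk0
  exact h1.trans (Subgroup.card_dvd_of_le hRV)

/-- if the `p`-subgroup `S` of `X` is not a Sylow `p`-subgroup of `X`, some element of `X - S`
normalizes `S` and generates a `p`-group together with `S` -/
theorem exists_normalizing_of_dvd_relIndex {X S : Subgroup G} (hSX : S ≤ X) (hS : IsPGroup p S)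
    (hdvd : p ∣ S.relIndex X) :
    ∃ x ∈ X, x ∈ normalizer (S : Set G) ∧ x ∉ S ∧ IsPGroup p ↥(S ⊔ Subgroup.zpowers x) := by
  obtain ⟨P, hP⟩ := IsPGroup.exists_le_sylow (hS.comap_subtype (K := X))
  obtain ⟨hS'X, hS', hS'i⟩ := sylow_map_facts X P
  obtain ⟨S', hS'def⟩ : ∃ S', S' = (P : Subgroup ↥X).map X.subtype := ⟨_, rfl⟩
  rw [← hS'def] at hS'X hS' hS'i
  have hSS' : S ≤ S' := by
    intro s hs
    rw [hS'def]
    exact ⟨⟨s, hSX hs⟩, hP (Subgroup.mem_subgroupOf.mpr hs), rfl⟩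
  have hlt : S < S' := by
    refine lt_of_le_of_ne hSS' ?_
    rintro rfl
    exact hS'i hdvd
  have hgrow := normalizer_growth hS' hlt
  obtain ⟨x, hx, hxS⟩ := SetLike.exists_of_lt hgrow
  refine ⟨x, hS'X hx.1, hx.2, hxS, ?_⟩
  apply hS'.to_le
  exact sup_le hSS' (by rw [Subgroup.zpowers_le]; exact hx.1)

/-- Frattini argument for `Z(J(S))`: if `X ⊴ K`, `S` is a Sylow `p`-subgroup of `X` and `X`
normalizes `Z(J(S))`, then so does `K`. -/
theorem le_normalizer_centerThompsonAOf_of_frattini {X K S : Subgroup G}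
    (hKX : K ≤ normalizer (X : Set G)) (hSX : S ≤ X) (hS : IsPGroup p S)
    (hSi : ¬ p ∣ S.relIndex X)
    (hXZ : X ≤ normalizer ((centerThompsonAOf S : Subgroup G) : Set G)) :
    K ≤ normalizer ((centerThompsonAOf S : Subgroup G) : Set G) := by
  intro k hk
  have hcX : cj k X = X := cj_eq_self_iff.mpr (hKX hk)
  have h1 : cj k S ≤ X := by
    have := cj_mono (g := k) hSX
    rwa [hcX] at this
  obtain ⟨u, hu, hue⟩ := sylow_cj_of_facts X S (cj k S) hSX hS hSi h1 (isPGroup_cj hS)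
    (card_cj k S)
  -- `u⁻¹ k` normalizes `S`
  have h2 : u⁻¹ * k ∈ normalizer (S : Set G) := by
    rw [← cj_eq_self_iff, cj_mul, hue, cj_inv_cj]
  have h3 := normalizer_le_normalizer_centerThompsonAOf S h2
  have h4 := hXZ hu
  have h5 : k = u * (u⁻¹ * k) := by group
  rw [h5]
  exact Subgroup.mul_mem _ h4 h3

end sylow

end Cfsg.Agent.Lib.Helper23
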