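import Cfsg.Agent.Lib.Helper23.FitUniqueC

set_option autoImplicit false
set_option linter.style.haveILetI false
set_option linter.unusedSectionVars false

/-!
# Tools for the theorem on maximal subgroups with a large Fitting subgroup

* `UniqMax q Y Q`: `Q` is the unique maximal `Y`-invariant `q`-subgroup of `G`;
  this property climbs along normalizers and hence through nilpotent overgroups.
* invariant subgroups of coprime order are trivial as soon as the invariant subgroups of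
  prime-power order are.
-/

namespace Cfsg.Agent.Lib.Helper23

open Subgroup Cfsg Cfsg.Agent.Lib.Helper33 Cfsg.Agent.Lib.Helper24 Cfsg.Agent.Lib.Helper32

universe u

section nilp

variable {G : Type u} [Group G]

/-- the normalizer condition in a nilpotent subgroup `F` of `G` -/
theorem exists_normalizing_of_ne_nilpotent {F Y : Subgroup G} (hF : Group.IsNilpotent ↥F)
    (hYF : Y ≤ F) (hne : Y ≠ F) :
    ∃ x ∈ F, x ∈ normalizer (Y : Set G) ∧ x ∉ Y := by
  haveI := hF
  have hlt : Y.subgroupOf F < ⊤ := by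
    rw [lt_top_iff_ne_top]
    intro h
    rw [Subgroup.subgroupOf_eq_top] at h
    exact hne (le_antisymm hYF h)
  have h2 := Group.normalizerCondition_of_isNilpotent (G := ↥F) (Y.subgroupOf F) hlt
  obtain ⟨x, hxN, hxY⟩ := SetLike.exists_of_lt h2
  refine ⟨(x : G), x.2, ?_, fun h => hxY (Subgroup.mem_subgroupOf.mpr h)⟩
  rw [mem_normalizer_iff]
  intro y
  constructor
  · intro hy
    have h3 := (mem_normalizer_iff.mp hxN ⟨y, hYF hy⟩).mp (Subgroup.mem_subgroupOf.mpr hy)
    exact Subgroup.mem_subgroupOf.mp h3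
  · intro hy
    have hyF : y ∈ F := by
      have h4 : (x : G)⁻¹ * ((x : G) * y * (x : G)⁻¹) * (x : G) ∈ F :=
        F.mul_mem (F.mul_mem (F.inv_mem x.2) (hYF hy)) x.2
      have h5 : (x : G)⁻¹ * ((x : G) * y * (x : G)⁻¹) * (x : G) = y := by group
      rwa [h5] at h4
    have h3 := (mem_normalizer_iff.mp hxN ⟨y, hyF⟩).mpr (Subgroup.mem_subgroupOf.mpr hy)
    exact Subgroup.mem_subgroupOf.mp h3

/-- `Y ⊔ ⟨x⟩` normalizes `Y` when `x` does -/
theorem sup_zpowers_le_normalizer {Y : Subgroup G} {x : G} (hx : x ∈ normalizer (Y : Set G)) :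
    Y ⊔ zpowers x ≤ normalizer (Y : Set G) :=
  sup_le le_normalizer ((zpowers_le).mpr hx)

theorem lt_sup_zpowers {Y : Subgroup G} {x : G} (hx : x ∉ Y) : Y < Y ⊔ zpowers x := by
  refine lt_of_le_of_ne le_sup_left ?_
  intro h
  apply hx
  rw [h]
  exact (le_sup_right : zpowers x ≤ Y ⊔ zpowers x) (mem_zpowers x)

end nilp

section uniq

variable {G : Type u} [Group G] [Finite G]

/-- `Q` is the unique maximal `Y`-invariant `q`-subgroup of `G` -/
structure UniqMax (q : ℕ) (Y Q : Subgroup G) : Prop where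
  norm : Y ≤ normalizer (Q : Set G)
  pg : IsPGroup q Q
  max : ∀ T : Subgroup G, IsPGroup q T → Y ≤ normalizer (T : Set G) → T ≤ Q

namespace UniqMax

variable {q : ℕ} {Y Y' Q F : Subgroup G}

theorem normalizer_le (h : UniqMax q Y Q) :
    normalizer (Y : Set G) ≤ normalizer (Q : Set G) := by
  intro g hg
  rw [← cj_eq_self_iff]
  have h1 : cj g Q ≤ Q := by
    apply h.max _ (isPGroup_cj h.pg)
    rw [normalizer_cj]
    have h2 : cj g Y = Y := cj_eq_self_iff.mpr hg
    rw [← h2]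
    exact cj_mono h.norm
  exact eq_of_le_of_card_ge h1 (by rw [card_cj])

theorem mono (h : UniqMax q Y Q) (hYY' : Y ≤ Y') (hY' : Y' ≤ normalizer (Y : Set G)) :
    UniqMax q Y' Q :=
  ⟨hY'.trans h.normalizer_le, h.pg, fun T hT hYT => h.max T hT (hYY'.trans hYT)⟩

theorem of_nilpotent (h : UniqMax q Y Q) (hF : Group.IsNilpotent ↥F) (hYF : Y ≤ F) :
    UniqMax q F Q := by
  obtain ⟨s, hs⟩ : ∃ s : Set (Subgroup G), s = {Z | Y ≤ Z ∧ Z ≤ F ∧ UniqMax q Z Q} := ⟨_, rfl⟩
  have hne : s.Nonempty := ⟨Y, by rw [hs]; exact ⟨le_rfl, hYF, h⟩⟩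
  obtain ⟨Z, hZs, hZmax⟩ := Set.exists_max_image s (fun Z => Nat.card Z) (Set.toFinite s) hne
  rw [hs] at hZs
  obtain ⟨hYZ, hZF, hZ⟩ := hZs
  by_cases hZeq : Z = F
  · rw [← hZeq]; exact hZ
  · exfalso
    obtain ⟨x, hxF, hxN, hxZ⟩ := exists_normalizing_of_ne_nilpotent hF hZF hZeq
    have h1 : Z ⊔ zpowers x ∈ s := by
      rw [hs]
      refine ⟨hYZ.trans le_sup_left, sup_le hZF ((zpowers_le).mpr hxF), ?_⟩
      exact hZ.mono le_sup_left (sup_zpowers_le_normalizer hxN)
    have h2 := hZmax _ h1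
    have h3 := card_lt_of_lt' (lt_sup_zpowers hxZ)
    exact absurd h2 (not_le.mpr h3)

end UniqMax

/-- if the maximal `X`-invariant `q`-subgroups are conjugate under the trivial group, there is a
unique one -/
theorem exists_uniqMax_of_conj {X K : Subgroup G} {q : ℕ} [Fact q.Prime] (hK : K = ⊥)
    (h : ∀ Q₁ ∈ maxInvSubgroups ⊤ X {q}, ∀ Q₂ ∈ maxInvSubgroups ⊤ X {q},
      ∃ k ∈ K, Q₂ = Q₁.map (MulAut.conj k).toMonoidHom) :
    ∃ Q : Subgroup G, UniqMax q X Q := by
  have hbot : (⊥ : Subgroup G) ∈ invSubgroups ⊤ X {q} := by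
    refine ⟨le_top, ?_, ?_⟩
    · intro r hr hrd
      rw [Subgroup.card_bot] at hrd
      exact absurd (Nat.dvd_one.mp hrd) hr.one_lt.ne'
    · intro x _
      rw [mem_normalizer_iff]
      intro y
      rw [mem_bot, mem_bot]
      constructor
      · rintro rfl; simp
      · intro hy
        have : y = x⁻¹ * (x * y * x⁻¹) * x := by group
        rw [this, hy]; simp
  obtain ⟨Q, hQ, -⟩ := exists_maxInv_ge hbot
  refine ⟨Q, hQ.1.2.2, isPGroup_of_mem_invSubgroups' hQ.1, ?_⟩
  intro T hT hXT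
  have hTmem : T ∈ invSubgroups ⊤ X {q} := by
    refine ⟨le_top, ?_, hXT⟩
    intro r hr hrd
    obtain ⟨k, hk⟩ := IsPGroup.iff_card.mp hT
    rw [hk] at hrd
    exact (Nat.prime_dvd_prime_iff_eq hr Fact.out).mp (hr.dvd_of_dvd_pow hrd)
  obtain ⟨Q', hQ', hTQ'⟩ := exists_maxInv_ge hTmem
  obtain ⟨k, hk, hkQ⟩ := h Q hQ Q' hQ'
  rw [hK, mem_bot] at hk
  have : Q' = Q := by
    rw [hkQ, hk]
    exact cj_one Q
  rw [← this]
  exact hTQ'

/-- `F(M)` is nilpotent -/
theorem isNilpotent_fittingOf (M : Subgroup G) : Group.IsNilpotent ↥(fittingOf M) := by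
  haveI := Cfsg.Agent.Lib.Helper22.fittingSubgroup_isNilpotent (G := ↥M)
  exact Group.nilpotent_of_mulEquiv
    (Subgroup.equivMapOfInjective (fittingSubgroup ↥M) M.subtype M.subtype_injective)

/-- a minimal simple group is not nilpotent -/
theorem not_isPGroup_top (hG : IsMinSimpleOddOrder G) (q : ℕ) [Fact q.Prime] :
    ¬ IsPGroup q (⊤ : Subgroup G) := by
  intro h
  haveI := hG.2.1
  have h1 : IsPGroup q G := fun g => by
    obtain ⟨k, hk⟩ := h ⟨g, mem_top g⟩
    exact ⟨k, by simpa using congrArg Subtype.val hk⟩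
  haveI : Group.IsNilpotent G := h1.isNilpotent
  haveI : IsCyclic G := inferInstance
  exact hG.2.2.1 IsCyclic.isMulCommutative

/-- a `q`-subgroup normalized by the maximal subgroup `M`, `q ∤ |F(M)|`, is trivial -/
theorem eq_bot_of_coatom_le_normalizer (hG : IsMinSimpleOddOrder G) {M Q : Subgroup G}
    (hM : IsCoatom M) {q : ℕ} [Fact q.Prime] (hQ : IsPGroup q Q)
    (hq : ¬ q ∣ Nat.card (fittingOf M)) (hMQ : M ≤ normalizer (Q : Set G)) : Q = ⊥ := by
  haveI := hG.2.1
  by_contra hne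
  have hQ1 : Q ≠ ⊤ := by
    rintro rfl
    exact not_isPGroup_top hG q hQ
  have hN := normalizer_ne_top_of_simple hne hQ1
  have hNM : normalizer (Q : Set G) = M := by
    by_contra hne'
    exact hN (hM.2 _ (lt_of_le_of_ne hMQ (Ne.symm hne')))
  have hQM : Q ≤ M := hNM ▸ le_normalizer
  have hQF : Q ≤ pCoreOf q M := Cfsg.Agent.Lib.Helper47.le_pCoreOf hQM hMQ hQ
  have hQF' : Q ≤ fittingOf M := hQF.trans (pCoreOf_le_fittingOf q M)
  have hd : Nat.card Q ∣ Nat.card (fittingOf M) := card_dvd_of_le hQF'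
  obtain ⟨k, hk⟩ := IsPGroup.iff_card.mp hQ
  have hk0 : k ≠ 0 := by
    rintro rfl
    rw [pow_zero] at hk
    exact hne (Subgroup.card_eq_one.mp hk)
  apply hq
  rw [hk] at hd
  exact (dvd_pow_self q hk0).trans hd

/-- if all `X`-invariant subgroups of prime-power order `q^k`, `q ∤ n`, are trivial, then so are
all `X`-invariant subgroups of order prime to `n` (where `|X|` divides `n`) -/
theorem invSubgroups_eq_bot_of_prime {X : Subgroup G} {n : ℕ} (hXn : Nat.card X ∣ n)
    (hX : Group.IsSolvable ↥X)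
    (h : ∀ q : ℕ, q.Prime → ¬ q ∣ n → ∀ Q : Subgroup G, IsPGroup q Q →
      X ≤ normalizer (Q : Set G) → Q = ⊥) :
    ∀ Y ∈ invSubgroups ⊤ X (primesNotDvd n), Y = ⊥ := by
  intro Y hY
  by_contra hne
  have hc1 : Nat.card Y ≠ 1 := fun hc => hne (Subgroup.card_eq_one.mp hc)
  obtain ⟨q, hq, hqY⟩ := Nat.exists_prime_and_dvd hc1
  haveI : Fact q.Prime := ⟨hq⟩
  have hqn : ¬ q ∣ n := (hY.2.1 q hq hqY).2
  have hcop : (Nat.card X).Coprime (Nat.card Y) := by
    apply Nat.Coprime.coprime_dvd_left hXn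
    apply Nat.Coprime.symm
    apply Nat.coprime_of_dvd
    intro r hr hrY hrn
    exact (hY.2.1 r hr hrY).2 hrn
  obtain ⟨P, hP⟩ := exists_invariant_sylow (p := q) X Y hY.2.2 hcop (Or.inl hX)
  obtain ⟨hPY, hPp, hPi⟩ := sylow_map_facts Y P
  have hPbot := h q hq hqn _ hPp hP
  rw [hPbot, Subgroup.relIndex_bot_left] at hPi
  exact hPi hqY

end uniq

end Cfsg.Agent.Lib.Helper23
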