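import Cfsg.Agent.S1393
import Cfsg.Agent.S1395
import Cfsg.Agent.S1396
import Cfsg.Agent.Lib.Helper2.PComplement
import Cfsg.Agent.Lib.Helper23.FitLocal
import Cfsg.Agent.Lib.Helper23.FitUniqueA
import Cfsg.Agent.Lib.Helper23.LargeFitA
import Cfsg.Agent.Lib.Helper32.Transitivity
import Cfsg.Agent.Lib.Helper63.BG10
import Cfsg.Agent.Lib.Helper64.BG9b
import Cfsg.Agent.Lib.Helper64.BG95Sig
import Cfsg.Agent.Lib.Helper56.BG95U

set_option autoImplicit false
set_option linter.style.haveILetI false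
set_option linter.unusedSectionVars false

/-!
# BG 9.5, the "no hub" case

If every maximal subgroup `M` over `A ∈ SCN_3(P)` has `M' ≤ F(M)`, then `A` lies in a unique
maximal subgroup.  (helper60's argument: `A* = A ∩ N(A)' ≠ 1` centralizes every `A`-invariant
`p'`-subgroup, by BG 7.6(d) with `P := A`.)
-/

namespace Cfsg.Agent.Lib.Helper23.BG95

open Subgroup Cfsg Cfsg.Agent.Lib.Helper32 Cfsg.Agent.Lib.Helper64
open Cfsg.Agent.Lib.Helper23 (pCoreOf)
open scoped commutatorElement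

universe u

variable {G : Type u} [Group G] [Finite G]

/-- `[A, N_G(A)] ≠ 1` for a nontrivial `A ∈ SCN(P)` (Burnside's transfer theorem). -/
theorem commutator_normalizer_ne_bot (hG : Cfsg.IsMinSimpleOddOrder G) {p : ℕ} [Fact p.Prime]
    (P : Sylow p G) {A : Subgroup G} (hA : Cfsg.IsSCN (P : Subgroup G) A) (hAne : A ≠ ⊥) :
    ⁅A, normalizer (A : Set G)⁆ ≠ ⊥ := by
  intro h0
  have hNC : normalizer (A : Set G) ≤ centralizer (A : Set G) := by
    have h1 : A ≤ centralizer (normalizer (A : Set G) : Set G) :=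
      Subgroup.commutator_eq_bot_iff_le_centralizer.mp h0
    exact Subgroup.le_centralizer_iff.mp h1
  have hPA : (P : Subgroup G) = A := by
    have h1 : (P : Subgroup G) ≤ centralizer (A : Set G) := hA.2.1.trans hNC
    have h2 : (P : Subgroup G) ⊓ centralizer (A : Set G) = P := inf_of_le_left h1
    rw [← hA.2.2, h2]
  have hNP : normalizer ((P : Subgroup G) : Set G) ≤ centralizer ((P : Subgroup G) : Set G) := by
    rw [hPA]; exact hNC
  obtain ⟨P', N, hN, hc⟩ :=
    Cfsg.Agent.Lib.Helper2.hasNormalPComplement_of_normalizer_le_centralizer P hNP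
  haveI := hG.2.1
  rcases hN.eq_bot_or_eq_top with h | h
  · rw [h] at hc
    have h1 : (P' : Subgroup G) = ⊤ := Subgroup.isComplement'_bot_left.mp hc
    exact Cfsg.Agent.Lib.Helper23.not_isPGroup_top hG p (h1 ▸ P'.2)
  · rw [h] at hc
    have h1 : (P' : Subgroup G) = ⊥ := Subgroup.isComplement'_top_left.mp hc
    have h2 : Nat.card (P : Subgroup G) = Nat.card (P' : Subgroup G) := by
      rw [Sylow.card_eq_multiplicity, Sylow.card_eq_multiplicity]
    rw [h1, Subgroup.card_bot] at h2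
    have h3 : (P : Subgroup G) = ⊥ := Subgroup.card_eq_one.mp h2
    exact hAne (le_bot_iff.mp (h3 ▸ hA.1))

/-- **BG 9.5, no hub.** -/
theorem no_hub (hG : Cfsg.IsMinSimpleOddOrder G) {p : ℕ} [Fact p.Prime] (P : Sylow p G)
    {A : Subgroup G} (hA : Cfsg.IsSCN (P : Subgroup G) A) (hA3 : ¬ Cfsg.PRankLE p 2 ↥A)
    (hder : ∀ M : Subgroup G, IsCoatom M → A ≤ M → ⁅M, M⁆ ≤ Cfsg.fittingOf M) :
    Cfsg.InUniqueMaximal A := by
  have hp : p.Prime := Fact.out
  haveI := hG.2.1
  have hAp : IsPGroup p A := P.2.to_le hA.1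
  have hAc : IsMulCommutative A := BG9.scn_abelian hA
  have hAne : A ≠ ⊥ := by
    intro h0
    apply hA3
    intro B _ _
    have h1 : Nat.card B ≤ Nat.card A := Subgroup.card_le_card_group B
    have h2 : Nat.card A = 1 := by rw [h0]; exact Subgroup.card_bot
    rw [h2] at h1
    exact h1.trans (Nat.one_le_pow _ _ hp.pos)
  have hA1 : ¬ Cfsg.PRankLE p 1 ↥A := by
    intro h
    apply hA3
    intro B hBc hBe
    exact (h B hBc hBe).trans (Nat.pow_le_pow_right hp.pos (by norm_num))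
  obtain ⟨n, hn⟩ := IsPGroup.iff_card.mp hAp
  have hn0 : n ≠ 0 := by
    rintro rfl
    rw [pow_zero] at hn
    exact hAne (Subgroup.card_eq_one.mp hn)
  have hpA : p ∣ Nat.card A := by rw [hn]; exact dvd_pow_self p hn0
  have hpG : p ∣ Nat.card G := hpA.trans (Subgroup.card_subgroup_dvd_card A)
  have hAtop : A ≠ ⊤ := by
    intro h
    exact Cfsg.Agent.Lib.Helper23.not_isPGroup_top hG p (h ▸ hAp)
  have hTrans : Cfsg.TransitivityHypothesis A :=
    Cfsg.Agent.S1396.result hG p hpG A hAp hAc (Or.inr ⟨P, hA, hA1⟩)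
  have hAC : A ≤ centralizer (A : Set G) := BG9.self_le_centralizer hAc
  have hinf : A ⊓ centralizer (A : Set G) = A := inf_of_le_left hAC
  have hZ : ¬ Cfsg.RankLE 2 ↥(A ⊓ centralizer (A : Set G)) := by
    rw [hinf]
    intro h
    exact hA3 (h p hp)
  -- the subgroup `A* = A ∩ N(A)'`
  obtain ⟨As, hAs⟩ : ∃ As : Subgroup G,
      As = A ⊓ ⁅normalizer (A : Set G), normalizer (A : Set G)⁆ := ⟨_, rfl⟩
  have hAsA : As ≤ A := hAs ▸ inf_le_left
  have hAsne : As ≠ ⊥ := by
    intro h0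
    apply commutator_normalizer_ne_bot hG P hA hAne
    rw [eq_bot_iff, ← h0, hAs]
    apply le_inf
    · -- `[A, N(A)] ≤ A`
      rw [Subgroup.commutator_le]
      intro a ha g hg
      have h1 : g * a⁻¹ * g⁻¹ ∈ A := (Subgroup.mem_normalizer_iff.mp hg a⁻¹).mp (A.inv_mem ha)
      have h2 : ⁅a, g⁆ = a * (g * a⁻¹ * g⁻¹) := by
        rw [commutatorElement_def]; group
      rw [h2]
      exact A.mul_mem ha h1
    · exact Subgroup.commutator_mono Subgroup.le_normalizer le_rfl
  have hAstop : As ≠ ⊤ := by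
    intro h
    apply hAtop
    rw [eq_top_iff, ← h]
    exact hAsA
  have hAsp : IsPGroup p As := hAp.to_le hAsA
  have hNAs : normalizer (As : Set G) ≠ ⊤ :=
    Cfsg.Agent.Lib.Helper63.BG10.normalizer_ne_top hG hAsne hAstop
  obtain ⟨L, hL, hNL⟩ := BG9.exists_coatom_ge hNAs
  have hCN : centralizer (As : Set G) ≤ normalizer (As : Set G) := by
    intro g hg
    rw [Subgroup.mem_normalizer_iff]
    intro x
    have key : ∀ y ∈ As, g * y * g⁻¹ = y := by
      intro y hy
      have := (Subgroup.mem_centralizer_iff.mp hg) y hy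
      rw [← this]; group
    constructor
    · intro hx
      rw [key x hx]; exact hx
    · intro hx
      have h1 := key _ hx
      have h2 : g * x * g⁻¹ = x := by
        have h3 : g⁻¹ * (g * (g * x * g⁻¹) * g⁻¹) * g = g⁻¹ * (g * x * g⁻¹) * g := by rw [h1]
        have h4 : g⁻¹ * (g * (g * x * g⁻¹) * g⁻¹) * g = g * x * g⁻¹ := by group
        have h5 : g⁻¹ * (g * x * g⁻¹) * g = x := by group
        rw [h4, h5] at h3
        exact h3
      rw [← h2]; exact hx
  have hAL : A ≤ L := by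
    refine le_trans ?_ (hCN.trans hNL)
    exact hAC.trans (Subgroup.centralizer_le hAsA)
  -- every maximal `A`-invariant `q`-subgroup centralizes `A*`
  have hQle : ∀ q : ℕ, q.Prime → q ≠ p → ∀ Q ∈ Cfsg.maxInvSubgroups ⊤ A {q}, Q ≤ L := by
    intro q hq hqp Q hQ
    by_cases hQ0 : Q = ⊥
    · rw [hQ0]; exact bot_le
    have hqA : ¬ q ∣ Nat.card A := by
      rw [hn]
      intro h
      exact hqp ((Nat.prime_dvd_prime_iff_eq hq hp).mp (hq.dvd_of_dvd_pow h))
    haveI : Fact q.Prime := ⟨hq⟩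
    have hQp : IsPGroup q Q := isPGroup_of_mem_invSubgroups hq hQ.1
    have hQtop : Q ≠ ⊤ := by
      intro htop
      exact Cfsg.Agent.Lib.Helper23.not_isPGroup_top hG q (htop ▸ hQp)
    have hNQ : normalizer (Q : Set G) ≠ ⊤ :=
      Cfsg.Agent.Lib.Helper63.BG10.normalizer_ne_top hG hQ0 hQtop
    obtain ⟨H, hH, hNH⟩ := BG9.exists_coatom_ge hNQ
    have hAQ : A ≤ normalizer (Q : Set G) := hQ.1.2.2
    have hAH : A ≤ H := hAQ.trans hNH
    have htr := Cfsg.Agent.S1393.result hG A hTrans hZ q hq hqA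
    have h95 := Cfsg.Agent.S1395.result hG A hTrans q hq hqA A hAtop (fun r _ hr => hr) le_rfl
      (by rw [Subgroup.subgroupOf_self]; exact Subgroup.IsSubnormal.top) htr
    have hd := (h95.2.2.2 Q hQ).1
    have hAsH : As ≤ Cfsg.fittingOf H := by
      rw [hAs]
      refine hd.trans ((Subgroup.commutator_mono hNH hNH).trans (hder H hH hAH))
    have hAsO : As ≤ pCoreOf p H := by
      intro x hx
      obtain ⟨k, hk⟩ := hAsp ⟨x, hx⟩
      have hk' : x ^ (p ^ k) = 1 := by simpa using congrArg Subtype.val hk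
      exact Cfsg.Agent.Lib.Helper23.mem_pCoreOf_of_mem_fittingOf (hAsH hx) hk'
    -- `Q ≤ O_{π(A)'}(H)`
    have hQH : Q ≤ H := Subgroup.le_normalizer.trans hNH
    have hQπ : Cfsg.Agent.Lib.Helper62.IsPi (Cfsg.primesNotDvd (Nat.card A)) Q := by
      intro r hr hrQ
      have : r = q := by
        obtain ⟨m, hm⟩ := IsPGroup.iff_card.mp hQp
        rw [hm] at hrQ
        exact (Nat.prime_dvd_prime_iff_eq hr hq).mp (hr.dvd_of_dvd_pow hrQ)
      subst this
      exact ⟨hr, hqA⟩
    have hQO : Q ≤ Cfsg.piCoreOf (Cfsg.primesNotDvd (Nat.card A)) H :=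
      transHyp_le_piCoreOf hTrans hH.1 hAH hQH hQπ hAQ
    -- `O_{π(A)'}(H)` and `O_p(H)` commute
    have hcomm : Cfsg.piCoreOf (Cfsg.primesNotDvd (Nat.card A)) H ≤
        centralizer ((pCoreOf p H : Subgroup G) : Set G) := by
      apply Cfsg.Agent.Lib.Helper23.le_centralizer_of_normalize_of_inf_eq_bot
      · exact (piCoreOf_le _ H).trans (Cfsg.Agent.Lib.Helper23.le_normalizer_pCoreOf p H)
      · exact (Cfsg.Agent.Lib.Helper23.pCoreOf_le p H).trans (le_normalizer_piCoreOf _ H)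
      · apply Disjoint.eq_bot
        apply Subgroup.disjoint_of_coprime_natCard
        obtain ⟨k, hk⟩ := IsPGroup.iff_card.mp (Cfsg.Agent.Lib.Helper23.isPGroup_pCoreOf p H)
        rw [hk]
        apply Nat.Coprime.pow_right k
        rw [Nat.coprime_comm, hp.coprime_iff_not_dvd]
        intro hdvd
        have := isPi_piCoreOf (Cfsg.primesNotDvd (Nat.card A)) H p hp hdvd
        exact this.2 hpA
    -- conclusion
    have hQC : Q ≤ centralizer (As : Set G) :=
      (hQO.trans hcomm).trans (Subgroup.centralizer_le hAsO)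
    exact hQC.trans (hCN.trans hNL)
  exact Cfsg.Agent.Lib.Helper56.BG95.inUniqueMaximal_of_inv_le' hG hL hAL hAp hAne
    (sig_le hAp hQle)

end Cfsg.Agent.Lib.Helper23.BG95
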