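import Cfsg.Agent.S1453
import Cfsg.Agent.Lib.Helper49.RankOneCyclic
import Cfsg.Agent.Lib.Helper63.AbelianIndexP

set_option autoImplicit false
set_option linter.style.haveILetI false
set_option linter.unusedSectionVars false

/-!
# A `p`-group of rank at least three with a maximal elementary abelian subgroup of order `p ^ 2`
is narrow (Bender–Glauberman, Lemma 5.2), and narrowness is invariant under isomorphism.
-/

namespace Cfsg.Agent.Lib.Helper23.Beta

open Subgroup Cfsg

/-- **B&G Lemma 5.2(b).** -/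
theorem isNarrow_of_maximal_elemAb {R : Type*} [Group R] [Finite R] (p : ℕ) [Fact p.Prime]
    (hp : p ≠ 2) (hR : IsPGroup p R) (hr : ¬ PRankLE p 2 R) (E : Subgroup R)
    (hE : IsElementaryAbelian p E) (hE2 : Nat.card E = p ^ 2)
    (hEmax : ∀ B : Subgroup R, IsElementaryAbelian p B → E ≤ B → B = E) : IsNarrow p R := by
  classical
  have hpp : p.Prime := Fact.out
  obtain ⟨hET, hZ1, -, hTchar, hTidx⟩ := Cfsg.Agent.S1453.result p hp hR hr E hE hE2 hEmax
  obtain ⟨T, hT⟩ : ∃ T : Subgroup R, T = centralizer ((closure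
      {x : R | x ∈ Subgroup.upperCentralSeries R 2 ∧ x ^ p = 1} : Subgroup R) : Set R) := ⟨_, rfl⟩
  rw [← hT] at hET hTidx hTchar
  have hclZ : closure {x : R | x ∈ center R ∧ x ^ p = 1} = Cfsg.Agent.S1453.omegaCenter p R :=
    Subgroup.closure_eq (Cfsg.Agent.S1453.omegaCenter p R)
  rw [hclZ] at hZ1
  obtain ⟨Z, hZdef⟩ : ∃ Z, Z = Cfsg.Agent.S1453.omegaCenter p R := ⟨_, rfl⟩
  rw [← hZdef] at hZ1
  have hZmem : ∀ x, x ∈ Z ↔ x ∈ center R ∧ x ^ p = 1 := by
    intro x; rw [hZdef]; rfl
  obtain ⟨hEc', hEe⟩ := hE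
  have hEc : ∀ a ∈ E, ∀ b ∈ E, a * b = b * a := fun a ha b hb =>
    congrArg Subtype.val (hEc'.is_comm.comm ⟨a, ha⟩ ⟨b, hb⟩)
  have hEmax' : ∀ B : Subgroup R, (∀ a ∈ B, ∀ b ∈ B, a * b = b * a) → (∀ a ∈ B, a ^ p = 1) →
      E ≤ B → B = E := by
    intro B hBc hBe hEB
    refine hEmax B ⟨⟨⟨?_⟩⟩, hBe⟩ hEB
    rintro ⟨a, ha⟩ ⟨b, hb⟩
    exact Subtype.ext (hBc a ha b hb)
  -- an element of order dividing `p` commuting with `E` lies in `E`
  have hkey : ∀ y : R, y ^ p = 1 → (∀ e ∈ E, e * y = y * e) → y ∈ E := by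
    intro y hy hc
    obtain ⟨h1, h2⟩ := Cfsg.Agent.S1453.sup_elemAb (p := p) E (zpowers y) hEc hEe
      (by
        intro a ha b hb
        obtain ⟨k, rfl⟩ := mem_zpowers_iff.mp ha
        obtain ⟨l, rfl⟩ := mem_zpowers_iff.mp hb
        exact zpow_mul_comm y k l)
      (by
        intro a ha
        obtain ⟨k, rfl⟩ := mem_zpowers_iff.mp ha
        rw [← zpow_natCast, ← zpow_mul, mul_comm, zpow_mul, zpow_natCast, hy, one_zpow])
      (by
        intro a ha b hb
        obtain ⟨k, rfl⟩ := mem_zpowers_iff.mp hb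
        exact (show Commute a y from hc a ha).zpow_right k)
    have := hEmax' (E ⊔ zpowers y) h1 h2 le_sup_left
    rw [← this]
    exact le_sup_right (α := Subgroup R) (mem_zpowers y)
  have hZT : Z ≤ T := by
    intro z hz
    rw [hT]
    exact Subgroup.center_le_centralizer _ ((hZmem z).mp hz).1
  have hZE : Z ≤ E := fun z hz => hkey z ((hZmem z).mp hz).2
    (fun e _ => (mem_center_iff.mp ((hZmem z).mp hz).1 e))
  obtain ⟨x, hxE, hxT⟩ := SetLike.not_le_iff_exists.mp hET
  have hx1 : x ≠ 1 := fun h => hxT (h ▸ T.one_mem)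
  have hxp : x ^ p = 1 := hEe x hxE
  have hox : orderOf x = p := orderOf_eq_prime hxp hx1
  haveI hTn : T.Normal := Subgroup.normal_of_characteristic T
  have htop : T ⊔ zpowers x = ⊤ :=
    Cfsg.Agent.Lib.Helper63.eq_top_of_index_prime hpp hTidx le_sup_left
      (le_sup_right (α := Subgroup R) (mem_zpowers x)) hxT
  have hdec : ∀ y : R, ∃ t ∈ T, ∃ u ∈ zpowers x, y = t * u := by
    intro y
    have hy : y ∈ ((T ⊔ zpowers x : Subgroup R) : Set R) := by rw [htop]; trivial
    rw [Subgroup.normal_mul] at hy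
    obtain ⟨t, ht, u, hu, rfl⟩ := Set.mem_mul.mp hy
    exact ⟨t, ht, u, hu, rfl⟩
  -- `E ∩ T = Z`
  have hETZ : E ⊓ T = Z := by
    have hle : Z ≤ E ⊓ T := le_inf hZE hZT
    have hd : Nat.card ↥(E ⊓ T : Subgroup R) ∣ p ^ 2 := by
      rw [← hE2]; exact Subgroup.card_dvd_of_le inf_le_left
    obtain ⟨j, hj, hcj⟩ := (Nat.dvd_prime_pow hpp).mp hd
    have hj2 : j ≠ 2 := by
      intro h
      have : E ⊓ T = E := Subgroup.eq_of_le_of_card_ge inf_le_left (by rw [hcj, h, hE2])
      have h' : x ∈ E ⊓ T := by rw [this]; exact hxE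
      exact hxT h'.2
    have hj1 : 1 ≤ j := by
      by_contra h
      have h0 : j = 0 := by omega
      have hc1 : Nat.card ↥(E ⊓ T : Subgroup R) = 1 := by rw [hcj, h0, pow_zero]
      have := Subgroup.card_le_of_le hle
      rw [hZ1, hc1] at this
      exact absurd this (by have := hpp.one_lt; omega)
    have hj' : j = 1 := by omega
    symm
    apply Subgroup.eq_of_le_of_card_ge hle
    rw [hcj, hj', pow_one, hZ1]
  -- the subgroups `R₀` and `R₁`
  obtain ⟨R₁, hR₁⟩ : ∃ R₁ : Subgroup R,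
      R₁ = T ⊓ centralizer ((zpowers x : Subgroup R) : Set R) := ⟨_, rfl⟩
  have hcx : ∀ y : R, y ∈ centralizer ((zpowers x : Subgroup R) : Set R) ↔ x * y = y * x := by
    intro y
    rw [Subgroup.mem_centralizer_iff]
    constructor
    · intro h; exact h x (mem_zpowers x)
    · intro h u hu
      obtain ⟨k, rfl⟩ := mem_zpowers_iff.mp hu
      exact ((show Commute x y from h).zpow_left k).eq
  -- elements of order `p` of `R₁` lie in `Z`
  have hR₁Z : ∀ a ∈ R₁, a ^ p = 1 → a ∈ Z := by
    intro a ha hap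
    rw [hR₁] at ha
    have hax : x * a = a * x := (hcx a).mp ha.2
    have haE : a ∈ E := by
      apply hkey a hap
      intro e he
      obtain ⟨t, ht, u, hu, rfl⟩ := hdec e
      have htE : t ∈ E := by
        have : t = (t * u) * u⁻¹ := by group
        rw [this]
        exact E.mul_mem he (E.inv_mem ((zpowers_le.mpr hxE) hu))
      have htZ : t ∈ Z := hETZ ▸ (⟨htE, ht⟩ : t ∈ E ⊓ T)
      have h1 : a * t = t * a := mem_center_iff.mp ((hZmem t).mp htZ).1 a
      obtain ⟨k, rfl⟩ := mem_zpowers_iff.mp hu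
      have h2 : x ^ k * a = a * x ^ k := ((show Commute x a from hax).zpow_left k).eq
      calc t * x ^ k * a = t * (x ^ k * a) := by group
        _ = t * (a * x ^ k) := by rw [h2]
        _ = (t * a) * x ^ k := by group
        _ = (a * t) * x ^ k := by rw [h1]
        _ = a * (t * x ^ k) := by group
    exact hETZ ▸ (⟨haE, ha.1⟩ : a ∈ E ⊓ T)
  right
  refine ⟨zpowers x, R₁, ?_, ?_, ?_, ?_, ?_⟩
  · rw [Nat.card_zpowers, hox]
  · -- `R₁` is cyclic
    apply Cfsg.Agent.Lib.Helper49.isCyclic_of_isPGroup_rankLEOne hp (hR.to_subgroup R₁)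
    intro A hAc hAe
    have hle : A.map R₁.subtype ≤ Z := by
      rintro _ ⟨a, ha, rfl⟩
      apply hR₁Z _ a.2
      have := hAe a ha
      simpa using congrArg Subtype.val this
    have h1 : Nat.card ↥(A.map R₁.subtype) = Nat.card A :=
      Subgroup.card_map_of_injective R₁.subtype_injective
    rw [← h1, ← hZ1]
    exact Subgroup.card_le_of_le hle
  · -- `R₀ ∩ R₁ = 1`
    rw [eq_bot_iff]
    have hle : zpowers x ⊓ R₁ ≤ zpowers x ⊓ T := by
      rw [hR₁]
      exact inf_le_inf_left _ inf_le_left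
    refine hle.trans ?_
    have hd : Nat.card ↥(zpowers x ⊓ T : Subgroup R) ∣ p := by
      have := Subgroup.card_dvd_of_le (inf_le_left : zpowers x ⊓ T ≤ zpowers x)
      rwa [Nat.card_zpowers, hox] at this
    rcases (Nat.dvd_prime hpp).mp hd with h | h
    · exact (Subgroup.card_eq_one.mp h).le
    · exfalso
      have : zpowers x ⊓ T = zpowers x :=
        Subgroup.eq_of_le_of_card_ge inf_le_left (by rw [h, Nat.card_zpowers, hox])
      have h' : x ∈ zpowers x ⊓ T := by rw [this]; exact mem_zpowers x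
      exact hxT h'.2
  · intro a ha b hb
    rw [hR₁] at hb
    obtain ⟨k, rfl⟩ := mem_zpowers_iff.mp ha
    have := (hcx b).mp hb.2
    exact ((show Commute x b from this).zpow_left k).eq
  · apply le_antisymm
    · apply sup_le
      · intro a ha
        rw [hcx]
        obtain ⟨k, rfl⟩ := mem_zpowers_iff.mp ha
        exact ((Commute.refl x).zpow_right k).eq
      · rw [hR₁]; exact inf_le_right
    · intro y hy
      obtain ⟨t, ht, u, hu, rfl⟩ := hdec y
      have hu' : u ∈ centralizer ((zpowers x : Subgroup R) : Set R) := by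
        rw [hcx]
        obtain ⟨k, rfl⟩ := mem_zpowers_iff.mp hu
        exact ((Commute.refl x).zpow_right k).eq
      have ht' : t ∈ centralizer ((zpowers x : Subgroup R) : Set R) := by
        have : t = (t * u) * u⁻¹ := by group
        rw [this]
        exact Subgroup.mul_mem _ hy (Subgroup.inv_mem _ hu')
      have htR : t ∈ R₁ := by rw [hR₁]; exact ⟨ht, ht'⟩
      exact Subgroup.mul_mem _ (le_sup_right (α := Subgroup R) htR)
        (le_sup_left (α := Subgroup R) hu)

/-- Narrowness is invariant under isomorphism. -/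
theorem isNarrow_of_mulEquiv {R R' : Type*} [Group R] [Group R'] (p : ℕ) (e : R ≃* R')
    (h : IsNarrow p R) : IsNarrow p R' := by
  rcases h with h | ⟨R₀, R₁, h0, h1, h2, h3, h4⟩
  · left
    intro A hAc hAe
    have hAc' : IsMulCommutative ↥(A.map e.symm.toMonoidHom) := by
      refine ⟨⟨?_⟩⟩
      rintro ⟨_, ⟨a, ha, rfl⟩⟩ ⟨_, ⟨b, hb, rfl⟩⟩
      apply Subtype.ext
      have := congrArg Subtype.val (hAc.is_comm.comm ⟨a, ha⟩ ⟨b, hb⟩)
      simp only [Subgroup.coe_mul] at this ⊢
      change e.symm a * e.symm b = e.symm b * e.symm a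
      rw [← map_mul, ← map_mul, this]
    have h1 := h (A.map e.symm.toMonoidHom) hAc' (by
      rintro _ ⟨a, ha, rfl⟩
      change e.symm a ^ p = 1
      rw [← map_pow, hAe a ha, map_one])
    rwa [Subgroup.card_map_of_injective e.symm.injective] at h1
  · right
    refine ⟨R₀.map e.toMonoidHom, R₁.map e.toMonoidHom, ?_, ?_, ?_, ?_, ?_⟩
    · rw [Subgroup.card_map_of_injective e.injective]; exact h0
    · haveI := h1
      exact (Subgroup.equivMapOfInjective R₁ e.toMonoidHom e.injective).isCyclic.mp h1 |> fun h => h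
    · rw [← Subgroup.map_inf _ _ e.toMonoidHom e.injective, h2, Subgroup.map_bot]
    · rintro _ ⟨a, ha, rfl⟩ _ ⟨b, hb, rfl⟩
      change e a * e b = e b * e a
      rw [← map_mul, ← map_mul, h3 a ha b hb]
    · rw [← Subgroup.map_sup, h4]
      ext y
      constructor
      · rintro ⟨c, hc, rfl⟩
        rw [Subgroup.mem_centralizer_iff]
        rintro _ ⟨a, ha, rfl⟩
        change e a * e c = e c * e a
        rw [← map_mul, ← map_mul, (Subgroup.mem_centralizer_iff.mp hc) a ha]
      · intro hy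
        refine ⟨e.symm y, ?_, by simp⟩
        rw [SetLike.mem_coe, Subgroup.mem_centralizer_iff]
        intro a ha
        have := (Subgroup.mem_centralizer_iff.mp hy) (e a) ⟨a, ha, rfl⟩
        apply e.injective
        rw [map_mul, map_mul, e.apply_symm_apply]
        exact this

end Cfsg.Agent.Lib.Helper23.Beta
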