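import Cfsg.Agent.Lib.Helper51.NPC
import Cfsg.Agent.Lib.Helper33.NormalPComp

set_option autoImplicit false
set_option linter.style.haveILetI false
set_option linter.unusedSectionVars false

/-!
# Groups with normal `p`-complements for all primes outside `π`

Such a group has a characteristic Hall `π`-subgroup (the set of `π`-elements) with a nilpotent
complement.  (Used for Bender–Glauberman Lemma 10.8.)
-/

namespace Cfsg.Agent.Lib.Helper23.Beta

open Subgroup Cfsg

universe u

variable {X : Type u} [Group X] [Finite X]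

/-- a normal `p`-complement, as the set of `p'`-elements -/
theorem exists_npc_subgroup {p : ℕ} [Fact p.Prime] (h : HasNormalPComplement p X) :
    ∃ K : Subgroup X, K.Normal ∧ ∀ x : X, x ∈ K ↔ (orderOf x).Coprime p := by
  obtain ⟨K, hKn, hKc, k, hk⟩ := Cfsg.Agent.Lib.Helper51.npcn_of_hnpc h
  haveI := hKn
  exact ⟨K, hKn, fun x => Cfsg.Agent.Lib.Helper33.mem_iff_coprime_of_normal_hall K hKc hk x⟩

/-- A finite group with a normal `p`-complement for every prime `p` is nilpotent. -/
theorem isNilpotent_of_forall_hnpc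
    (h : ∀ p : ℕ, p.Prime → HasNormalPComplement p X) : Group.IsNilpotent X := by
  apply ((Group.isNilpotent_of_finite_tfae (G := X)).out 3 0).mp
  intro p hp P
  have hpp : p.Prime := hp.out
  -- the normal complements
  have hex : ∀ q : {q : ℕ // q.Prime ∧ q ≠ p}, ∃ K : Subgroup X, K.Normal ∧
      ∀ x : X, x ∈ K ↔ (orderOf x).Coprime q.1 := by
    intro q
    haveI : Fact q.1.Prime := ⟨q.2.1⟩
    exact exists_npc_subgroup (h q.1 q.2.1)
  choose K hKn hKmem using hex
  obtain ⟨Q, hQ⟩ : ∃ Q : Subgroup X, Q = ⨅ q, K q := ⟨_, rfl⟩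
  have hQn : Q.Normal := by
    rw [hQ]
    exact Subgroup.normal_iInf_normal hKn
  have hPQ : (P : Subgroup X) ≤ Q := by
    intro x hx
    rw [hQ, Subgroup.mem_iInf]
    intro q
    rw [hKmem q x]
    obtain ⟨k, hk⟩ := (P.2 ⟨x, hx⟩)
    have hk' : x ^ (p ^ k) = 1 := by simpa using congrArg Subtype.val hk
    have hd : orderOf x ∣ p ^ k := orderOf_dvd_of_pow_eq_one hk'
    apply Nat.Coprime.coprime_dvd_left hd
    apply Nat.Coprime.pow_left
    exact (Nat.coprime_primes hpp q.2.1).mpr (Ne.symm q.2.2)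
  have hQp : IsPGroup p Q := by
    intro x
    have hx : ∀ q : {q : ℕ // q.Prime ∧ q ≠ p}, (orderOf (x : X)).Coprime q.1 := by
      intro q
      rw [← hKmem q]
      have h0 : (x : X) ∈ ⨅ q, K q := hQ ▸ x.2
      exact (Subgroup.mem_iInf.mp h0) q
    have ho : orderOf (x : X) ≠ 0 := (orderOf_pos (x : X)).ne'
    have hpow : ∃ k : ℕ, orderOf (x : X) = p ^ k := by
      by_cases h1 : orderOf (x : X) = 1
      · exact ⟨0, by rw [h1, pow_zero]⟩
      · refine ⟨(orderOf (x : X)).primeFactorsList.length, ?_⟩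
        apply Nat.eq_prime_pow_of_unique_prime_dvd ho
        intro r hr hrd
        by_contra hne
        have := hx ⟨r, hr, hne⟩
        have h2 : r ∣ Nat.gcd (orderOf (x : X)) r := Nat.dvd_gcd hrd dvd_rfl
        rw [Nat.Coprime] at this
        simp only at this
        rw [this] at h2
        exact hr.one_lt.ne' (Nat.dvd_one.mp h2)
    obtain ⟨k, hk⟩ := hpow
    refine ⟨k, ?_⟩
    apply Subtype.ext
    rw [Subgroup.coe_pow, ← hk]
    exact pow_orderOf_eq_one _
  have := P.3 hQp hPQ
  rw [← this]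
  exact hQn

/-- The subgroup of `π`-elements of a group with normal `p`-complements for all primes outside
`π`: it is characteristic, and it has a nilpotent complement. -/
theorem exists_char_hall (π : Set ℕ)
    (h : ∀ p : ℕ, p.Prime → p ∉ π → HasNormalPComplement p X) :
    ∃ N : Subgroup X, N.Characteristic ∧
      (∀ x : X, x ∈ N ↔ ∀ p : ℕ, p.Prime → p ∣ orderOf x → p ∈ π) ∧
      (∀ p : ℕ, p.Prime → p ∣ Nat.card N → p ∈ π) ∧
      (∀ p : ℕ, p.Prime → p ∈ π → ¬ p ∣ N.index) ∧
      ∃ H : Subgroup X, N.IsComplement' H ∧ Group.IsNilpotent H := by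
  have hex : ∀ q : {q : ℕ // q.Prime ∧ q ∉ π}, ∃ K : Subgroup X, K.Normal ∧
      ∀ x : X, x ∈ K ↔ (orderOf x).Coprime q.1 := by
    intro q
    haveI : Fact q.1.Prime := ⟨q.2.1⟩
    exact exists_npc_subgroup (h q.1 q.2.1 q.2.2)
  choose K hKn hKmem using hex
  obtain ⟨N, hN⟩ : ∃ N : Subgroup X, N = ⨅ q, K q := ⟨_, rfl⟩
  have hmem : ∀ x : X, x ∈ N ↔ ∀ p : ℕ, p.Prime → p ∣ orderOf x → p ∈ π := by
    intro x
    rw [hN, Subgroup.mem_iInf]
    constructor
    · intro hx p hp hpd
      by_contra hpπ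
      have := (hKmem ⟨p, hp, hpπ⟩ x).mp (hx ⟨p, hp, hpπ⟩)
      have h2 : p ∣ Nat.gcd (orderOf x) p := Nat.dvd_gcd hpd dvd_rfl
      rw [Nat.Coprime] at this
      simp only at this
      rw [this] at h2
      exact hp.one_lt.ne' (Nat.dvd_one.mp h2)
    · intro hx q
      rw [hKmem q x, Nat.coprime_comm, q.2.1.coprime_iff_not_dvd]
      intro hd
      exact q.2.2 (hx q.1 q.2.1 hd)
  have hNn : N.Normal := by
    rw [hN]
    exact Subgroup.normal_iInf_normal hKn
  have hchar : N.Characteristic := by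
    rw [Subgroup.characteristic_iff_map_le]
    intro φ
    rintro _ ⟨x, hx, rfl⟩
    have hx' := (hmem x).mp hx
    rw [hmem]
    intro p hp hpd
    apply hx' p hp
    simpa using hpd
  -- `N` is a Hall subgroup
  have hNπ : ∀ p : ℕ, p.Prime → p ∣ Nat.card N → p ∈ π := by
    intro p hp hpd
    haveI : Fact p.Prime := ⟨hp⟩
    obtain ⟨x, hx⟩ := exists_prime_orderOf_dvd_card' (G := N) p hpd
    have h1 : orderOf (x : X) = p := by rw [Subgroup.orderOf_coe]; exact hx
    exact (hmem x).mp x.2 p hp (by rw [h1])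
  have hidx : ∀ p : ℕ, p.Prime → p ∈ π → ¬ p ∣ N.index := by
    intro p hp hpπ hpd
    haveI : Fact p.Prime := ⟨hp⟩
    obtain ⟨S⟩ : Nonempty (Sylow p X) := inferInstance
    have hSN : (S : Subgroup X) ≤ N := by
      intro x hx
      rw [hmem]
      intro r hr hrd
      obtain ⟨k, hk⟩ := (S.2 ⟨x, hx⟩)
      have hk' : x ^ (p ^ k) = 1 := by simpa using congrArg Subtype.val hk
      have hd : orderOf x ∣ p ^ k := orderOf_dvd_of_pow_eq_one hk'
      have : r = p := (Nat.prime_dvd_prime_iff_eq hr hp).mp (hr.dvd_of_dvd_pow (hrd.trans hd))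
      rw [this]; exact hpπ
    exact S.not_dvd_index (hpd.trans (Subgroup.index_dvd_of_le hSN))
  have hcop : (Nat.card N).Coprime N.index := by
    apply Nat.Coprime.symm
    apply Nat.coprime_of_dvd
    intro r hr hri hrc
    exact hidx r hr (hNπ r hr hrc) hri
  haveI := hNn
  obtain ⟨H, hH⟩ := Subgroup.exists_right_complement'_of_coprime hcop
  refine ⟨N, hchar, hmem, hNπ, hidx, H, hH, ?_⟩
  -- `H` has normal `p`-complements for all primes
  apply isNilpotent_of_forall_hnpc
  intro p hp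
  haveI : Fact p.Prime := ⟨hp⟩
  by_cases hpπ : p ∈ π
  · apply Cfsg.Agent.Lib.Helper51.hnpc_of_coprime
    have h1 : Nat.card H = N.index := hH.symm.index_eq_card.symm
    rw [h1, Nat.coprime_comm, hp.coprime_iff_not_dvd]
    exact hidx p hp hpπ
  · exact Cfsg.Agent.Lib.Helper51.hnpc_subgroup H (h p hp hpπ)

end Cfsg.Agent.Lib.Helper23.Beta
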