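import Cfsg.Agent.S1455
import Cfsg.Agent.Lib.Helper23.AlphaB
import Cfsg.Agent.Lib.Helper23.BetaNil
import Cfsg.Agent.Lib.Helper23.BetaNarrow
import Cfsg.Agent.Lib.Helper64.BG95Sig
import Cfsg.Agent.Lib.Helper22.FStar

set_option autoImplicit false
set_option linter.style.haveILetI false
set_option linter.unusedSectionVars false

/-!
# Bender–Glauberman Lemma 10.8

From the Uniqueness Theorem, Theorem 10.1(a) and Corollary 10.7(a) (all as hypotheses).
-/

namespace Cfsg.Agent.Lib.Helper23.Beta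

open Subgroup Cfsg Cfsg.Agent.Lib.Helper33 Cfsg.Agent.Lib.Helper24 Cfsg.Agent.Lib.Helper32
open Cfsg.Agent.Lib.Helper63 Cfsg.Agent.Lib.Helper23

universe u

variable {G : Type u} [Group G] [Finite G]

/-- `M' = [M, M]`, inside `G` -/
theorem map_commutator_subtype (M : Subgroup G) :
    (commutator ↥M).map M.subtype = ⁅M, M⁆ := by
  rw [commutator_def, Subgroup.map_commutator, ← MonoidHom.range_eq_map, Subgroup.range_subtype]

/-- For `p ∉ β(M)`, the Sylow `p`-subgroups of `M` are narrow. -/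
theorem sylow_isNarrow (hG : IsMinSimpleOddOrder G) (hU : BG10.UniqStmt G)
    {M : Subgroup G} (hM : IsCoatom M) {p : ℕ} [Fact p.Prime] (hpβ : p ∉ beta M)
    (S : Sylow p ↥M) : IsNarrow p ↥(S : Subgroup ↥M) := by
  have hpp : p.Prime := Fact.out
  by_cases h2 : PRankLE p 2 ↥(S : Subgroup ↥M)
  · left; exact h2
  have hα : p ∈ alpha M := ⟨hpp, fun h => h2
    (BG10.pRankLE_of_injective (S : Subgroup ↥M).subtype (Subgroup.subtype_injective _) h)⟩
  have hG3 : ¬ PRankLE p 2 G := fun h => hα.2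
    (BG10.pRankLE_of_injective M.subtype M.subtype_injective h)
  have hni : ¬ IsIdealPrime p G := fun h => hpβ ⟨hα, h⟩
  have hex : ∃ (P : Sylow p G) (A : Subgroup G), A ≤ (P : Subgroup G) ∧ IsElementaryAbelian p A ∧
      Nat.card A = p ^ 2 ∧ ∀ B : Subgroup G, B ≤ (P : Subgroup G) → IsElementaryAbelian p B →
        ¬ A < B := by
    by_contra hcon
    apply hni
    refine ⟨hpp, hG3, ?_⟩
    intro P A hAP hAe hA2
    by_contra hno
    apply hcon
    refine ⟨P, A, hAP, hAe, hA2, ?_⟩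
    intro B hBP hBe hAB
    exact hno ⟨B, hBP, hBe, hAB⟩
  obtain ⟨P, A, hAP, hAe, hA2, hAmax⟩ := hex
  -- the Sylow subgroup of `G` coming from `S`
  obtain ⟨hSM, hSp, hSi⟩ := sylow_map_facts M S
  have hN := (alpha_sylow_normalizer_le hG hU hM hα S).1
  have hSidx := not_dvd_index_of_normalizer_le hSM hSp hSi hN
  obtain ⟨Q, hQ⟩ : ∃ Q : Sylow p G, (Q : Subgroup G) = (S : Subgroup ↥M).map M.subtype :=
    ⟨hSp.toSylow hSidx, IsPGroup.toSylow_coe hSp hSidx⟩
  -- `P` is narrow
  have hp2 : p ≠ 2 := by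
    intro h
    have hodd : Odd (Nat.card G) := hG.1
    have hd : p ∣ Nat.card G := by
      have h1 : p ∣ Nat.card A := by rw [hA2]; exact dvd_pow_self p (by norm_num)
      exact h1.trans (Subgroup.card_subgroup_dvd_card A)
    rw [h] at hd
    exact (Nat.not_even_iff_odd.mpr hodd) (even_iff_two_dvd.mpr hd)
  have hPn : IsNarrow p ↥(P : Subgroup G) := by
    have hP3 : ¬ PRankLE p 2 ↥(P : Subgroup G) := fun h => hG3 (BG10.pRankLE_of_sylow p P h)
    apply isNarrow_of_maximal_elemAb p hp2 P.2 hP3 (A.subgroupOf (P : Subgroup G))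
    · obtain ⟨hAc, hAexp⟩ := hAe
      refine ⟨⟨⟨?_⟩⟩, ?_⟩
      · rintro ⟨a, ha⟩ ⟨b, hb⟩
        apply Subtype.ext
        apply Subtype.ext
        have := congrArg Subtype.val (hAc.is_comm.comm ⟨a.1, ha⟩ ⟨b.1, hb⟩)
        simpa using this
      · intro a ha
        apply Subtype.ext
        have := hAexp a.1 ha
        simpa using this
    · rw [← hA2]
      exact Nat.card_congr (Subgroup.subgroupOfEquivOfLe hAP).toEquiv
    · intro B hBe hAB
      obtain ⟨hBc, hBexp⟩ := hBe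
      have hBe' : IsElementaryAbelian p (B.map (P : Subgroup G).subtype) := by
        refine ⟨⟨⟨?_⟩⟩, ?_⟩
        · rintro ⟨_, ⟨a, ha, rfl⟩⟩ ⟨_, ⟨b, hb, rfl⟩⟩
          apply Subtype.ext
          have := congrArg Subtype.val (hBc.is_comm.comm ⟨a, ha⟩ ⟨b, hb⟩)
          simpa using congrArg Subtype.val this
        · rintro _ ⟨a, ha, rfl⟩
          have := hBexp a ha
          simpa using congrArg Subtype.val this
      have hle : A ≤ B.map (P : Subgroup G).subtype := by
        intro a ha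
        exact ⟨⟨a, hAP ha⟩, hAB (Subgroup.mem_subgroupOf.mpr ha), rfl⟩
      have heq : A = B.map (P : Subgroup G).subtype := by
        by_contra hne
        exact hAmax _ (Subgroup.map_subtype_le B) hBe' (lt_of_le_of_ne hle hne)
      ext b
      rw [Subgroup.mem_subgroupOf, heq]
      constructor
      · intro hb
        exact ⟨b, hb, rfl⟩
      · rintro ⟨c, hc, hcb⟩
        have : c = b := Subtype.ext hcb
        rw [← this]; exact hc
  -- transport to `S`
  have e1 : ↥(P : Subgroup G) ≃* ↥(Q : Subgroup G) := Sylow.equiv P Q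
  have e2 : ↥(Q : Subgroup G) ≃* ↥((S : Subgroup ↥M).map M.subtype) :=
    MulEquiv.subgroupCongr hQ
  have e3 : ↥(S : Subgroup ↥M) ≃* ↥((S : Subgroup ↥M).map M.subtype) :=
    Subgroup.equivMapOfInjective _ M.subtype M.subtype_injective
  exact isNarrow_of_mulEquiv p ((e1.trans e2).trans e3.symm) hPn

/-- `M_σ ≤ M'` -/
theorem piCore_sigma_le_commutator (hG : IsMinSimpleOddOrder G) {M : Subgroup G}
    (hF : SigmaFusion M) : piCore (sigma M) ↥M ≤ commutator ↥M := by
  obtain ⟨Y, hY⟩ : ∃ Y : Subgroup ↥M, Y = piCore (sigma M) ↥M := ⟨_, rfl⟩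
  rw [← hY]
  have key : (commutator ↥M).subgroupOf Y = ⊤ := by
    apply Cfsg.Agent.Lib.Helper64.eq_top_of_forall_sylow_le
    intro q hqF
    haveI := hqF
    have hq : q.Prime := Fact.out
    obtain ⟨Q⟩ : Nonempty (Sylow q ↥Y) := inferInstance
    refine ⟨Q, ?_⟩
    by_cases hqσ : q ∈ sigma M
    · obtain ⟨P0, hN0⟩ := hqσ.2.2
      have hP0c : (P0 : Subgroup ↥M) ≤ commutator ↥M :=
        sylow_le_commutator_of_sigma hG hF hqσ P0 hN0
      have hQp : IsPGroup q ((Q : Subgroup ↥Y).map Y.subtype) := Q.2.map _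
      obtain ⟨P, hP⟩ := hQp.exists_le_sylow
      obtain ⟨m, hm⟩ := MulAction.exists_smul_eq ↥M P0 P
      intro x hx
      rw [Subgroup.mem_subgroupOf]
      have hxP : (x : ↥M) ∈ (P : Subgroup ↥M) := hP ⟨x, hx, rfl⟩
      rw [← hm, Sylow.coe_subgroup_smul, Subgroup.mem_pointwise_smul_iff_inv_smul_mem] at hxP
      have h1 := hP0c hxP
      have h2 := (inferInstance : (commutator ↥M).Normal).conj_mem _ h1 m
      simpa [MulAut.smul_def, mul_assoc] using h2
    · -- `Q` is trivial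
      have hbot : (Q : Subgroup ↥Y) = ⊥ := by
        rw [← Subgroup.card_eq_one]
        obtain ⟨k, hk⟩ := IsPGroup.iff_card.mp Q.2
        rcases Nat.eq_zero_or_pos k with hk0 | hk0
        · rw [hk, hk0, pow_zero]
        · exfalso
          apply hqσ
          have h1 : q ∣ Nat.card ↥Y := by
            refine dvd_trans ?_ (Subgroup.card_subgroup_dvd_card (Q : Subgroup ↥Y))
            rw [hk]; exact dvd_pow_self q hk0.ne'
          rw [hY] at h1
          exact Cfsg.Agent.Lib.Helper62.isPi_piCore (sigma M) q hq h1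
      rw [hbot]; exact bot_le
  intro x hx
  have : (⟨x, hx⟩ : ↥Y) ∈ (commutator ↥M).subgroupOf Y := by rw [key]; trivial
  exact Subgroup.mem_subgroupOf.mp this

/-- B&G Lemma 10.8(c), inside `M`. -/
theorem npc_of_not_beta (hG : IsMinSimpleOddOrder G) (hU : BG10.UniqStmt G)
    {M : Subgroup G} (hM : IsCoatom M) (hpl : ∀ (p : ℕ) [Fact p.Prime], PLengthLE p 1 ↥M)
    {p : ℕ} [Fact p.Prime] (hpM : p ∣ Nat.card ↥M) (hpβ : p ∉ beta M) :
    HasNormalPComplement p ↥(commutator ↥M) ∧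
      ∀ q : ℕ, q.Prime → q ∣ (pPrimeCore p ↥M).index → q ≤ p := by
  haveI : Group.IsSolvable ↥M := isSolvable_of_ne_top hG hM.1
  have hodd : Odd (Nat.card ↥M) := odd_card_subgroup hG M
  obtain ⟨S⟩ : Nonempty (Sylow p ↥M) := inferInstance
  have hS := sylow_isNarrow hG hU hM hpβ S
  have r := Cfsg.Agent.S1455.result (G := ↥M) hodd p hpM S hS (fun _ => hpl p)
  exact ⟨r.2.2.1, r.1⟩

/-- all primes outside `β(M)`: `M'` has a normal `p`-complement -/
theorem npc_commutator (hG : IsMinSimpleOddOrder G) (hU : BG10.UniqStmt G)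
    {M : Subgroup G} (hM : IsCoatom M) (hpl : ∀ (p : ℕ) [Fact p.Prime], PLengthLE p 1 ↥M)
    (p : ℕ) (hp : p.Prime) (hpβ : p ∉ beta M) :
    HasNormalPComplement p ↥(commutator ↥M) := by
  haveI : Fact p.Prime := ⟨hp⟩
  by_cases hpM : p ∣ Nat.card ↥M
  · exact (npc_of_not_beta hG hU hM hpl hpM hpβ).1
  · apply Cfsg.Agent.Lib.Helper51.hnpc_of_coprime
    rw [Nat.coprime_comm, hp.coprime_iff_not_dvd]
    intro h
    exact hpM (h.trans (Subgroup.card_subgroup_dvd_card _))

/-- A subgroup with normal `p`-complements for all primes outside `π` has a nilpotent Hall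
`π'`-subgroup. -/
theorem exists_nilpotent_hall (X : Subgroup G) (π : Set ℕ)
    (h : ∀ p : ℕ, p.Prime → p ∉ π → HasNormalPComplement p ↥X) :
    ∃ H : Subgroup G, IsPiHallOf {q | q.Prime ∧ q ∉ π} H X ∧ Group.IsNilpotent H := by
  obtain ⟨N, -, -, hNπ, hidx, H, hcompl, hnil⟩ := exists_char_hall (X := ↥X) π h
  refine ⟨H.map X.subtype, ⟨Subgroup.map_subtype_le H, ?_, ?_⟩, ?_⟩
  · intro q hq hqd
    refine ⟨hq, fun hqπ => ?_⟩
    rw [Subgroup.card_map_of_injective X.subtype_injective] at hqd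
    have h1 : Nat.card H = N.index := hcompl.symm.index_eq_card.symm
    rw [h1] at hqd
    exact hidx q hq hqπ hqd
  · intro q hq hqτ hqd
    have h1 : (H.map X.subtype).relIndex X = H.index := by
      rw [Subgroup.relIndex, Subgroup.subgroupOf,
        Subgroup.comap_map_eq_self_of_injective X.subtype_injective]
    rw [h1, hcompl.index_eq_card] at hqd
    exact hqτ.2 (hNπ q hq hqd)
  · have e := Subgroup.equivMapOfInjective H X.subtype X.subtype_injective
    exact Cfsg.Agent.Lib.Helper22.isNilpotent_of_injective' e.symm.toMonoidHom e.symm.injective hnil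

/-- **B&G Lemma 10.8**, from the Uniqueness Theorem, Theorem 10.1(a) and Corollary 10.7(a). -/
theorem beta_main (hG : IsMinSimpleOddOrder G) (hU : BG10.UniqStmt G)
    {M : Subgroup G} (hM : IsCoatom M) (hF : SigmaFusion M)
    (hpl : ∀ (p : ℕ) [Fact p.Prime], PLengthLE p 1 ↥M) :
    IsPiHallOf (beta M) (piCoreOf (beta M) M) M ∧ IsPiHall (beta M) (piCoreOf (beta M) M) ∧
      (∃ H : Subgroup G, IsPiHallOf {q | q.Prime ∧ q ∉ beta M} H ⁅M, M⁆ ∧ Group.IsNilpotent H) ∧
      (∃ H : Subgroup G, IsPiHallOf {q | q.Prime ∧ q ∉ beta M} H (sigmaCore M) ∧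
        Group.IsNilpotent H) ∧
      ∀ p : ℕ, p.Prime → p ∣ Nat.card M → p ∉ beta M →
        HasNormalPComplement p ↥⁅M, M⁆ ∧ HasNormalPComplement p ↥(sigmaCore M) ∧
        ∀ q : ℕ, q.Prime → q ∣ (pPrimeCore p ↥M).index → q ≤ p := by
  have hσM : sigmaCore M ≤ ⁅M, M⁆ := by
    rw [sigmaCore, ← map_commutator_subtype]
    exact Subgroup.map_mono (piCore_sigma_le_commutator hG hF)
  -- normal complements in `[M, M]` and `M_σ`
  have hnpc1 : ∀ p : ℕ, p.Prime → p ∉ beta M → HasNormalPComplement p ↥⁅M, M⁆ := by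
    intro p hp hpβ
    haveI : Fact p.Prime := ⟨hp⟩
    have := Cfsg.Agent.Lib.Helper51.hnpc_map_subgroup M.subtype (commutator ↥M)
      (npc_commutator hG hU hM hpl p hp hpβ)
    rwa [map_commutator_subtype] at this
  have hnpc2 : ∀ p : ℕ, p.Prime → p ∉ beta M → HasNormalPComplement p ↥(sigmaCore M) := by
    intro p hp hpβ
    haveI : Fact p.Prime := ⟨hp⟩
    exact Cfsg.Agent.Lib.Helper51.hnpc_of_le hσM (hnpc1 p hp hpβ)
  -- Sylow subgroups for primes in `β(M)` lie in `O_β(M)`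
  have hSyl : ∀ p : ℕ, p.Prime → p ∈ beta M →
      ¬ p ∣ (piCore (beta M) ↥M).index ∧ ¬ p ∣ M.index := by
    intro p hpp hp
    haveI : Fact p.Prime := ⟨hpp⟩
    have hα : p ∈ alpha M := hp.1
    have hσ : p ∈ sigma M := alpha_subset_sigma hG hU hM hα
    obtain ⟨P⟩ : Nonempty (Sylow p ↥M) := inferInstance
    have hN := (alpha_sylow_normalizer_le hG hU hM hα P).1
    have hPc : (P : Subgroup ↥M) ≤ commutator ↥M := sylow_le_commutator_of_sigma hG hF hσ P hN
    obtain ⟨N, hchar, hmem, hNπ, -, -⟩ := exists_char_hall (X := ↥(commutator ↥M)) (beta M)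
      (fun q hq hqβ => npc_commutator hG hU hM hpl q hq hqβ)
    haveI := hchar
    have hNn : (N.map (commutator ↥M).subtype).Normal := inferInstance
    have hNle : N.map (commutator ↥M).subtype ≤ piCore (beta M) ↥M := by
      apply Cfsg.Agent.Lib.Helper62.le_piCore hNn
      intro q hq hqd
      rw [Subgroup.card_map_of_injective (Subgroup.subtype_injective _)] at hqd
      exact hNπ q hq hqd
    have h1 : (P : Subgroup ↥M) ≤ piCore (beta M) ↥M := by
      intro x hx
      apply hNle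
      refine ⟨⟨x, hPc hx⟩, ?_, rfl⟩
      rw [SetLike.mem_coe, hmem]
      intro r hr hrd
      rw [Subgroup.orderOf_mk] at hrd
      obtain ⟨k, hk⟩ := (P.2 ⟨x, hx⟩)
      have hk' : x ^ (p ^ k) = 1 := by simpa using congrArg Subtype.val hk
      have hd : orderOf x ∣ p ^ k := orderOf_dvd_of_pow_eq_one hk'
      have : r = p := (Nat.prime_dvd_prime_iff_eq hr hpp).mp (hr.dvd_of_dvd_pow (hrd.trans hd))
      rw [this]; exact hp
    obtain ⟨hSM, hSp, hSi⟩ := sylow_map_facts M P
    have h2 := not_dvd_index_of_normalizer_le hSM hSp hSi hN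
    exact ⟨fun hd => P.not_dvd_index (hd.trans (Subgroup.index_dvd_of_le h1)),
      fun hd => h2 (hd.trans (Subgroup.index_dvd_of_le hSM))⟩
  have hcard : Nat.card ↥(piCoreOf (beta M) M) = Nat.card ↥(piCore (beta M) ↥M) := by
    rw [piCoreOf, Subgroup.card_map_of_injective M.subtype_injective]
  have hrel : (piCoreOf (beta M) M).relIndex M = (piCore (beta M) ↥M).index := by
    rw [piCoreOf, Subgroup.relIndex, Subgroup.subgroupOf,
      Subgroup.comap_map_eq_self_of_injective M.subtype_injective]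
  have hle : piCoreOf (beta M) M ≤ M := Subgroup.map_subtype_le _
  have hpi : ∀ p : ℕ, p.Prime → p ∣ Nat.card ↥(piCoreOf (beta M) M) → p ∈ beta M := by
    intro p hpp hd
    rw [hcard] at hd
    exact Cfsg.Agent.Lib.Helper62.isPi_piCore (beta M) p hpp hd
  refine ⟨⟨hle, hpi, ?_⟩, ⟨hpi, ?_⟩, exists_nilpotent_hall _ _ hnpc1,
    exists_nilpotent_hall _ _ hnpc2, ?_⟩
  · intro p hpp hp
    rw [hrel]
    exact (hSyl p hpp hp).1
  · intro p hpp hp hd
    rw [← Subgroup.relIndex_mul_index hle, hrel] at hd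
    rcases (Nat.Prime.dvd_mul hpp).mp hd with h | h
    · exact (hSyl p hpp hp).1 h
    · exact (hSyl p hpp hp).2 h
  · intro p hp hpM hpβ
    haveI : Fact p.Prime := ⟨hp⟩
    exact ⟨hnpc1 p hp hpβ, hnpc2 p hp hpβ, (npc_of_not_beta hG hU hM hpl hpM hpβ).2⟩

end Cfsg.Agent.Lib.Helper23.Beta
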