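import Cfsg.Agent.Lib.Helper23.BG1310Defs
import Cfsg.Agent.S1415
import Cfsg.Agent.S1350
import Cfsg.Agent.Lib.Helper47.BG139T7
import Cfsg.Agent.Lib.Helper67.ZGroupConj
import Cfsg.Agent.Lib.Helper56.BG117A
import Cfsg.Agent.Lib.Helper47.BGLemmaF

set_option autoImplicit false
set_option linter.style.haveILetI false
set_option linter.unusedSectionVars false

/-!
# B&G 13.10, piece (A): subgroups of prime order `q ∈ τ₃(M)` of a complement `E` are normal in `E`
-/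

namespace Cfsg.Agent.Lib.Helper23.BG1310

open Subgroup Cfsg

universe u

variable {G : Type u} [Group G] [Finite G]

/-- a `π`-subgroup of `E` lies in every Hall `π`-subgroup of `E` that is normal in `E` -/
theorem le_hall_of_normal {π : Set ℕ} {E E₃ Z : Subgroup G} (hH : IsPiHallOf π E₃ E)
    (hn : E ≤ normalizer (E₃ : Set G)) (hZE : Z ≤ E)
    (hZπ : ∀ r : ℕ, r.Prime → r ∣ Nat.card Z → r ∈ π) : Z ≤ E₃ := by
  have hK : E₃ ⊔ Z ≤ E := sup_le hH.1 hZE
  have hdvd := Cfsg.Agent.Lib.Helper56.BG117.card_sup_dvd_mul_of_le_normalizer (N := E₃) (R := Z)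
    (hZE.trans hn)
  have h1 : Nat.card E₃ * E₃.relIndex (E₃ ⊔ Z) = Nat.card ↥(E₃ ⊔ Z) := by
    have := Subgroup.relIndex_mul_relIndex (⊥ : Subgroup G) E₃ (E₃ ⊔ Z) bot_le le_sup_left
    rwa [Subgroup.relIndex_bot_left, Subgroup.relIndex_bot_left] at this
  have h2 : E₃.relIndex (E₃ ⊔ Z) * (E₃ ⊔ Z).relIndex E = E₃.relIndex E :=
    Subgroup.relIndex_mul_relIndex E₃ (E₃ ⊔ Z) E le_sup_left hK
  have h3 : E₃.relIndex (E₃ ⊔ Z) ∣ Nat.card Z := by
    rw [← h1] at hdvd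
    exact Nat.dvd_of_mul_dvd_mul_left Nat.card_pos hdvd
  have h4 : E₃.relIndex (E₃ ⊔ Z) = 1 := by
    rw [Nat.eq_one_iff_not_exists_prime_dvd]
    intro r hr hrd
    have hrπ : r ∈ π := hZπ r hr (hrd.trans h3)
    apply hH.2.2 r hr hrπ
    rw [← h2]
    exact Dvd.dvd.mul_right hrd _
  have h5 := Subgroup.relIndex_eq_one.mp h4
  exact le_sup_right.trans h5

/-- a `q`-subgroup of `E`, `q ∈ τ₃(M)`, lying in the cyclic normal Hall `τ₃(M)`-subgroup, is normal
in `E` -/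
theorem le_normalizer_of_le_cyclic_normal {E E₃ Z : Subgroup G} (hc : IsCyclic E₃)
    (hn : E ≤ normalizer (E₃ : Set G)) (hZ3 : Z ≤ E₃) : E ≤ normalizer (Z : Set G) := by
  intro e he
  have hcard : Nat.card (Z.map (MulAut.conj e).toMonoidHom) = Nat.card Z :=
    Nat.card_congr (Z.equivMapOfInjective _ (MulAut.conj e).injective).symm.toEquiv
  have hle : Z.map (MulAut.conj e).toMonoidHom ≤ E₃ := by
    rintro _ ⟨z, hz, rfl⟩
    have := (mem_normalizer_iff.mp (hn he) z).mp (hZ3 hz)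
    simpa [MulAut.conj_apply] using this
  haveI := hc
  have heq := Cfsg.Agent.Lib.Helper67.eq_of_le_isCyclic_of_card_eq E₃ _ Z hle hZ3 hcard
  rw [mem_normalizer_iff]
  intro z
  constructor
  · intro hz
    have : e * z * e⁻¹ ∈ Z.map (MulAut.conj e).toMonoidHom := ⟨z, hz, by simp [MulAut.conj_apply]⟩
    rwa [heq] at this
  · intro hz
    rw [← heq] at hz
    obtain ⟨z', hz', h⟩ := hz
    have h' : e * z' * e⁻¹ = e * z * e⁻¹ := by simpa [MulAut.conj_apply] using h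
    have : z' = z := by
      have := congrArg (fun x => e⁻¹ * x * e) h'
      simpa [mul_assoc] using this
    rwa [← this]

/-- **Piece (A)**: for `q ∈ τ₃(M)`, a `q`-subgroup `Z` of a complement `E` of `M_σ` lies in the
cyclic normal Hall `τ₃(M)`-subgroup `E₃` of `E`; hence it is normal in `E`, cyclic, and lies in `E'`. -/
theorem tau3_subgroup (hG : IsMinSimpleOddOrder G) {M E : Subgroup G} (hM : IsCoatom M)
    (hE : IsComplIn E (sigmaCore M) M) {q : ℕ} [hq' : Fact q.Prime] (hq : q ∈ tau3 M)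
    {Z : Subgroup G} (hZE : Z ≤ E) (hZq : IsPGroup q Z) :
    E ≤ normalizer (Z : Set G) ∧ IsCyclic Z ∧ Z ≤ ⁅E, E⁆ := by
  have hEtop : E ≠ ⊤ := fun h => hM.1 (top_le_iff.mp (h ▸ hE.1))
  obtain ⟨E₃, hE3⟩ := Cfsg.Agent.Lib.Helper47.BG139.exists_isPiHallOf hG (tau3 M) hEtop
  obtain ⟨hc, hder, hn⟩ := (Cfsg.Agent.S1415.result hG M hM E hE).2.2 E₃ hE3
  have hZ3 : Z ≤ E₃ := by
    apply le_hall_of_normal hE3 hn hZE
    intro r hr hrd
    obtain ⟨k, hk⟩ := IsPGroup.iff_card.mp hZq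
    rw [hk] at hrd
    have : r = q := (Nat.prime_dvd_prime_iff_eq hr hq'.out).mp (hr.dvd_of_dvd_pow hrd)
    rw [this]; exact hq
  refine ⟨le_normalizer_of_le_cyclic_normal hc hn hZ3, ?_, hZ3.trans hder⟩
  haveI := hc
  have : IsCyclic ↥(Z.subgroupOf E₃) := inferInstance
  exact isCyclic_of_surjective (Subgroup.subgroupOfEquivOfLe hZ3).toMonoidHom
    (Subgroup.subgroupOfEquivOfLe hZ3).surjective

end Cfsg.Agent.Lib.Helper23.BG1310
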