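import Cfsg.Agent.Lib.Helper23.BG1310E
import Cfsg.Agent.Lib.Helper50.BG138B
import Cfsg.Agent.Lib.Helper32.BG142Defs
import Cfsg.Agent.S1378
import Cfsg.Agent.S1428

set_option autoImplicit false

/-!
# B&G Lemma 13.10(b), armed only on Lemma E
-/

namespace Cfsg.Agent.Lib.Helper23.BG1310

open Subgroup Cfsg

universe u

variable {G : Type u} [Group G] [Finite G]

/-- the real S1378 (second clause) -/
theorem stmt1378b (hG : IsMinSimpleOddOrder G) : Stmt1378b G :=
  (Cfsg.Agent.S1378.result hG).2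

/-- the real S1428 -/
theorem stmt1428' (hG : IsMinSimpleOddOrder G) : Cfsg.Agent.Lib.Helper60.BG139.Stmt1428 G :=
  fun M hM E hE p hp P hPE hP R hRE hR =>
    Cfsg.Agent.S1428.result hG M hM E hE p hp P hPE hP R hRE hR

/-- **B&G Lemma 13.10(b)**, with only Lemma E as a hypothesis. -/
theorem tau13_regular_of (hG : IsMinSimpleOddOrder G) (hLE : StmtE G)
    {M E : Subgroup G} (hM : IsCoatom M) (hE : IsComplIn E (sigmaCore M) M)
    {p : ℕ} (hp : p ∈ tau1 M) {P : Subgroup G} (hPE : P ≤ E) (hP : Nat.card P = p)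
    {q : ℕ} (hq : q ∈ tau3 M) {Z : Subgroup G} (hZE : Z ≤ E) (hZ : Nat.card Z = q)
    (hmove : ¬ Z ≤ centralizer (P : Set G)) :
    sigmaCore M ⊓ centralizer (Z : Set G) = ⊥ :=
  tau13_regular hG (stmt1378b hG) (stmt1428' hG) hLE
    (fun M L => Cfsg.Agent.Lib.Helper50.BG138.stmtAsym hG M L) hM hE hp hPE hP hq hZE hZ hmove

/-- helper32's `Stmt1310`, from Lemma E -/
theorem stmt1310_of (hG : IsMinSimpleOddOrder G) (hLE : StmtE G) :
    Cfsg.Agent.Lib.Helper32.BG142.Stmt1310 G :=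
  fun _ _ hM hE _ hp _ hPE hP _ hq _ hZE hZ hmove =>
    tau13_regular_of hG hLE hM hE hp hPE hP hq hZE hZ hmove

end Cfsg.Agent.Lib.Helper23.BG1310
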