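import Cfsg.Agent.Lib.Helper23.BadTau2
import Cfsg.Agent.Lib.Helper24.Tau2B
import Cfsg.Agent.Lib.Helper71.BadB3
import Cfsg.Agent.Lib.Helper47.BG11e
import Cfsg.Agent.S1412
import Cfsg.Agent.S1414
import Cfsg.Agent.S1415

set_option autoImplicit false
set_option linter.style.haveILetI false
set_option linter.unusedSectionVars false
set_option linter.unusedVariables false

/-!
# S1359 (and the `A₀`-half of S1421) from the statements of S1417 and S1418

All other inputs (S1350, S1404, S1405, S1408, S1410, S1411, S1412, S1414, S1415) are on main.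
-/

namespace Cfsg.Agent.Lib.Helper23.Bad

open Subgroup Cfsg Cfsg.Agent.Lib.Helper33 Cfsg.Agent.Lib.Helper63

universe u

/-- the statement of S1417, verbatim -/
def Full17 (G : Type u) [Group G] : Prop :=
  ∀ (M : Subgroup G), IsCoatom M → ∀ (p : ℕ) [Fact p.Prime], p ∈ Cfsg.tau2 M → ∀ (A : Subgroup G),
    (A ≤ M ∧ Cfsg.IsElementaryAbelian p A ∧ Nat.card A = p ^ 2) →
    Group.IsNilpotent (Cfsg.sigmaCore M) ∧
      (∀ P : Sylow p M, IsMulCommutative (P : Subgroup M) ∧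
        (A ≤ (P : Subgroup M).map M.subtype →
          (∀ x ∈ (P : Subgroup M).map M.subtype, x ^ p = 1 ↔ x ∈ A) ∧
          ¬ Subgroup.normalizer ((((P : Subgroup M).map M.subtype : Subgroup G)) : Set G) ≤ M)) ∧
      M ≤ Subgroup.normalizer ((Cfsg.sigmaCore M ⊔ A : Subgroup G) : Set G) ∧
      Cfsg.sigmaCore M ⊓ Subgroup.centralizer (A : Set G) = ⊥ ∧
      (∀ Mstar : Subgroup G, IsCoatom Mstar → Mstar ≠ M → A ≤ Mstar →
        Cfsg.sigmaCore M ⊓ Mstar = ⊥) ∧
      ∃ A₁ : Subgroup G, A₁ ≤ A ∧ Nat.card A₁ = p ∧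
        Cfsg.sigmaCore M ⊓ Subgroup.centralizer (A₁ : Set G) = ⊥

variable {G : Type u} [Group G] [Finite G]

theorem stmt17b_of_full (h : Full17 G) : Stmt17b G :=
  fun M hM p _ hp A hAM hAel hAc P => (h M hM p hp A ⟨hAM, hAel, hAc⟩).2.1 P

theorem stmtB3 (hG : IsMinSimpleOddOrder G) : StmtB3 G :=
  fun p _ hp2 S hSna P A hPS hPab hAP hAel hAc hAmax d hd hdp =>
    Cfsg.Agent.Lib.Helper71.BadB3.exists_normalized_omega hp2 S hSna
      (fun h => Cfsg.Agent.S1412.result hG p S h) hPS hPab hAP hAel hAc hAmax hd hdp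

theorem stmtAb (hG : IsMinSimpleOddOrder G) (h17 : Full17 G) (h18 : Stmt18 G) : StmtAb G := by
  intro M E hM hE p _ hp S hSE
  have hUq := Helper19.BG124.uniqStmt hG
  refine Cfsg.Agent.Lib.Helper24.Tau2.tau2_sylow_normal hG
    (Cfsg.Agent.Lib.Helper47.BG11.stmt1404 hG) (Cfsg.Agent.Lib.Helper47.BG11.stmt1410 hG)
    (fun L hL => Helper19.BG124.sigmaHallIn hG hL)
    (fun L hL => alpha_subset_sigma hG hUq hL)
    (fun M' hM' q hq hqσ hr2 hr1 => by
      haveI : Fact q.Prime := ⟨hq⟩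
      exact (Cfsg.Agent.S1408.result hG M' hM' q hqσ hr2 hr1).1)
    (fun L hL q hq hqL hqβ => ((Cfsg.Agent.S1414.result hG L hL).2.2.2.2 q hq hqL hqβ).2.1)
    (fun M' hM' p' _ hp' A hA P => (h17 M' hM' p' hp' A hA).2.1 P)
    (fun M' hM' E' hE' p' _ hp' A hA => by
      obtain ⟨⟨h1, -⟩, ⟨h2, h3, h4⟩, -⟩ := h18 M' hM' E' hE' p' hp' A hA
      exact ⟨h1, h2, h3, h4⟩)
    (fun M' hM' E' hE' => by
      have h125 : Helper96.BG127.Stmt125b M' := fun p' _ hp' A hAM hAel hAc P =>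
        ⟨((h17 M' hM' p' hp' A ⟨hAM, hAel, hAc⟩).2.1 P).1,
          fun hA => (((h17 M' hM' p' hp' A ⟨hAM, hAel, hAc⟩).2.1 P).2 hA).1⟩
      exact Helper96.BG127.part_b hG hUq hM' (Helper19.BG124.sigmaHallIn hG hM') h125 hE'
        (Cfsg.Agent.S1415.result hG M' hM' E' hE').1)
    hM hE hp S hSE

/-- **S1359**, from the statements of S1417 and S1418. -/
theorem s1359_of (hG : IsMinSimpleOddOrder G) (h17 : Full17 G) (h18 : Stmt18 G)
    {M K U : Subgroup G} (hM : IsCoatom M) (hKU : IsSigmaDecomposition M K U) :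
    IsMulCommutative (closure ((U : Set G) ∩ sigmaHat M)) :=
  closure_sigmaHat_comm hG (stmt17b_of_full h17) h18 (stmtAb hG h17 h18) (stmtB3 hG) hM hKU

end Cfsg.Agent.Lib.Helper23.Bad
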