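import Cfsg.Agent.Lib.Helper23.BadTau2Main

set_option autoImplicit false
set_option linter.style.haveILetI false
set_option linter.unusedSectionVars false
set_option linter.unusedVariables false

/-!
# The `A₀`-half of S1421 (BG 12.9(a)): `A₀ := F(E)`
-/

namespace Cfsg.Agent.Lib.Helper23.Bad

open Subgroup Cfsg Cfsg.Agent.Lib.Helper33 Cfsg.Agent.Lib.Helper63

universe u

variable {G : Type u} [Group G] [Finite G]

/-- the prime divisors of `|E|` lie in `τ₁(M) ∪ τ₂(M) ∪ τ₃(M)` -/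
theorem mem_tau_of_dvd_card_compl (hG : IsMinSimpleOddOrder G) {M E : Subgroup G}
    (hM : IsCoatom M) (hE : IsComplIn E (sigmaCore M) M) {r : ℕ} (hr : r.Prime)
    (hrE : r ∣ Nat.card E) : r ∈ tau2 M ∨ r ∈ tau1 M ∪ tau3 M := by
  have hHall : IsPiHallOf (sigma M) (sigmaCore M) M := Helper19.BG124.sigmaHallIn hG hM
  have hUq := Helper19.BG124.uniqStmt hG
  have hrσ : r ∉ sigma M := Helper96.BG127.not_mem_sigma_of_dvd_card_compl hHall hE hr hrE
  have hrM : r ∣ Nat.card M := hrE.trans (Subgroup.card_dvd_of_le hE.1)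
  have hr2 : PRankLE r 2 M := by
    by_contra h
    exact hrσ (alpha_subset_sigma hG hUq hM ⟨hr, h⟩)
  by_cases hr1 : PRankLE r 1 M
  · right
    by_cases hd : r ∣ Nat.card ↥⁅M, M⁆
    · exact Or.inr ⟨hr, hrσ, hd, hr1⟩
    · exact Or.inl ⟨hr, hrσ, hrM, hd, hr1⟩
  · exact Or.inl ⟨hr, hrσ, hr2, hr1⟩

/-- `F(E)` is abelian -/
theorem fittingOf_compl_comm (hG : IsMinSimpleOddOrder G) (h17 : Stmt17b G) {M E : Subgroup G}
    (hM : IsCoatom M) (hE : IsComplIn E (sigmaCore M) M) : IsMulCommutative (fittingOf E) := by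
  have hHall : IsPiHallOf (sigma M) (sigmaCore M) M := Helper19.BG124.sigmaHallIn hG hM
  have hUq := Helper19.BG124.uniqStmt hG
  have h125 : Helper96.BG127.Stmt125b M := fun p _ hp A hAM hAel hAc P =>
    ⟨(h17 M hM p hp A hAM hAel hAc P).1, fun hA => ((h17 M hM p hp A hAM hAel hAc P).2 hA).1⟩
  apply Helper96.BG127.part_a hG hUq hM h125 (fittingOf E) ((fittingOf_le E).trans hE.1)
    (isNilpotent_fittingOf E)
  intro q hq hqF
  exact Helper96.BG127.not_mem_sigma_of_dvd_card_compl hHall hE hq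
    (hqF.trans (Subgroup.card_dvd_of_le (fittingOf_le E)))

/-- **S1421 (a)** from the statements of S1417 and S1418. -/
theorem s1421a_of (hG : IsMinSimpleOddOrder G) (h17 : Full17 G) (h18 : Stmt18 G)
    {M E : Subgroup G} (hM : IsCoatom M) (hE : IsComplIn E (sigmaCore M) M)
    (h : ∀ e ∈ E, e ≠ 1 → (∀ p : ℕ, p.Prime → p ∣ orderOf e → p ∈ tau1 M ∪ tau3 M) →
      sigmaCore M ⊓ centralizer ({e} : Set G) = ⊥) :
    ∃ A₀ : Subgroup G, A₀ ≤ E ∧ E ≤ normalizer (A₀ : Set G) ∧ IsMulCommutative A₀ ∧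
      ∀ x ∈ sigmaCore M, x ≠ 1 → E ⊓ centralizer ({x} : Set G) ≤ A₀ := by
  refine ⟨fittingOf E, fittingOf_le E, le_normalizer_fittingOf E,
    fittingOf_compl_comm hG (stmt17b_of_full h17) hM hE, ?_⟩
  rintro x hx hx1 e ⟨heE, hex⟩
  have hex' : e * x = x * e := by
    have := (mem_centralizer_iff.mp hex) x (Set.mem_singleton x)
    exact this.symm
  apply mem_of_primary_powers_mem (fittingOf E) e
  rintro d hd ⟨r, k, hr, hdk⟩
  by_cases hd1 : d = 1
  · rw [hd1]; exact one_mem _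
  haveI : Fact r.Prime := ⟨hr⟩
  have hdE : d ∈ E := zpowers_le.mpr heE hd
  have hdx : d * x = x * d := by
    obtain ⟨n, rfl⟩ := mem_zpowers_iff.mp hd
    have h1 : Commute e x := hex'
    exact (h1.zpow_left n).eq
  have hdr : IsPGroup r (zpowers d) := by
    rintro ⟨g, hg⟩
    obtain ⟨n, rfl⟩ := mem_zpowers_iff.mp hg
    refine ⟨k, Subtype.ext ?_⟩
    show (d ^ n) ^ (r ^ k) = 1
    rw [← zpow_natCast, ← zpow_mul, mul_comm, zpow_mul, zpow_natCast, hdk, one_zpow]
  obtain ⟨j, hj, hjd⟩ := (Nat.dvd_prime_pow hr).mp (orderOf_dvd_of_pow_eq_one hdk)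
  have hrd : r ∣ orderOf d := by
    have hj0 : j ≠ 0 := by
      rintro rfl
      rw [pow_zero, orderOf_eq_one_iff] at hjd
      exact hd1 hjd
    rw [hjd]
    exact dvd_pow_self r hj0
  have hrE : r ∣ Nat.card E := hrd.trans (Subgroup.orderOf_dvd_natCard E hdE)
  have hbad : sigmaCore M ⊓ centralizer ({d} : Set G) ≠ ⊥ := by
    intro h0
    have h3 : x ∈ centralizer ({d} : Set G) := by
      rw [mem_centralizer_iff]
      intro z hz
      rw [Set.mem_singleton_iff.mp hz]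
      exact hdx
    have h2 : x ∈ sigmaCore M ⊓ centralizer ({d} : Set G) := ⟨hx, h3⟩
    rw [h0, mem_bot] at h2
    exact hx1 h2
  rcases mem_tau_of_dvd_card_compl hG hM hE hr hrE with hτ | hτ
  · exact bad_mem_fitting hG (stmt17b_of_full h17) h18 (stmtAb hG h17 h18) (stmtB3 hG) hM hE hτ
      hdE hdr hbad
  · exfalso
    apply hbad
    apply h d hdE hd1
    intro q hq hqd
    rw [hjd] at hqd
    have : q = r := (Nat.prime_dvd_prime_iff_eq hq hr).mp (hq.dvd_of_dvd_pow hqd)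
    rw [this]; exact hτ

end Cfsg.Agent.Lib.Helper23.Bad
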