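import Mathlib
import Cfsg.Prelude.Def_OddOrderLocal

set_option autoImplicit false

/-!
# Statement-hypotheses used in the proof of Bender–Glauberman Lemma 13.10

`Stmt1378b` : second conjunct of S1378 (B&G Theorem 13.9).
`StmtE`     : "Lemma E": a subgroup `X` of prime order `p ∈ τ₁(M) ∪ τ₃(M)` with `C_{M_σ}(X) ≠ 1`
              has `p ∈ σ(H)` for every maximal `H` over `N_G(X)`.
`StmtAsym`  : the asymmetry lemma (B&G Lemma 13.8).
-/

namespace Cfsg.Agent.Lib.Helper23.BG1310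

open Subgroup Cfsg

universe u

/-- second conjunct of S1378 (B&G 13.9) -/
def Stmt1378b (G : Type u) [Group G] : Prop :=
  ∀ M N : Subgroup G, IsCoatom M → IsCoatom N → (sigma M ∩ sigma N).Nonempty →
    ∃ g : G, N = M.map (MulAut.conj g).toMonoidHom

/-- Lemma E -/
def StmtE (G : Type u) [Group G] : Prop :=
  ∀ M H : Subgroup G, IsCoatom M → IsCoatom H → ∀ p : ℕ, p ∈ tau1 M ∪ tau3 M →
    ∀ X : Subgroup G, Nat.card X = p → X ≤ M →
      sigmaCore M ⊓ centralizer (X : Set G) ≠ ⊥ → normalizer (X : Set G) ≤ H → p ∈ sigma H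

/-- the asymmetry lemma (B&G 13.8) -/
def StmtAsym (G : Type u) [Group G] : Prop :=
  ∀ M L : Subgroup G, IsCoatom M → IsCoatom L →
    (∀ g : G, L ≠ M.map (MulAut.conj g).toMonoidHom) →
    ∀ p q r : ℕ, p.Prime → q.Prime → r.Prime → p ∈ tau1 M → p ∈ tau1 L →
    ∀ P Q R : Subgroup G, Nat.card P = p → P ≤ M ⊓ L →
      Q ≤ M ⊓ L → IsPGroup q Q → ¬ q ∣ Q.relIndex (M ⊓ L) →
      R ≤ M ⊓ L → IsPGroup r R → ¬ r ∣ R.relIndex (M ⊓ L) →
      P ≤ normalizer (Q : Set G) → P ≤ normalizer (R : Set G) →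
      Q ⊓ centralizer (P : Set G) = ⊥ → R ⊓ centralizer (P : Set G) = ⊥ →
      normalizer (Q : Set G) ≤ L → normalizer (R : Set G) ≤ M → False

end Cfsg.Agent.Lib.Helper23.BG1310
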