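import Cfsg.Agent.Lib.Helper23.PComponent
import Cfsg.Agent.S2019

set_option autoImplicit false

namespace Cfsg.Agent.Lib.Helper23

open Cfsg
open Cfsg.Agent.Lib.Helper33 (cj)

variable {X : Type*} [Group X]

/-- a perfect nontrivial group all of whose proper normal subgroups are central is quasisimple -/
theorem isQuasisimple_of_normal_central {Q : Type*} [Group Q] [hperf : Group.IsPerfect Q]
    [hnt : Nontrivial Q]
    (h : ∀ M : Subgroup Q, M.Normal → M = ⊤ ∨ M ≤ Subgroup.center Q) : IsQuasisimple Q := by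
  refine ⟨hperf, ?_⟩
  have hne : Subgroup.center Q ≠ ⊤ := by
    intro htop
    have : IsMulCommutative Q := by
      refine ⟨⟨fun a b => ?_⟩⟩
      have ha : a ∈ Subgroup.center Q := htop ▸ Subgroup.mem_top a
      exact (Subgroup.mem_center_iff.mp ha b).symm
    exact Group.IsPerfect.not_isMulCommutative Q this
  refine @IsSimpleGroup.mk _ _ ?_ ?_
  · rw [← not_subsingleton_iff_nontrivial]
    intro hs
    apply hne
    rw [eq_top_iff]
    intro x _
    have : (QuotientGroup.mk' (Subgroup.center Q) x) = 1 := Subsingleton.elim _ _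
    exact (QuotientGroup.eq_one_iff x).mp this
  · intro H hH
    have hM : (H.comap (QuotientGroup.mk' (Subgroup.center Q))).Normal := inferInstance
    rcases h _ hM with h1 | h1
    · right
      have := congrArg (Subgroup.map (QuotientGroup.mk' (Subgroup.center Q))) h1
      rw [Subgroup.map_comap_eq_self_of_surjective (QuotientGroup.mk'_surjective _),
        Subgroup.map_top_of_surjective _ (QuotientGroup.mk'_surjective _)] at this
      exact this
    · left
      rw [eq_bot_iff]
      intro x hx
      obtain ⟨y, rfl⟩ := QuotientGroup.mk'_surjective (Subgroup.center Q) x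
      have hy : y ∈ H.comap (QuotientGroup.mk' (Subgroup.center Q)) := hx
      rw [Subgroup.mem_bot]
      exact (QuotientGroup.eq_one_iff y).mpr (h1 hy)

section pcomp

variable [Finite X] (p : ℕ) [hp : Fact p.Prime]

theorem isPComponent_commutator_eq {K : Subgroup X} (hK : IsPComponent p K) : ⁅K, K⁆ = K := by
  have hKbar_perf : ⁅K.map (QuotientGroup.mk' (pPrimeCore p X)),
      K.map (QuotientGroup.mk' (pPrimeCore p X))⁆ = K.map (QuotientGroup.mk' (pPrimeCore p X)) :=
    Subgroup.isPerfect_iff.1 hK.2.1.2.1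
  apply hK.2.2 _ (Cfsg.Agent.S2019.commutator_self_subnormal K hK.1) (Subgroup.commutator_le_self K)
  rw [Subgroup.map_commutator, hKbar_perf]

theorem isPComponent_isPerfect {K : Subgroup X} (hK : IsPComponent p K) : Group.IsPerfect ↥K :=
  Subgroup.isPerfect_iff.2 (isPComponent_commutator_eq p hK)

/-- a normal subgroup of a `p`-component is everything, or its image mod `O_{p'}(X)` is central -/
theorem isPComponent_normal_cases {K : Subgroup X} (hK : IsPComponent p K) (M : Subgroup ↥K)
    (hM : M.Normal) :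
    M = ⊤ ∨ ∀ m ∈ M, ∀ k : ↥K, (k : X) * m * (k : X)⁻¹ * (m : X)⁻¹ ∈ pPrimeCore p X := by
  have hMsn : (M.map K.subtype).IsSubnormal := hM.isSubnormal.trans' hK.1
  have hMle : M.map K.subtype ≤ K := by
    intro x hx
    obtain ⟨y, _, rfl⟩ := Subgroup.mem_map.mp hx
    exact y.2
  have hle : (M.map K.subtype).map (QuotientGroup.mk' (pPrimeCore p X)) ≤
      K.map (QuotientGroup.mk' (pPrimeCore p X)) := Subgroup.map_mono hMle
  have hKn : K ≤ Subgroup.normalizer ((M.map K.subtype : Subgroup X) : Set X) := by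
    rw [← Subgroup.normal_subgroupOf_iff_le_normalizer hMle]
    have : (M.map K.subtype).subgroupOf K = M :=
      Subgroup.comap_map_eq_self_of_injective K.subtype_injective _
    rw [this]; exact hM
  have hnorm : (((M.map K.subtype).map (QuotientGroup.mk' (pPrimeCore p X))).subgroupOf
      (K.map (QuotientGroup.mk' (pPrimeCore p X)))).Normal := by
    rw [Subgroup.normal_subgroupOf_iff_le_normalizer hle]
    exact (Subgroup.map_mono hKn).trans (Subgroup.le_normalizer_map _)
  rcases Cfsg.Agent.Lib.Helper21.quasisimple_subnormal hK.2.1.2 hnorm.isSubnormal with h | h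
  · left
    rw [Subgroup.subgroupOf_eq_top] at h
    have h2 := hK.2.2 _ hMsn hMle (le_antisymm hle h)
    rw [eq_top_iff]
    intro k _
    have : (k : X) ∈ M.map K.subtype := by rw [h2]; exact k.2
    obtain ⟨y, hy, hyk⟩ := Subgroup.mem_map.mp this
    have : y = k := Subtype.ext hyk
    rwa [← this]
  · right
    intro m hm k
    have hm' : QuotientGroup.mk' (pPrimeCore p X) (m : X) ∈
        (M.map K.subtype).map (QuotientGroup.mk' (pPrimeCore p X)) :=
      Subgroup.mem_map_of_mem _ (Subgroup.mem_map_of_mem _ hm)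
    have hk' : QuotientGroup.mk' (pPrimeCore p X) (k : X) ∈
        K.map (QuotientGroup.mk' (pPrimeCore p X)) := Subgroup.mem_map_of_mem _ k.2
    have hc := h (show (⟨_, hle hm'⟩ : ↥(K.map (QuotientGroup.mk' (pPrimeCore p X)))) ∈ _ from
      Subgroup.mem_subgroupOf.mpr hm')
    have hc2 := Subgroup.mem_center_iff.mp hc ⟨_, hk'⟩
    have hc3 := congrArg Subtype.val hc2
    simp only [Subgroup.coe_mul] at hc3
    rw [← QuotientGroup.eq_one_iff, ← QuotientGroup.mk'_apply, map_mul, map_mul, map_mul, hc3,
      map_inv, map_inv]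
    group

theorem pPrimeCore_subgroupOf_le (K : Subgroup X) :
    (pPrimeCore p X).subgroupOf K ≤ pPrimeCore p ↥K := by
  apply le_sSup
  refine ⟨Subgroup.Normal.subgroupOf inferInstance _, ?_⟩
  have h3 : Nat.card ((pPrimeCore p X).subgroupOf K) ∣ Nat.card (pPrimeCore p X) :=
    Subgroup.card_comap_dvd_of_injective _ _ K.subtype_injective
  exact Nat.Coprime.coprime_dvd_left h3 (Cfsg.Agent.Lib.Helper55.pPrimeCore_card_coprime p)

theorem isPComponent_pPrimeCore_ne_top {K : Subgroup X} (hK : IsPComponent p K) :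
    pPrimeCore p ↥K ≠ ⊤ := by
  intro htop
  apply component_not_coprime p hK.2.1
  have h1 : (Nat.card (pPrimeCore p ↥K)).Coprime p :=
    Cfsg.Agent.Lib.Helper55.pPrimeCore_card_coprime p
  rw [htop, Subgroup.card_top] at h1
  exact Nat.Coprime.coprime_dvd_left (Subgroup.card_map_dvd _ _) h1

theorem isQuasisimple_quotient_pPrimeCore {K : Subgroup X} (hK : IsPComponent p K) :
    IsQuasisimple (↥K ⧸ pPrimeCore p ↥K) := by
  have hperf : Group.IsPerfect ↥K := isPComponent_isPerfect p hK
  have hperfQ : Group.IsPerfect (↥K ⧸ pPrimeCore p ↥K) := inferInstance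
  have hnt : Nontrivial (↥K ⧸ pPrimeCore p ↥K) := by
    rw [← not_subsingleton_iff_nontrivial]
    intro hs
    apply isPComponent_pPrimeCore_ne_top p hK
    rw [eq_top_iff]
    intro x _
    have : (QuotientGroup.mk' (pPrimeCore p ↥K) x) = 1 := Subsingleton.elim _ _
    exact (QuotientGroup.eq_one_iff x).mp this
  apply isQuasisimple_of_normal_central
  intro MQ hMQ
  have hM : (MQ.comap (QuotientGroup.mk' (pPrimeCore p ↥K))).Normal := inferInstance
  rcases isPComponent_normal_cases p hK _ hM with h1 | h1
  · left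
    have := congrArg (Subgroup.map (QuotientGroup.mk' (pPrimeCore p ↥K))) h1
    rw [Subgroup.map_comap_eq_self_of_surjective (QuotientGroup.mk'_surjective _),
      Subgroup.map_top_of_surjective _ (QuotientGroup.mk'_surjective _)] at this
    exact this
  · right
    intro q hq
    rw [Subgroup.mem_center_iff]
    intro q'
    obtain ⟨m, rfl⟩ := QuotientGroup.mk'_surjective (pPrimeCore p ↥K) q
    obtain ⟨k, rfl⟩ := QuotientGroup.mk'_surjective (pPrimeCore p ↥K) q'
    have hm : m ∈ MQ.comap (QuotientGroup.mk' (pPrimeCore p ↥K)) := hq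
    have h2 := h1 m hm k
    have h3 : k * m * k⁻¹ * m⁻¹ ∈ (pPrimeCore p X).subgroupOf K := by
      rw [Subgroup.mem_subgroupOf]
      simpa using h2
    have h4 := pPrimeCore_subgroupOf_le p K h3
    have h5 : QuotientGroup.mk' (pPrimeCore p ↥K) (k * m * k⁻¹ * m⁻¹) = 1 :=
      (QuotientGroup.eq_one_iff _).mpr h4
    rw [map_mul, map_mul, map_mul, map_inv, map_inv] at h5
    have h6 : QuotientGroup.mk' (pPrimeCore p ↥K) k * QuotientGroup.mk' (pPrimeCore p ↥K) m =
        QuotientGroup.mk' (pPrimeCore p ↥K) m * QuotientGroup.mk' (pPrimeCore p ↥K) k := by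
      have := congrArg (fun t => t * (QuotientGroup.mk' (pPrimeCore p ↥K) m *
        QuotientGroup.mk' (pPrimeCore p ↥K) k)) h5
      simpa [mul_assoc] using this
    exact h6

end pcomp

end Cfsg.Agent.Lib.Helper23
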