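import Mathlib
import Cfsg.Prelude.Def_ClassicalGeometry
import Cfsg.Prelude.Def_GeometricClasses
import Cfsg.Agent.Lib.Helper59.TqDefs

/-! # TQ-SCAL (helper59's Tq hive, S5973 + S5987): scalar isometries -/

set_option autoImplicit false
set_option linter.unusedSectionVars false

namespace Cfsg.Agent.Lib.Helper59.Tq

open Module
open scoped Matrix

section generic

variable {ι : Type} [Fintype ι] [DecidableEq ι] {F : Type*} [Field F] [Fintype F]

omit [Fintype F] in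
/-- membership in the isometry group, unfolded -/
theorem scal_mem_iff (Q : (ι → F) → F) (x : GL ι F) :
    x ∈ Cfsg.isometryGroup F Q ↔ ∀ u : ι → F, Q ((x : Matrix ι ι F) *ᵥ u) = Q u := by
  constructor
  · intro h u
    exact h u u
  · intro h u v
    exact h u

omit [Fintype F] in
/-- a standard form takes a nonzero value -/
theorem scal_exists_ne_zero (Q : (ι → F) → F) (d : ℕ) (hd : 1 ≤ d) (hS : Std Q d) :
    ∃ v : ι → F, Q v ≠ 0 := by
  obtain ⟨QF, hQF, hnd⟩ := hS.exists_form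
  by_contra hcon
  push Not at hcon
  have hcard : 0 < Fintype.card ι := by rw [hS.card]; omega
  obtain ⟨i0⟩ := Fintype.card_pos_iff.mp hcard
  have hx0 : (fun _ : ι => (1 : F)) = 0 := by
    apply hnd.1
    intro y
    rw [QuadraticMap.polarBilin_apply_apply, QuadraticMap.polar, hQF, hcon, hcon, hcon]
    simp
  have := congrFun hx0 i0
  simp at this

/-- TQ-SCAL: a scalar isometry is `±1` -/
theorem scalar_sq_eq_one (Q : (ι → F) → F) (d : ℕ) (hd : 1 ≤ d) (hS : Std Q d) (x : GL ι F)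
    (hx : x ∈ Cfsg.isometryGroup F Q) (z : F) (h : (x : Matrix ι ι F) = z • 1) : z * z = 1 := by
  obtain ⟨v, hv⟩ := scal_exists_ne_zero Q d hd hS
  obtain ⟨QF, hQF, -⟩ := hS.exists_form
  have h1 := (scal_mem_iff Q x).mp hx v
  rw [h, Matrix.smul_mulVec, Matrix.one_mulVec, ← hQF, QuadraticMap.map_smul, smul_eq_mul] at h1
  rw [hQF] at h1
  have : (z * z - 1) * Q v = 0 := by rw [sub_mul, h1, one_mul, sub_self]
  rcases mul_eq_zero.mp this with h2 | h2
  · exact sub_eq_zero.mp h2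
  · exact absurd h2 hv

/-- TQ-SCAL (2): reduction of `x ^ r` scalar to `y ^ r = 1` (`y = z • x`, `z = ±1`) -/
theorem exists_pow_eq_one (Q : (ι → F) → F) (d : ℕ) (hd : 1 ≤ d) (hS : Std Q d) (r : ℕ)
    (hr : Odd r) (x : GL ι F) (hx : x ∈ Cfsg.isometryGroup F Q)
    (hxr : ∃ z : F, ((x ^ r : GL ι F) : Matrix ι ι F) = z • 1) (hns : NonScalar x) :
    ∃ y : GL ι F, y ∈ Cfsg.isometryGroup F Q ∧ y ^ r = 1 ∧ y ≠ 1 ∧
      ∀ m, FixTS Q m y → FixTS Q m x := by
  obtain ⟨z, hz⟩ := hxr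
  have hzz : z * z = 1 :=
    scalar_sq_eq_one Q d hd hS (x ^ r) (Subgroup.pow_mem _ hx r) z hz
  have hymat : ((x ^ r * x : GL ι F) : Matrix ι ι F) = z • (x : Matrix ι ι F) := by
    rw [Units.val_mul, hz, Matrix.smul_mul, Matrix.one_mul]
  refine ⟨x ^ r * x, Subgroup.mul_mem _ (Subgroup.pow_mem _ hx r) hx, ?_, ?_, ?_⟩
  · -- `(x ^ (r+1)) ^ r = (x ^ r) ^ (r+1) = z ^ (r+1) • 1 = 1`
    obtain ⟨k, hk⟩ := hr
    have h1 : (x ^ r * x) ^ r = (x ^ r) ^ (r + 1) := by
      rw [← pow_succ, ← pow_mul, ← pow_mul, mul_comm]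
    rw [h1]
    apply Units.ext
    rw [Units.val_pow_eq_pow_val, hz, smul_pow, one_pow, Units.val_one]
    have : z ^ (r + 1) = 1 := by
      have : r + 1 = 2 * (k + 1) := by omega
      rw [this, pow_mul, pow_two, hzz, one_pow]
    rw [this, one_smul]
  · intro hy1
    have h2 : z • (x : Matrix ι ι F) = 1 := by
      rw [← hymat, hy1, Units.val_one]
    apply hns z
    have h3 : z • (z • (x : Matrix ι ι F)) = z • (1 : Matrix ι ι F) := by rw [h2]
    rwa [smul_smul, hzz, one_smul] at h3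
  · rintro m ⟨W, hWm, hWQ, hWx⟩
    refine ⟨W, hWm, hWQ, ?_⟩
    rintro _ ⟨w, hw, rfl⟩
    have h4 : Matrix.toLin' ((x ^ r * x : GL ι F) : Matrix ι ι F) w ∈ W :=
      hWx ⟨w, hw, rfl⟩
    rw [hymat, map_smul, LinearMap.smul_apply] at h4
    have h5 := W.smul_mem z h4
    rwa [smul_smul, hzz, one_smul] at h5

/-- TQ-SCAL (3): an isometry `x ≠ 1` with `x ^ r = 1`, `r` odd, is not scalar -/
theorem nonScalar_of_pow_eq_one (Q : (ι → F) → F) (d : ℕ) (hd : 1 ≤ d) (hS : Std Q d) (r : ℕ)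
    (hr : Odd r) (x : GL ι F) (hx : x ∈ Cfsg.isometryGroup F Q) (hxr : x ^ r = 1) (hx1 : x ≠ 1) :
    NonScalar x := by
  intro z hz
  have hzz : z * z = 1 := scalar_sq_eq_one Q d hd hS x hx z hz
  have hcard : 0 < Fintype.card ι := by rw [hS.card]; omega
  obtain ⟨i0⟩ := Fintype.card_pos_iff.mp hcard
  have h1 : ((x ^ r : GL ι F) : Matrix ι ι F) = z ^ r • 1 := by
    rw [Units.val_pow_eq_pow_val, hz, smul_pow, one_pow]
  rw [hxr, Units.val_one] at h1
  have h2 : z ^ r = 1 := by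
    have := congrFun (congrFun h1 i0) i0
    simpa using this.symm
  obtain ⟨k, hk⟩ := hr
  have h3 : z = 1 := by
    have : z ^ r = z := by
      rw [hk, pow_succ, pow_mul, pow_two, hzz, one_pow, one_mul]
    rw [← this, h2]
  apply hx1
  apply Units.ext
  rw [hz, h3, one_smul, Units.val_one]

/-- TQ-SCAL (4) -/
theorem omegaGL_le (Q : (ι → F) → F) : Cfsg.Geo.omegaGL Q ≤ Cfsg.isometryGroup F Q := by
  unfold Cfsg.Geo.omegaGL
  exact Subgroup.map_subtype_le _

end generic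

end Cfsg.Agent.Lib.Helper59.Tq
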