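import Cfsg.Agent.Lib.Helper96.BG127
import Cfsg.Agent.Lib.Helper23.LargeFitD
import Cfsg.Agent.Lib.Helper32.BG126
import Cfsg.Agent.Lib.Helper19.BG124a
import Cfsg.Agent.Lib.Helper49.RankOneCyclic
import Cfsg.Agent.S1408

set_option autoImplicit false
set_option linter.style.haveILetI false
set_option linter.unusedSectionVars false
set_option linter.unusedVariables false

/-!
# Bad `τ₂`-elements of a complement lie in its Fitting subgroup (towards BG 12.9 / S1359)

`M` a maximal subgroup of a minimal simple group of odd order, `E` a complement of `M_σ` in `M`,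
`p ∈ τ₂(M)`, `d ∈ E` a `p`-element centralizing a non-identity element of `M_σ`.  Then `d ∈ F(E)`.

The statements of S1417(b), S1418, the abelian Sylow case and a `p`-group lemma are taken as
hypotheses (`Stmt17b`, `Stmt18`, `StmtAb`, `StmtB3`).
-/

namespace Cfsg.Agent.Lib.Helper23.Bad

open Subgroup Cfsg Cfsg.Agent.Lib.Helper33 Cfsg.Agent.Lib.Helper63

universe u

/-- the part (b) of the statement of S1417 -/
def Stmt17b (G : Type u) [Group G] : Prop :=
  ∀ (M : Subgroup G), IsCoatom M → ∀ (p : ℕ) [Fact p.Prime], p ∈ tau2 M → ∀ A : Subgroup G,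
    A ≤ M → IsElementaryAbelian p A → Nat.card A = p ^ 2 → ∀ P : Sylow p M,
      IsMulCommutative (P : Subgroup M) ∧ (A ≤ (P : Subgroup M).map M.subtype →
        (∀ x ∈ (P : Subgroup M).map M.subtype, x ^ p = 1 ↔ x ∈ A) ∧
        ¬ normalizer ((((P : Subgroup M).map M.subtype : Subgroup G)) : Set G) ≤ M)

/-- the statement of S1418 -/
def Stmt18 (G : Type u) [Group G] : Prop :=
  ∀ (M : Subgroup G), IsCoatom M → ∀ E : Subgroup G, IsComplIn E (sigmaCore M) M →
    ∀ (p : ℕ) [Fact p.Prime], p ∈ tau2 M → ∀ A : Subgroup G,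
      (A ≤ E ∧ IsElementaryAbelian p A ∧ Nat.card A = p ^ 2) →
    (E ≤ normalizer (A : Set G) ∧ ∀ X : Subgroup G, X ≤ E → Nat.card X = p → X ≤ A) ∧
      (centralizer (A : Set G) ≤ M ⊓ normalizer (A : Set G) ∧
        M ⊓ normalizer (A : Set G) = E ∧ ¬ normalizer (A : Set G) ≤ M) ∧
      ∀ X : Subgroup G, X ≤ A → Nat.card X = p →
        sigmaCore M ⊓ centralizer (X : Set G) ≠ ⊥ →
        (centralizer (X : Set G) ≤ M ∧
          ∀ L : Subgroup G, IsCoatom L → centralizer (X : Set G) ≤ L → L = M)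

/-- the abelian case: a Sylow `p`-subgroup of `G` inside `E` is normal in `E` -/
def StmtAb (G : Type u) [Group G] : Prop :=
  ∀ (M E : Subgroup G), IsCoatom M → IsComplIn E (sigmaCore M) M →
    ∀ (p : ℕ) [Fact p.Prime], p ∈ tau2 M → ∀ S : Sylow p G, (S : Subgroup G) ≤ E →
      E ≤ normalizer ((S : Subgroup G) : Set G)

/-- the `p`-group lemma (BadB3) -/
def StmtB3 (G : Type u) [Group G] : Prop :=
  ∀ (p : ℕ) [Fact p.Prime], p ≠ 2 → ∀ S : Sylow p G, ¬ IsMulCommutative (S : Subgroup G) →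
    ∀ P A : Subgroup G, P ≤ S → (∀ x ∈ P, ∀ y ∈ P, x * y = y * x) → A ≤ P →
      IsElementaryAbelian p A → Nat.card A = p ^ 2 →
      (∀ B : Subgroup G, IsElementaryAbelian p B → A ≤ B → B = A) →
      ∀ d ∈ P, d ^ p ≠ 1 → ∃ X : Subgroup G, X ≤ zpowers d ∧ Nat.card X = p ∧
        ∀ u ∈ (S : Subgroup G), u ∈ normalizer (P : Set G) → u ∈ normalizer (X : Set G)

variable {G : Type u} [Group G] [Finite G]

/-- a normal `p`-subgroup of `E` lies in `F(E)` -/
theorem le_fittingOf_of_normal_pgroup {p : ℕ} [Fact p.Prime] {E X : Subgroup G} (hXE : X ≤ E)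
    (hX : IsPGroup p X) (hn : E ≤ normalizer (X : Set G)) : X ≤ fittingOf E := by
  refine le_trans ?_ (pCoreOf_le_fittingOf p E)
  intro x hx
  have h1 : (⟨x, hXE hx⟩ : ↥E) ∈ X.subgroupOf E := by
    rw [mem_subgroupOf]; exact hx
  exact ⟨_, Cfsg.Agent.Lib.Helper22.subgroupOf_le_pCore E X hX hn h1, rfl⟩

/-- the index of a complement of `M_σ` is `|M_σ|` -/
theorem relIndex_compl {M E : Subgroup G} (hE : IsComplIn E (sigmaCore M) M) :
    E.relIndex M = Nat.card (sigmaCore M) := by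
  have h1 : Nat.card E * Nat.card (sigmaCore M) = Nat.card M := card_isComplIn hE
  have h2 := relIndex_mul_relIndex (⊥ : Subgroup G) E M bot_le hE.1
  rw [relIndex_bot_left, relIndex_bot_left] at h2
  have hpos : 0 < Nat.card E := Nat.card_pos
  exact Nat.eq_of_mul_eq_mul_left hpos (h2.trans h1.symm)

/-- a Sylow `p`-subgroup of `E` is a Sylow `p`-subgroup of `M` for `p ∉ σ(M)` -/
theorem not_dvd_relIndex_of_compl {M E P : Subgroup G}
    (hHall : IsPiHallOf (sigma M) (sigmaCore M) M) (hE : IsComplIn E (sigmaCore M) M)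
    {p : ℕ} [hpf : Fact p.Prime] (hpσ : p ∉ sigma M) (hPE : P ≤ E)
    (hPi : ¬ p ∣ P.relIndex E) : ¬ p ∣ P.relIndex M := by
  have h1 := relIndex_mul_relIndex P E M hPE hE.1
  rw [← h1, relIndex_compl hE]
  intro h
  rcases (Nat.Prime.dvd_mul hpf.out).mp h with h | h
  · exact hPi h
  · exact hpσ (hHall.2.1 p hpf.out h)


/-- **The BAD lemma.** -/
theorem bad_mem_fitting (hG : IsMinSimpleOddOrder G) (h17 : Stmt17b G) (h18 : Stmt18 G)
    (hAb : StmtAb G) (hB3 : StmtB3 G) {M E : Subgroup G} (hM : IsCoatom M)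
    (hE : IsComplIn E (sigmaCore M) M) {p : ℕ} [hpf : Fact p.Prime] (hp : p ∈ tau2 M)
    {d : G} (hdE : d ∈ E) (hdp : IsPGroup p (zpowers d))
    (hbad : sigmaCore M ⊓ centralizer ({d} : Set G) ≠ ⊥) : d ∈ fittingOf E := by
  have hHall : IsPiHallOf (sigma M) (sigmaCore M) M := Helper19.BG124.sigmaHallIn hG hM
  have hpσ : p ∉ sigma M := hp.2.1
  -- a Sylow `p`-subgroup `P` of `E` containing `d`
  obtain ⟨P0, hP0⟩ := Helper32.BG12.exists_sylow_map_ge (M := E) (B := zpowers d)
    (zpowers_le.mpr hdE) hdp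
  obtain ⟨P, hPdef⟩ : ∃ P : Subgroup G, P = (P0 : Subgroup E).map E.subtype := ⟨_, rfl⟩
  obtain ⟨hPE, hPp, hPiE⟩ := Helper24.sylow_map_facts E P0
  rw [← hPdef] at hPE hPp hPiE hP0
  have hdP : d ∈ P := hP0 (mem_zpowers d)
  have hPM : P ≤ M := hPE.trans hE.1
  have hPiM : ¬ p ∣ P.relIndex M := not_dvd_relIndex_of_compl hHall hE hpσ hPE hPiE
  obtain ⟨PM, hPMeq⟩ := Helper24.exists_sylow_map_eq M P hPM hPp hPiM
  -- the elementary abelian subgroup `A`
  obtain ⟨A, hAE, hAel, hAc⟩ := Helper96.BG127.exists_elemAb_sq_le_compl hE hp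
  obtain ⟨⟨hEA, hXA⟩, ⟨hCA, hMNA, hNA⟩, hbadX⟩ := h18 M hM E hE p hp A ⟨hAE, hAel, hAc⟩
  have hAp : IsPGroup p A := by
    apply IsPGroup.of_card (n := 2)
    exact hAc
  have hp2 : p ≠ 2 := by
    intro h2
    have hodd := odd_card_subgroup hG A
    rw [hAc, h2] at hodd
    exact absurd hodd (by decide)
  have hAcore : A ≤ pCoreOf p E := by
    intro x hx
    have h1 : (⟨x, hAE hx⟩ : ↥E) ∈ A.subgroupOf E := by
      rw [mem_subgroupOf]; exact hx
    exact ⟨_, Cfsg.Agent.Lib.Helper22.subgroupOf_le_pCore E A hAp hEA h1, rfl⟩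
  have hAP : A ≤ P := hAcore.trans (pCoreOf_le_of_sylowIn hPE hPp hPiE)
  have hAF : A ≤ fittingOf E := hAcore.trans (pCoreOf_le_fittingOf p E)
  obtain ⟨hPab, h17'⟩ := h17 M hM p hp A (hAE.trans hE.1) hAel hAc PM
  rw [hPMeq] at h17'
  obtain ⟨hΩ, hNP⟩ := h17' hAP
  have hPcomm : ∀ x ∈ P, ∀ y ∈ P, x * y = y * x := by
    intro x hx y hy
    rw [← hPMeq] at hx hy
    obtain ⟨x', hx', rfl⟩ := hx
    obtain ⟨y', hy', rfl⟩ := hy
    haveI := hPab
    have := setLike_mul_comm (s := (PM : Subgroup M)) hx' hy'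
    have h2 := congrArg (fun z : M => (z : G)) this
    simpa using h2
  -- a Sylow `p`-subgroup `S` of `G` containing `P`
  obtain ⟨S, hPS⟩ := hPp.exists_le_sylow
  by_cases hPS' : P = (S : Subgroup G)
  · -- abelian case
    have hSE : (S : Subgroup G) ≤ E := hPS' ▸ hPE
    have h1 := hAb M E hM hE p hp S hSE
    have h2 : (S : Subgroup G) ≤ fittingOf E := le_fittingOf_of_normal_pgroup hSE S.2 h1
    exact h2 (hPS' ▸ hdP)
  · by_cases hdp1 : d ^ p = 1
    · exact hAF ((hΩ d hdP).mp hdp1)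
    · exfalso
      -- `S` is not abelian
      have hSna : ¬ IsMulCommutative (S : Subgroup G) := by
        intro hS
        have hSC : (S : Subgroup G) ≤ centralizer (A : Set G) := by
          intro s hs
          rw [mem_centralizer_iff]
          intro a ha
          exact setLike_mul_comm (s := (S : Subgroup G)) (hPS (hAP ha)) hs
        have hSE : (S : Subgroup G) ≤ E := by
          rw [← hMNA]; exact hSC.trans hCA
        exact hPS' (sylowIn_max hPiE hPS hSE S.2).symm
      have hAmax := (Cfsg.Agent.S1408.result hG M hM p hpσ hp.2.2.1 hp.2.2.2).2 A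
        (hAE.trans hE.1) hAel hAc
      obtain ⟨X, hXd, hXc, hXn⟩ :=
        hB3 p hp2 S hSna P A hPS hPcomm hAP hAel hAc hAmax d hdP hdp1
      have hXE : X ≤ E := hXd.trans (zpowers_le.mpr hdE)
      have hXA' : X ≤ A := hXA X hXE hXc
      have hXbad : sigmaCore M ⊓ centralizer (X : Set G) ≠ ⊥ := by
        intro h
        apply hbad
        rw [eq_bot_iff, ← h]
        apply inf_le_inf_left
        intro c hc
        rw [mem_centralizer_iff] at hc ⊢
        intro x hx
        obtain ⟨k, rfl⟩ := mem_zpowers_iff.mp (hXd hx)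
        have h1 : Commute d c := hc d (Set.mem_singleton d)
        exact (h1.zpow_left k).eq
      obtain ⟨hCXM, hXuniq⟩ := hbadX X hXA' hXc hXbad
      have hX1 : X ≠ ⊥ := by
        intro h
        rw [h, Subgroup.card_bot] at hXc
        exact hpf.out.one_lt.ne hXc
      have hXp : IsPGroup p X := IsPGroup.of_card (n := 1) (by rw [hXc, pow_one])
      have hXtop : X ≠ ⊤ := by
        intro h
        rw [h] at hXp
        exact not_isPGroup_top hG p hXp
      have hNX : normalizer (X : Set G) ≤ M := by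
        obtain ⟨L, hL, hNL⟩ :=
          Helper64.BG9.exists_coatom_ge (BG10.normalizer_ne_top hG hX1 hXtop)
        have h1 := hXuniq L hL (le_trans (centralizer_le_normalizer _) hNL)
        rw [← h1]; exact hNL
      have hdvd : p ∣ P.relIndex S := by
        by_contra hnd
        exact hPS' (sylowIn_max hnd hPS le_rfl S.2).symm
      obtain ⟨u, huS, huN, huP, hPu⟩ := exists_normalizing_of_dvd_relIndex hPS hPp hdvd
      have huM : u ∈ M := hNX (hXn u huS huN)
      have h3 : P ⊔ zpowers u = P :=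
        sylowIn_max hPiM le_sup_left (sup_le hPM (zpowers_le.mpr huM)) hPu
      exact huP (h3 ▸ (le_sup_right : zpowers u ≤ P ⊔ zpowers u) (mem_zpowers u))

/-- `B.relIndex C = |A|` for complements `A`, `B` in `C` -/
theorem relIndex_right_compl {A B C : Subgroup G} (h : IsComplIn A B C) :
    B.relIndex C = Nat.card A := by
  have h1 : Nat.card A * Nat.card B = Nat.card C := card_isComplIn h
  have h2 := relIndex_mul_relIndex (⊥ : Subgroup G) B C bot_le h.2.1
  rw [relIndex_bot_left, relIndex_bot_left] at h2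
  have hpos : 0 < Nat.card B := Nat.card_pos
  apply Nat.eq_of_mul_eq_mul_left hpos
  rw [h2, ← h1, mul_comm]

theorem le_normalizer_sigmaCore (M : Subgroup G) : M ≤ normalizer ((sigmaCore M : Subgroup G) : Set G) :=
  Helper19.BG124.le_normalizer_map_of_normal M (piCore (sigma M) ↥M)

/-- `U K` is a complement of `M_σ` in `M` -/
theorem isComplIn_of_sigmaDecomposition {M K U : Subgroup G}
    (hHall : IsPiHallOf (sigma M) (sigmaCore M) M) (hKU : IsSigmaDecomposition M K U) :
    IsComplIn (U ⊔ K) (sigmaCore M) M := by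
  obtain ⟨hUM, hKσM, hdisj, hprod⟩ := hKU.compl
  have hKM : K ≤ M := hKU.hall.1
  have hσM : sigmaCore M ≤ M := le_sup_right.trans hKσM
  have hKnσ : K ≤ normalizer ((sigmaCore M : Subgroup G) : Set G) :=
    hKM.trans (le_normalizer_sigmaCore M)
  have hKσ : K ⊓ sigmaCore M = ⊥ := by
    apply (Subgroup.disjoint_of_coprime_natCard ?_).eq_bot
    apply Nat.coprime_of_dvd
    intro q hq hqK hqσ
    have h1 : q ∈ kappa M := hKU.hall.2.1 q hq hqK
    exact h1.2.2.1 (hHall.2.1 q hq hqσ)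
  refine ⟨sup_le hUM hKM, hσM, ?_, ?_⟩
  · rw [eq_bot_iff]
    rintro x ⟨hxE, hxσ⟩
    rw [sup_comm] at hxE
    obtain ⟨k, hk, u, hu, rfl⟩ :=
      Helper24.exists_mul_of_mem_sup_of_le_normalizer K U hKU.normal x hxE
    have hu' : u ∈ K ⊔ sigmaCore M := by
      have h1 : u = k⁻¹ * (k * u) := by group
      rw [h1]
      exact mul_mem (inv_mem (le_sup_left (a := K) hk)) (le_sup_right (a := K) hxσ)
    have hu1 : u = 1 := by
      have : u ∈ U ⊓ (K ⊔ sigmaCore M) := ⟨hu, hu'⟩
      rwa [hdisj, mem_bot] at this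
    subst hu1
    rw [mul_one] at hxσ ⊢
    have : k ∈ K ⊓ sigmaCore M := ⟨hk, hxσ⟩
    rwa [hKσ] at this
  · intro m hm
    obtain ⟨u, hu, c, hc, rfl⟩ := hprod m hm
    obtain ⟨k, hk, s, hs, rfl⟩ :=
      Helper24.exists_mul_of_mem_sup_of_le_normalizer K (sigmaCore M) hKnσ c hc
    exact ⟨u * k, mul_mem (le_sup_left (b := K) hu) (le_sup_right (a := U) hk), s, hs,
      by group⟩


/-- a prime dividing `|U|` for which `M` has rank one and a bad element is impossible -/
theorem not_rankOne_of_bad (hG : IsMinSimpleOddOrder G) {M K U : Subgroup G} (hM : IsCoatom M)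
    (hKU : IsSigmaDecomposition M K U) {r : ℕ} [hrf : Fact r.Prime] (hrσ : r ∉ sigma M)
    (hrU : r ∣ Nat.card U) {d : G} (hdM : d ∈ M) (hd1 : d ≠ 1) (hdr : IsPGroup r (zpowers d))
    {y : G} (hy : y ∈ sigmaCore M) (hy1 : y ≠ 1) (hdy : d * y = y * d) :
    ¬ PRankLE r 1 M := by
  intro hr1
  have hr2 : r ≠ 2 := by
    rintro rfl
    have hodd := odd_card_subgroup hG U
    exact (Nat.not_even_iff_odd.mpr hodd) (even_iff_two_dvd.mpr hrU)
  have hUM : U ≤ M := hKU.compl.1
  have hrM : r ∣ Nat.card M := hrU.trans (Subgroup.card_dvd_of_le hUM)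
  have hcyc : ∀ P : Sylow r M, IsCyclic ↥(P : Subgroup M) := by
    intro P
    apply Cfsg.Agent.Lib.Helper49.isCyclic_of_isPGroup_rankLEOne hr2 P.isPGroup'
    have := BG10.pRankLE_of_injective (P : Subgroup M).subtype (Subgroup.subtype_injective _) hr1
    intro A hA hAe
    have h := this A hA hAe
    rwa [pow_one] at h
  have hκ : r ∈ kappa M := by
    refine ⟨hrf.out, hrM, hrσ, fun P => ⟨hcyc P, ?_⟩⟩
    -- a Sylow subgroup containing `d`
    have hD : IsPGroup r ((zpowers d).subgroupOf M) := by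
      exact hdr.comap_of_injective M.subtype (Subgroup.subtype_injective M)
    obtain ⟨Q, hQ⟩ := hD.exists_le_sylow
    obtain ⟨m, hm⟩ := MulAction.exists_smul_eq M Q P
    have hdQ : (⟨d, hdM⟩ : M) ∈ (Q : Subgroup M) := by
      apply hQ
      rw [mem_subgroupOf]
      exact mem_zpowers d
    refine ⟨m * ⟨d, hdM⟩ * m⁻¹, ?_, ?_, (m : G) * y * (m : G)⁻¹, ?_, ?_, ?_⟩
    · rw [← hm, Sylow.coe_subgroup_smul]
      have := Subgroup.smul_mem_pointwise_smul _ (MulAut.conj m) _ hdQ
      rwa [MulAut.smul_def, MulAut.conj_apply] at this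
    · intro h
      apply hd1
      have h1 : (⟨d, hdM⟩ : M) = 1 := by
        have := congrArg (fun z => m⁻¹ * z * m) h
        simpa [mul_assoc] using this
      exact congrArg (fun z : M => (z : G)) h1
    · exact (mem_normalizer_iff.mp (le_normalizer_sigmaCore M m.2) y).mp hy
    · intro h
      apply hy1
      have := congrArg (fun z => (m : G)⁻¹ * z * (m : G)) h
      simpa [mul_assoc] using this
    · show ((m : G) * d * (m : G)⁻¹) * ((m : G) * y * (m : G)⁻¹) =
        ((m : G) * y * (m : G)⁻¹) * ((m : G) * d * (m : G)⁻¹)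
      calc ((m : G) * d * (m : G)⁻¹) * ((m : G) * y * (m : G)⁻¹)
          = (m : G) * (d * y) * (m : G)⁻¹ := by group
        _ = (m : G) * (y * d) * (m : G)⁻¹ := by rw [hdy]
        _ = _ := by group
  have h1 : ¬ r ∣ K.relIndex M := hKU.hall.2.2 r hrf.out hκ
  apply h1
  have h2 := relIndex_mul_relIndex K (K ⊔ sigmaCore M) M le_sup_left hKU.compl.2.1
  rw [← h2, relIndex_right_compl hKU.compl]
  exact Dvd.dvd.mul_left hrU _


/-- **S1359 from the BAD lemma.** -/
theorem closure_sigmaHat_comm (hG : IsMinSimpleOddOrder G) (h17 : Stmt17b G) (h18 : Stmt18 G)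
    (hAb : StmtAb G) (hB3 : StmtB3 G) {M K U : Subgroup G} (hM : IsCoatom M)
    (hKU : IsSigmaDecomposition M K U) :
    IsMulCommutative (closure ((U : Set G) ∩ sigmaHat M)) := by
  have hHall : IsPiHallOf (sigma M) (sigmaCore M) M := Helper19.BG124.sigmaHallIn hG hM
  have hUq := Helper19.BG124.uniqStmt hG
  have hE := isComplIn_of_sigmaDecomposition hHall hKU
  obtain ⟨E, hEdef⟩ : ∃ E : Subgroup G, E = U ⊔ K := ⟨_, rfl⟩
  rw [← hEdef] at hE
  have hUE : U ≤ E := hEdef ▸ le_sup_left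
  have h125 : Helper96.BG127.Stmt125b M := fun p _ hp A hAM hAel hAc P =>
    ⟨(h17 M hM p hp A hAM hAel hAc P).1, fun hA => ((h17 M hM p hp A hAM hAel hAc P).2 hA).1⟩
  have hFab : IsMulCommutative (fittingOf E) := by
    apply Helper96.BG127.part_a hG hUq hM h125 (fittingOf E) ((fittingOf_le E).trans hE.1)
      (isNilpotent_fittingOf E)
    intro q hq hqF
    exact Helper96.BG127.not_mem_sigma_of_dvd_card_compl hHall hE hq
      (hqF.trans (Subgroup.card_dvd_of_le (fittingOf_le E)))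
  have hle : closure ((U : Set G) ∩ sigmaHat M) ≤ fittingOf E := by
    rw [closure_le]
    rintro u ⟨huU, huM, y, hy, hy1, huy⟩
    apply mem_of_primary_powers_mem (fittingOf E) u
    rintro d hd ⟨r, k, hr, hdk⟩
    by_cases hd1 : d = 1
    · rw [hd1]; exact one_mem _
    haveI : Fact r.Prime := ⟨hr⟩
    have hdU : d ∈ U := zpowers_le.mpr huU hd
    have hdE : d ∈ E := hUE hdU
    have hdy : d * y = y * d := by
      obtain ⟨n, rfl⟩ := mem_zpowers_iff.mp hd
      have h1 : Commute u y := huy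
      exact (h1.zpow_left n).eq
    have hdr : IsPGroup r (zpowers d) := by
      rintro ⟨g, hg⟩
      obtain ⟨n, rfl⟩ := mem_zpowers_iff.mp hg
      refine ⟨k, Subtype.ext ?_⟩
      show (d ^ n) ^ (r ^ k) = 1
      rw [← zpow_natCast, ← zpow_mul, mul_comm, zpow_mul, zpow_natCast, hdk, one_zpow]
    have hrd : r ∣ orderOf d := by
      obtain ⟨j, hj, hjd⟩ := (Nat.dvd_prime_pow hr).mp (orderOf_dvd_of_pow_eq_one hdk)
      have hj0 : j ≠ 0 := by
        rintro rfl
        rw [pow_zero, orderOf_eq_one_iff] at hjd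
        exact hd1 hjd
      rw [hjd]
      exact dvd_pow_self r hj0
    have hrU : r ∣ Nat.card U := hrd.trans (Subgroup.orderOf_dvd_natCard U hdU)
    have hrσ : r ∉ sigma M := Helper96.BG127.not_mem_sigma_of_dvd_card_compl hHall hE hr
      (hrU.trans (Subgroup.card_dvd_of_le hUE))
    have hτ : r ∈ tau2 M := by
      refine ⟨hr, hrσ, ?_, not_rankOne_of_bad hG hM hKU hrσ hrU (hE.1 hdE) hd1 hdr hy hy1 hdy⟩
      by_contra h
      exact hrσ (alpha_subset_sigma hG hUq hM ⟨hr, h⟩)
    apply bad_mem_fitting hG h17 h18 hAb hB3 hM hE hτ hdE hdr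
    intro h
    have h2 : y ∈ sigmaCore M ⊓ centralizer ({d} : Set G) := by
      have h3 : y ∈ centralizer ({d} : Set G) := by
        rw [mem_centralizer_iff]
        intro z hz
        rw [Set.mem_singleton_iff.mp hz]
        exact hdy
      exact ⟨hy, h3⟩
    rw [h, mem_bot] at h2
    exact hy1 h2
  exact ⟨⟨fun a b => Subtype.ext
    (setLike_mul_comm (s := fittingOf E) (hle a.2) (hle b.2))⟩⟩

end Cfsg.Agent.Lib.Helper23.Bad
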