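import Cfsg.Agent.Lib.Helper23.NStarA1
import Cfsg.Agent.Lib.Helper96.BG141N
import Cfsg.Agent.Lib.Helper19.BG142L1

set_option autoImplicit false
set_option linter.style.haveILetI false
set_option linter.unusedSectionVars false

/-!
# Case N star structure: leaves A7 (`L = L_σ Z`) and A8 (`L ∩ L' ≤ Z`), from helper96's
`partner_hall` / `partner_inf_le`
-/

namespace Cfsg.Agent.Lib.Helper23.NStar

open Subgroup Cfsg Cfsg.Agent.Lib.Helper33
open Cfsg.Agent.Lib.Helper19.BG1311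

universe u

variable {G : Type u} [Group G] [Finite G] {M E X L X' L' : Subgroup G}

/-- `E` is not commutative -/
theorem Ctx.not_comm (c : Ctx M E) : ¬ IsMulCommutative E := by
  intro h
  apply c.hnab
  rw [eq_bot_iff, Subgroup.commutator_le]
  intro a ha b hb
  rw [Subgroup.mem_bot, commutatorElement_eq_one_iff_mul_comm]
  have := h.is_comm.comm (⟨a, ha⟩ : E) ⟨b, hb⟩
  exact congrArg Subtype.val this

/-- some prime of `τ₁(M)` divides `|E|` -/
theorem Ctx.exists_tau1_dvd (hG : IsMinSimpleOddOrder G) (c : Ctx M E) :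
    ∃ p ∈ tau1 M, p ∣ Nat.card E := by
  by_contra hcon
  push Not at hcon
  have hall : IsPiHallOf (tau3 M) E E := by
    refine ⟨le_rfl, ?_, ?_⟩
    · intro p hp hpE
      rcases Cfsg.Agent.Lib.Helper32.BG142.prime_class' hG c.hM c.hE hp hpE with h | h
      · rcases h with h1 | h3
        · exact absurd hpE (hcon p h1)
        · exact h3
      · exact absurd h (c.hτ2 p)
    · intro p hp _ hd
      rw [Subgroup.relIndex_self] at hd
      exact hp.one_lt.ne' (Nat.dvd_one.mp hd)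
  obtain ⟨hcyc, -, -⟩ := (Cfsg.Agent.S1415.result hG M c.hM E c.hE).2.2 E hall
  haveI := hcyc
  exact c.not_comm IsCyclic.isMulCommutative

/-- LEAF A7. `L = L_σ Z`. -/
theorem par_decomp (hG : IsMinSimpleOddOrder G) (c : Ctx M E) (d : Par E X L) :
    L ≤ sigmaCore L ⊔ (E ⊔ (sigmaCore M ⊓ centralizer (E : Set G))) := by
  obtain ⟨hXV, -, -, hnc, hZL, -, hML⟩ := par_basic hG c d
  have hX1 : X ≠ ⊥ := by
    intro h
    have := d.hX
    rw [h, Subgroup.card_bot] at this
    exact Nat.not_prime_one this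
  obtain ⟨⟨K, hK, hYK⟩, hall⟩ := Cfsg.Agent.Lib.Helper96.BG141N.partner_hall hG c.hM c.hE c.hKs
    (c.exists_tau1_dvd hG) c.not_comm d.hL hnc hZL hML.le d.hXE hXV hX1
  obtain ⟨hKZ, hLK, -, -⟩ := hall K hK hYK
  exact hLK.trans (sup_le (hKZ.trans le_sup_right) le_sup_left)

/-- LEAF A8. `L ∩ L' ≤ Z` for non-conjugate partners. -/
theorem par_inf_of_nonconj (hG : IsMinSimpleOddOrder G) (c : Ctx M E) (d : Par E X L)
    (d' : Par E X' L') (hnc' : ∀ g : G, L' ≠ L.map (MulAut.conj g).toMonoidHom) :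
    L ⊓ L' ≤ E ⊔ (sigmaCore M ⊓ centralizer (E : Set G)) := by
  obtain ⟨hXV, -, -, hnc, hZL, -, hML⟩ := par_basic hG c d
  obtain ⟨hXV', -, -, -, hZL', -, -⟩ := par_basic hG c d'
  have hX1 : X ≠ ⊥ := by
    intro h
    have := d.hX
    rw [h, Subgroup.card_bot] at this
    exact Nat.not_prime_one this
  exact Cfsg.Agent.Lib.Helper96.BG141N.partner_inf_le hG c.hM c.hE c.hKs
    (c.exists_tau1_dvd hG) c.not_comm c.hnorm d.hL hnc hZL hML.le d.hXE hXV hX1 d'.hL hnc' hZL'
    d'.hXE d'.hX hXV' d'.hNL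

end Cfsg.Agent.Lib.Helper23.NStar
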