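import Cfsg.Agent.Lib.Helper23.Uniq91E
import Cfsg.Agent.Lib.Helper32.FitDer
import Cfsg.Agent.Lib.Helper32.Rank2Fit
import Cfsg.Agent.Lib.Helper62.Subnormal
import Cfsg.Agent.Lib.Helper78.CNBasics

set_option autoImplicit false
set_option linter.style.haveILetI false
set_option linter.unusedSectionVars false

/-!
# Tools for the subgroup `M_α` (Bender–Glauberman, Theorem 10.2)

* lifting `q`-subgroups along a surjection with kernel of order prime to `q`;
* ranks of quotients by such kernels;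
* the derived subgroup of a solvable group of odd order whose `O_r` all have rank at most two.
-/

namespace Cfsg.Agent.Lib.Helper23

open Subgroup Cfsg Cfsg.Agent.Lib.Helper33 Cfsg.Agent.Lib.Helper24 Cfsg.Agent.Lib.Helper32

universe u v

section lift

variable {X : Type u} [Group X] [Finite X] {Y : Type v} [Group Y]

/-- Lifting a `q`-subgroup along a surjective homomorphism whose kernel has order prime to `q`. -/
theorem exists_lift_of_coprime_ker {q : ℕ} [Fact q.Prime] (f : X →* Y)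
    (hf : Function.Surjective f) (hker : (Nat.card f.ker).Coprime q) (E : Subgroup Y)
    (hE : IsPGroup q E) :
    ∃ Q : Subgroup X, IsPGroup q Q ∧ Q.map f = E ∧ ∀ x ∈ Q, f x = 1 → x = 1 := by
  have hqp : q.Prime := Fact.out
  haveI : Finite Y := Finite.of_surjective f hf
  obtain ⟨E₁, hE₁⟩ : ∃ E₁, E₁ = E.comap f := ⟨_, rfl⟩
  obtain ⟨S⟩ : Nonempty (Sylow q ↥E₁) := inferInstance
  obtain ⟨hQE₁, hQ, hQi⟩ := sylow_map_facts E₁ S
  obtain ⟨Q, hQdef⟩ : ∃ Q, Q = (S : Subgroup ↥E₁).map E₁.subtype := ⟨_, rfl⟩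
  rw [← hQdef] at hQE₁ hQ hQi
  have hinj : ∀ x ∈ Q, f x = 1 → x = 1 := by
    intro x hx hfx
    obtain ⟨k, hk⟩ := hQ ⟨x, hx⟩
    have hk' : x ^ (q ^ k) = 1 := by simpa using congrArg Subtype.val hk
    have h1 : orderOf x ∣ q ^ k := orderOf_dvd_of_pow_eq_one hk'
    have h2 : orderOf x ∣ Nat.card f.ker := by
      have := orderOf_dvd_natCard (⟨x, MonoidHom.mem_ker.mpr hfx⟩ : f.ker)
      rwa [← Subgroup.orderOf_coe] at this
    have h3 : orderOf x ∣ Nat.gcd (Nat.card f.ker) (q ^ k) := Nat.dvd_gcd h2 h1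
    rw [(Nat.Coprime.pow_right k hker).gcd_eq_one, Nat.dvd_one] at h3
    exact orderOf_eq_one_iff.mp h3
  refine ⟨Q, hQ, ?_, hinj⟩
  apply le_antisymm
  · rintro _ ⟨x, hx, rfl⟩
    have := hQE₁ hx
    rw [hE₁] at this
    exact this
  · -- `ker f ⊔ Q = E₁`
    have hkerE₁ : f.ker ≤ E₁ := by
      rw [hE₁]
      intro x hx
      rw [Subgroup.mem_comap, MonoidHom.mem_ker.mp hx]
      exact E.one_mem
    have h1 : f.ker.relIndex E₁ = Nat.card E := by
      rw [← MonoidHom.comap_bot, Subgroup.relIndex_comap, Subgroup.relIndex_bot_left, hE₁,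
        Subgroup.map_comap_eq_self_of_surjective hf]
    have h2 : (f.ker ⊔ Q).relIndex E₁ ∣ f.ker.relIndex E₁ :=
      Subgroup.relIndex_dvd_of_le_left E₁ le_sup_left
    have h3 : (f.ker ⊔ Q).relIndex E₁ ∣ Q.relIndex E₁ :=
      Subgroup.relIndex_dvd_of_le_left E₁ le_sup_right
    have h4 : (f.ker ⊔ Q).relIndex E₁ = 1 := by
      obtain ⟨k, hk⟩ := IsPGroup.iff_card.mp hE
      rw [h1, hk] at h2
      obtain ⟨j, -, hj⟩ := (Nat.dvd_prime_pow hqp).mp h2
      rcases Nat.eq_zero_or_pos j with rfl | hjpos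
      · rw [hj, pow_zero]
      · exfalso
        apply hQi
        refine dvd_trans ?_ h3
        rw [hj]
        exact dvd_pow_self q hjpos.ne'
    have h5 : E₁ ≤ f.ker ⊔ Q := Subgroup.relIndex_eq_one.mp h4
    intro e he
    obtain ⟨x, rfl⟩ := hf e
    have hx : x ∈ E₁ := by rw [hE₁]; exact he
    have hx' := h5 hx
    rw [← SetLike.mem_coe, Subgroup.normal_mul, Set.mem_mul] at hx'
    obtain ⟨k, hk, y, hy, rfl⟩ := hx'
    refine ⟨y, hy, ?_⟩
    rw [map_mul, MonoidHom.mem_ker.mp hk, one_mul]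

/-- ranks do not grow in quotients by kernels of order prime to `q` -/
theorem pRankLE_of_surjective_coprime_ker {q k : ℕ} [Fact q.Prime] (f : X →* Y)
    (hf : Function.Surjective f) (hker : (Nat.card f.ker).Coprime q) (h : PRankLE q k X) :
    PRankLE q k Y := by
  intro E hEc hEe
  have hE : IsPGroup q E := fun e => ⟨1, by
    rw [pow_one]
    exact Subtype.ext (by simpa using hEe e e.2)⟩
  obtain ⟨Q, hQ, hQE, hinj⟩ := exists_lift_of_coprime_ker f hf hker E hE
  have hQc : IsMulCommutative ↥Q := by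
    refine ⟨⟨fun a b => ?_⟩⟩
    apply Subtype.ext
    have h1 : (a : X) * b * ((b : X) * a)⁻¹ ∈ Q :=
      Q.mul_mem (Q.mul_mem a.2 b.2) (Q.inv_mem (Q.mul_mem b.2 a.2))
    have hfa : f a ∈ E := hQE ▸ Subgroup.mem_map_of_mem f a.2
    have hfb : f b ∈ E := hQE ▸ Subgroup.mem_map_of_mem f b.2
    have hcomm : f a * f b = f b * f a :=
      congrArg Subtype.val (hEc.is_comm.comm ⟨f a, hfa⟩ ⟨f b, hfb⟩)
    have h2 : f ((a : X) * b * ((b : X) * a)⁻¹) = 1 := by
      rw [map_mul, map_inv, map_mul, map_mul, hcomm, mul_inv_cancel]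
    have h3 := hinj _ h1 h2
    exact mul_inv_eq_one.mp h3
  have hQe : ∀ a ∈ Q, a ^ q = 1 := by
    intro a ha
    apply hinj _ (Q.pow_mem ha q)
    rw [map_pow]
    exact hEe _ (hQE ▸ Subgroup.mem_map_of_mem f ha)
  have h1 := h Q hQc hQe
  have h2 : Nat.card E ≤ Nat.card Q := by
    rw [← hQE]
    exact Nat.le_of_dvd Nat.card_pos (Subgroup.card_map_dvd Q f)
  exact h2.trans h1

end lift

section cores

variable {Y : Type u} [Group Y] [Finite Y]

/-- `O_q(Y) = 1` if `O_π(Y) = 1` and `q ∈ π` -/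
theorem pCore_eq_bot_of_piCore_eq_bot {π : Set ℕ} {q : ℕ} [Fact q.Prime] (hq : q ∈ π)
    (h : piCore π Y = ⊥) : pCore q Y = ⊥ := by
  have hqp : q.Prime := Fact.out
  rw [eq_bot_iff, ← h]
  apply Cfsg.Agent.Lib.Helper62.le_piCore (Cfsg.Agent.Lib.Helper22.pCore_normal' q Y)
  intro r hr hrd
  obtain ⟨k, hk⟩ := IsPGroup.iff_card.mp (Cfsg.Agent.Lib.Helper22.pCore_isPGroup' q Y)
  rw [hk] at hrd
  have : r = q := (Nat.prime_dvd_prime_iff_eq hr hqp).mp (hr.dvd_of_dvd_pow hrd)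
  rw [this]; exact hq

/-- `F(Y) ≤ O_p(Y) O_{p'}(Y)` -/
theorem fittingSubgroup_le_pCore_sup_pPrimeCore (p : ℕ) [Fact p.Prime] :
    fittingSubgroup Y ≤ pCore p Y ⊔ pPrimeCore p Y := by
  rw [Cfsg.Agent.Lib.Helper22.fittingSubgroup_eq_iSup_pCore]
  apply iSup_le
  intro r
  by_cases hrp : (r : ℕ) = p
  · rw [hrp]; exact le_sup_left
  · haveI : Fact (r : ℕ).Prime := ⟨r.2⟩
    exact (Cfsg.Agent.Lib.Helper22.pCore_le_pPrimeCore hrp).trans le_sup_right

/-- In a solvable group of odd order all of whose `O_r` have rank at most two, the derived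
subgroup lies in the Fitting subgroup. -/
theorem commutator_le_fittingSubgroup_of_ranks [Group.IsSolvable Y] (hodd : Odd (Nat.card Y))
    (hR : ∀ r : ℕ, r.Prime → PRankLE r 2 ↥(pCore r Y)) :
    commutator Y ≤ fittingSubgroup Y := by
  apply Cfsg.Agent.Lib.Helper32.FitDer.le_fitting_of_forall_pow_mem_centralizer
  intro q hq d hd
  exact Cfsg.Agent.Lib.Helper32.FitDer.exists_pow_mem_centralizer_pCore hodd hR q hq d hd

/-- a `p`-element of the derived subgroup is trivial, if `O_p(Y) = 1` and all `O_r(Y)` have rank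
at most two -/
theorem eq_one_of_mem_commutator_of_pCore_eq_bot [Group.IsSolvable Y] (hodd : Odd (Nat.card Y))
    (hR : ∀ r : ℕ, r.Prime → PRankLE r 2 ↥(pCore r Y)) {p : ℕ} [Fact p.Prime]
    (hp : pCore p Y = ⊥) {x : Y} (hx : x ∈ commutator Y) {k : ℕ} (hk : x ^ (p ^ k) = 1) :
    x = 1 := by
  have h1 : x ∈ pCore p Y ⊔ pPrimeCore p Y :=
    fittingSubgroup_le_pCore_sup_pPrimeCore p (commutator_le_fittingSubgroup_of_ranks hodd hR hx)
  have h2 := Cfsg.Agent.Lib.Helper22.mem_pCore_of_mem_sup h1 hk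
  rw [hp, mem_bot] at h2
  exact h2

end cores

end Cfsg.Agent.Lib.Helper23
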