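import Cfsg.Agent.Lib.Helper23.BG1310A
import Cfsg.Agent.Lib.Helper22.BG1214d
import Cfsg.Agent.Lib.Helper60.BG139S2
import Cfsg.Agent.Lib.Helper60.BG131a
import Cfsg.Agent.Lib.Helper47.BG1217
import Cfsg.Agent.S1426
import Cfsg.Agent.Lib.Helper76.BGSigU4
import Cfsg.Agent.Lib.Helper23.BadTau2A0
import Cfsg.Agent.Lib.Helper96.BG127

set_option autoImplicit false
set_option linter.style.haveILetI false
set_option linter.unusedSectionVars false

/-!
# B&G 13.10, piece (B): the case `[M_σ ∩ H, P] = 1`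
-/

namespace Cfsg.Agent.Lib.Helper23.BG1310

open Subgroup Cfsg Cfsg.Agent.Lib.Helper33
open scoped commutatorElement

universe u

variable {G : Type u} [Group G] [Finite G]

/-- Frattini: `M = M_α N_M(Q)` for a Sylow `q`-subgroup `Q` of `M` contained in `M'`
(generalisation of `Helper22.BG1214d.f2`). -/
theorem frattini_alpha (hG : IsMinSimpleOddOrder G) {M : Subgroup G} (hM : IsCoatom M) {q : ℕ}
    [hq : Fact q.Prime] {Q : Subgroup G} (hQle : Q ≤ M) (hQq : IsPGroup q Q)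
    (hQc : Q ≤ ⁅M, M⁆) (hQi : ¬ q ∣ Q.relIndex M) :
    ∀ m ∈ M, ∃ a ∈ alphaCore M, ∃ n ∈ normalizer (Q : Set G), m = a * n := by
  obtain ⟨-, -, -, -, hnil⟩ := Cfsg.Agent.S1405.result hG M hM
  set V₀ : Subgroup ↥M := piCore (alpha M) ↥M with hV₀
  set C : Subgroup ↥M := commutator ↥M with hC
  set S₀ : Subgroup ↥M := Q.subgroupOf M with hS₀
  haveI : C.Normal := by rw [hC, commutator_def]; infer_instance
  haveI : (V₀ ⊔ C).Normal := inferInstance
  have hmapeq : (V₀ ⊔ C).map (QuotientGroup.mk' V₀) = C.map (QuotientGroup.mk' V₀) := by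
    rw [Subgroup.map_sup, QuotientGroup.map_mk'_self, bot_sup_eq]
  have hnil' : Group.IsNilpotent ↥((V₀ ⊔ C).map (QuotientGroup.mk' V₀)) := by
    rw [hmapeq]; exact hnil
  have hS₀C : S₀ ≤ C := by
    intro x hx
    have h1 : (x : G) ∈ ⁅M, M⁆ := hQc (mem_subgroupOf.mp hx)
    rw [← Subgroup.map_subtype_commutator] at h1
    obtain ⟨w, hw, hwx⟩ := h1
    have : w = x := Subtype.ext hwx
    rw [← this]; exact hw
  have hS₀q : IsPGroup q S₀ := hQq.comap_subtype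
  have hidx0 : ¬ q ∣ S₀.index := hQi
  have hidx : ¬ q ∣ S₀.relIndex (V₀ ⊔ C) := fun h =>
    hidx0 (h.trans (Subgroup.relIndex_dvd_index_of_le (hS₀C.trans le_sup_right)))
  haveI hnorm : (V₀ ⊔ S₀).Normal :=
    Cfsg.Agent.Lib.Helper48.Ward.sup_sylow_normal V₀ (V₀ ⊔ C) S₀ hq.out le_sup_left hnil'
      (hS₀C.trans le_sup_right) hS₀q hidx
  have hidx2 : ¬ q ∣ S₀.relIndex (V₀ ⊔ S₀) := fun h =>
    hidx0 (h.trans (Subgroup.relIndex_dvd_index_of_le le_sup_right))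
  intro m hm
  obtain ⟨w, hw, n, hn, hl⟩ := frattini_rel (L := (⊤ : Subgroup ↥M)) (M := V₀ ⊔ S₀) (I := S₀)
    le_top (fun x _ => by
      rw [normalizer_eq_top_iff.mpr hnorm]; exact mem_top x) le_sup_right hS₀q hidx2
    (l := (⟨m, hm⟩ : ↥M)) (mem_top _)
  obtain ⟨v, hv, y, hy, hvy⟩ := Subgroup.mem_sup_of_normal_left.mp hw
  refine ⟨(v : G), ⟨v, hv, rfl⟩, ((y * n : ↥M) : G), ?_, ?_⟩
  · have hyn : y * n ∈ normalizer (S₀ : Set ↥M) :=
      Subgroup.mul_mem _ (le_normalizer hy) hn.2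
    apply Cfsg.Agent.Lib.Helper21.mem_normalizer_of_conj_le
    intro x hx
    have hxM : x ∈ M := hQle hx
    have h1 : (⟨x, hxM⟩ : ↥M) ∈ S₀ := mem_subgroupOf.mpr hx
    have h2 := (mem_normalizer_iff.mp hyn ⟨x, hxM⟩).mp h1
    exact mem_subgroupOf.mp h2
  · have := congrArg (Subtype.val) hl
    rw [← hvy] at this
    simp only [Subgroup.coe_mul] at this ⊢
    rw [this, mul_assoc]

/-- `E` normalizes `M_σ ∩ H` when `E ≤ M ∩ H` -/
theorem conj_mem_inf {M E H : Subgroup G} (hEM : E ≤ M) (hEH : E ≤ H) {m u : G} (hm : m ∈ E)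
    (hu : u ∈ sigmaCore M ⊓ H) : m * u * m⁻¹ ∈ sigmaCore M ⊓ H := by
  refine ⟨?_, H.mul_mem (H.mul_mem (hEH hm) hu.2) (H.inv_mem (hEH hm))⟩
  exact (mem_normalizer_iff.mp
    (Cfsg.Agent.Lib.Helper24.BG.le_normalizer_sigmaCore M (hEM hm)) u).mp hu.1

/-- the cyclic subgroup generated by an element of prime-power order is a `p`-group -/
theorem isPGroup_zpowers_of_pow {r k : ℕ} [hr : Fact r.Prime] {y : G} (hy : y ^ (r ^ k) = 1) :
    IsPGroup r (zpowers y) := by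
  have h1 : orderOf y ∣ r ^ k := orderOf_dvd_of_pow_eq_one hy
  obtain ⟨j, -, hj⟩ := (Nat.dvd_prime_pow hr.out).mp h1
  exact IsPGroup.of_card (n := j) (by rw [Nat.card_zpowers, hj])

/-- **(R3), first half**: if `M_σ ∩ H` is centralized by a subgroup `P ≤ E` of prime order
`p ∈ τ₁(M)`, then it is centralized by all of `E` (`E ≤ H`, `H` not conjugate to `M`). -/
theorem le_centralizer_inf (hG : IsMinSimpleOddOrder G)
    (h28 : Cfsg.Agent.Lib.Helper60.BG139.Stmt1428 G) {M E H : Subgroup G} (hM : IsCoatom M)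
    (hE : IsComplIn E (sigmaCore M) M) (hH : IsCoatom H)
    (hnc : ∀ g : G, H ≠ M.map (MulAut.conj g).toMonoidHom) (hEH : E ≤ H) {p : ℕ}
    (hp : p ∈ tau1 M) {P : Subgroup G} (hPE : P ≤ E) (hP : Nat.card P = p)
    (hYP : sigmaCore M ⊓ H ≤ centralizer (P : Set G)) :
    E ≤ centralizer ((sigmaCore M ⊓ H : Subgroup G) : Set G) := by
  classical
  have hEM : E ≤ M := hE.1
  have hEtop : E ≠ ⊤ := fun h => hM.1 (top_le_iff.mp (h ▸ hEM))
  have hHall := Cfsg.Agent.Lib.Helper19.BG124.sigmaHallIn hG hM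
  have h31 := Cfsg.Agent.Lib.Helper60.BG131a.stmt131a hG
  haveI hpf : Fact p.Prime := ⟨hp.1⟩
  -- the Hall τ₁-subgroup and its centralizer
  obtain ⟨T, hT⟩ := Cfsg.Agent.Lib.Helper47.BG139.exists_isPiHallOf hG (tau1 M) hEtop
  have hsemi := Cfsg.Agent.Lib.Helper60.BG139.semiprime_tau1 hG h28 hM hE hT
  have hTE : T ≤ E := hT.1
  -- `Y ≤ C(T)`
  have hYT : sigmaCore M ⊓ H ≤ centralizer (T : Set G) := by
    obtain ⟨m, hmE, hm⟩ := Cfsg.Agent.Lib.Helper76.BGSigU.exists_conj_le_of_not_dvd hTE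
      (hT.2.2 p hp.1 hp) (IsPGroup.of_card (n := 1) (by rw [hP, pow_one])) hPE
    have hP1 : P ≠ ⊥ := by
      intro h
      rw [h, Subgroup.card_bot] at hP
      exact hp.1.one_lt.ne hP
    obtain ⟨x, hx1⟩ := (Subgroup.ne_bot_iff_exists_ne_one).mp hP1
    have hx'T : m⁻¹ * (x : G) * m ∈ T := hm x x.2
    have hx'1 : m⁻¹ * (x : G) * m ≠ 1 := by
      intro h
      apply hx1
      have : (x : G) = 1 := by
        have := congrArg (fun z => m * z * m⁻¹) h
        simpa [mul_assoc] using this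
      exact Subtype.ext this
    have hs := hsemi _ hx'T hx'1
    intro u hu
    have : u ∈ sigmaCore M ⊓ centralizer ({m⁻¹ * (x : G) * m} : Set G) := by
      refine ⟨hu.1, ?_⟩
      show u ∈ centralizer ({m⁻¹ * (x : G) * m} : Set G)
      rw [mem_centralizer_iff]
      intro z hz
      rw [Set.mem_singleton_iff] at hz
      subst hz
      have hu' := conj_mem_inf hEM hEH hmE hu
      have h1 := (mem_centralizer_iff.mp (hYP hu')) (x : G) x.2
      -- h1 : x * (m u m⁻¹) = (m u m⁻¹) * x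
      have : m⁻¹ * (x : G) * m * u = m⁻¹ * ((x : G) * (m * u * m⁻¹)) * m := by group
      rw [this, h1]; group
    rw [hs] at this
    exact this.2
  -- now every primary element of `E` centralizes `Y`
  intro e he
  apply Cfsg.Agent.Lib.Helper23.mem_of_primary_powers_mem _ e
  rintro y hy ⟨r, k, hr, hyk⟩
  haveI hrf : Fact r.Prime := ⟨hr⟩
  have hyE : y ∈ E := (zpowers_le.mpr he) hy
  by_cases hy1 : y = 1
  · rw [hy1]; exact Subgroup.one_mem _
  have hRp : IsPGroup r (zpowers y) := isPGroup_zpowers_of_pow hyk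
  have hRE : zpowers y ≤ E := zpowers_le.mpr hyE
  have hR1 : zpowers y ≠ ⊥ := by
    intro h
    exact hy1 (Subgroup.zpowers_eq_bot.mp h)
  have hrE : r ∣ Nat.card E := by
    have h1 : r ∣ Nat.card (zpowers y) := by
      rcases hRp.card_eq_or_dvd with h | h
      · exact absurd (Subgroup.card_eq_one.mp h) hR1
      · exact h
    exact h1.trans (Subgroup.card_dvd_of_le hRE)
  have hrσ : r ∉ sigma M :=
    Cfsg.Agent.Lib.Helper96.BG127.not_mem_sigma_of_dvd_card_compl hHall hE hr hrE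
  -- a helper: if `r ∉ τ₁(H)` then `y` centralizes `Y`
  have key : r ∉ tau1 H → y ∈ centralizer ((sigmaCore M ⊓ H : Subgroup G) : Set G) := by
    intro hrH
    have h1 := h31 M H hM hH hnc r hr hrσ hrH (zpowers y) hRp
      (le_inf (hRE.trans hEM) (hRE.trans hEH))
    rw [mem_centralizer_iff]
    intro u hu
    exact ((mem_centralizer_iff.mp (h1 hu)) y (mem_zpowers y)).symm
  rcases Cfsg.Agent.Lib.Helper23.Bad.mem_tau_of_dvd_card_compl hG hM hE hr hrE with h2 | h13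
  · -- `r ∈ τ₂(M)`: `E ≤ H` contains an `E_{r²}`
    apply key
    intro hrH
    obtain ⟨A, hAE, hAe, hAc⟩ := Cfsg.Agent.Lib.Helper96.BG127.exists_elemAb_sq_le_compl hE h2
    refine Cfsg.Agent.Lib.Helper47.BG12.not_pRankLE_of_le (k := 1) (hAE.trans hEH) hAe ?_
      hrH.2.2.2.2
    rw [hAc, pow_one]
    calc r = r ^ 1 := (pow_one r).symm
      _ < r ^ 2 := Nat.pow_lt_pow_right hr.one_lt (by norm_num)
  rcases h13 with h1 | h3
  · -- `r ∈ τ₁(M)`: conjugate into `T`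
    obtain ⟨m, hmE, hm⟩ := Cfsg.Agent.Lib.Helper76.BGSigU.exists_conj_le_of_not_dvd hTE
      (hT.2.2 r hr h1) hRp hRE
    have hyT : m⁻¹ * y * m ∈ T := hm y (mem_zpowers y)
    rw [mem_centralizer_iff]
    intro u hu
    have hu' : m⁻¹ * u * m ∈ sigmaCore M ⊓ H := by
      have := conj_mem_inf hEM hEH (E.inv_mem hmE) hu
      simpa using this
    have h4 := (mem_centralizer_iff.mp (hYT hu')) _ hyT
    -- h4 : (m⁻¹ y m) * (m⁻¹ u m) = (m⁻¹ u m) * (m⁻¹ y m)
    have h5 : u * y = m * ((m⁻¹ * u * m) * (m⁻¹ * y * m)) * m⁻¹ := by group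
    have h6 : y * u = m * ((m⁻¹ * y * m) * (m⁻¹ * u * m)) * m⁻¹ := by group
    rw [h5, h6, h4]
  · -- `r ∈ τ₃(M)`: `⟨y⟩ ≤ E' ≤ H'`
    apply key
    intro hrH
    have hder := (tau3_subgroup hG hM hE h3 hRE hRp).2.2
    have h7 : zpowers y ≤ ⁅H, H⁆ := hder.trans (Subgroup.commutator_mono hEH hEH)
    apply hrH.2.2.2.1
    have h1 : r ∣ Nat.card (zpowers y) := by
      rcases hRp.card_eq_or_dvd with h | h
      · exact absurd (Subgroup.card_eq_one.mp h) hR1
      · exact h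
    exact h1.trans (Subgroup.card_dvd_of_le h7)

/-- a subgroup of prime order meeting a centralizer nontrivially lies in it -/
theorem inf_centralizer_eq_bot_of_card_prime {q : ℕ} [hq : Fact q.Prime] {Z P : Subgroup G}
    (hZ : Nat.card Z = q) (hmove : ¬ Z ≤ centralizer (P : Set G)) :
    Z ⊓ centralizer (P : Set G) = ⊥ := by
  by_contra hne
  apply hmove
  have h1 : Nat.card ↥(Z ⊓ centralizer (P : Set G)) ∣ q := by
    rw [← hZ]; exact Subgroup.card_dvd_of_le inf_le_left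
  rcases (Nat.dvd_prime hq.out).mp h1 with h | h
  · exact absurd (Subgroup.card_eq_one.mp h) hne
  · have : Z ⊓ centralizer (P : Set G) = Z := by
      apply Subgroup.eq_of_le_of_card_ge inf_le_left
      rw [h, hZ]
    rw [← this]; exact inf_le_right

/-- the Sylow `q`-subgroup `Q ⊇ Z` of `E` (`q ∈ τ₃(M)`) with all its properties -/
theorem exists_tau3_sylow (hG : IsMinSimpleOddOrder G) {M E : Subgroup G} (hM : IsCoatom M)
    (hE : IsComplIn E (sigmaCore M) M) {q : ℕ} [hq' : Fact q.Prime] (hq : q ∈ tau3 M)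
    {Z : Subgroup G} (hZE : Z ≤ E) (hZq : IsPGroup q Z) :
    ∃ Q : Subgroup G, Z ≤ Q ∧ Q ≤ E ∧ IsPGroup q Q ∧ ¬ q ∣ Q.relIndex M ∧
      E ≤ normalizer (Q : Set G) ∧ IsCyclic Q ∧ Q ≤ ⁅M, M⁆ ∧
      normalizer (Q : Set G) ≤ normalizer (Z : Set G) := by
  have hHall := Cfsg.Agent.Lib.Helper19.BG124.sigmaHallIn hG hM
  obtain ⟨Q₀, hQ₀⟩ := Cfsg.Agent.Lib.Helper32.BG12.exists_sylow_map_ge hZE hZq
  obtain ⟨hQE, hQq, hQi⟩ := Cfsg.Agent.Lib.Helper24.sylow_map_facts E Q₀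
  obtain ⟨hn, hc, hder⟩ := tau3_subgroup hG hM hE hq hQE hQq
  refine ⟨_, hQ₀, hQE, hQq, ?_, hn, hc, hder.trans (Subgroup.commutator_mono hE.1 hE.1), ?_⟩
  · exact Cfsg.Agent.Lib.Helper23.Bad.not_dvd_relIndex_of_compl hHall hE hq.2.1 hQE hQi
  · exact le_normalizer_of_le_cyclic_normal hc le_rfl hQ₀

/-- **(R3)**: if `H ⊇ N_G(Z)·E` is a maximal subgroup not conjugate to `M` and `P` centralizes
`M_σ ∩ H`, then `M_σ ∩ H = 1`. -/
theorem r3 (hG : IsMinSimpleOddOrder G)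
    (h28 : Cfsg.Agent.Lib.Helper60.BG139.Stmt1428 G) {M E H : Subgroup G} (hM : IsCoatom M)
    (hE : IsComplIn E (sigmaCore M) M) (hH : IsCoatom H)
    (hnc : ∀ g : G, H ≠ M.map (MulAut.conj g).toMonoidHom) (hEH : E ≤ H) {p : ℕ}
    (hp : p ∈ tau1 M) {P : Subgroup G} (hPE : P ≤ E) (hP : Nat.card P = p)
    {q : ℕ} (hq : q ∈ tau3 M) {Z : Subgroup G} (hZE : Z ≤ E) (hZ : Nat.card Z = q)
    (hmove : ¬ Z ≤ centralizer (P : Set G)) (hNZ : normalizer (Z : Set G) ≤ H)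
    (hYP : sigmaCore M ⊓ H ≤ centralizer (P : Set G)) : sigmaCore M ⊓ H = ⊥ := by
  classical
  haveI hpf : Fact p.Prime := ⟨hp.1⟩
  haveI hqf : Fact q.Prime := ⟨hq.1⟩
  have hEM : E ≤ M := hE.1
  have hHall := Cfsg.Agent.Lib.Helper19.BG124.sigmaHallIn hG hM
  have h5 := Cfsg.Agent.S1405.result hG M hM
  have hασ : alphaCore M ≤ sigmaCore M := h5.2.2.1
  have hZq : IsPGroup q Z := IsPGroup.of_card (n := 1) (by rw [hZ, pow_one])
  have hHM : H ≠ M := by
    intro h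
    apply hnc 1
    rw [h]
    exact (Cfsg.Agent.Lib.Helper33.cj_one M).symm
  -- `E` centralizes `Y`
  have hEY := le_centralizer_inf hG h28 hM hE hH hnc hEH hp hPE hP hYP
  -- the Sylow `q`-subgroup of `E`
  obtain ⟨Q, hZQ, hQE, hQq, hQi, hEQ, hQc, hQder, hNQZ⟩ :=
    exists_tau3_sylow hG hM hE hq hZE hZq
  have hfr := frattini_alpha hG hM (hQE.trans hEM) hQq hQder hQi
  -- `⁅M_σ, E⁆ ≤ M_α`
  have hcomm : ⁅sigmaCore M, E⁆ ≤ alphaCore M := by
    rw [Subgroup.commutator_le]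
    intro w hw e he
    have hwM : w ∈ M := (hHall.1) hw
    obtain ⟨a, ha, n, hn, hwan⟩ := hfr w hwM
    have hnY : n ∈ sigmaCore M ⊓ H := by
      refine ⟨?_, hNZ (hNQZ hn)⟩
      have : n = a⁻¹ * w := by rw [hwan]; group
      rw [this]
      exact Subgroup.mul_mem _ (Subgroup.inv_mem _ (hασ ha)) hw
    have hen : n * e = e * n := (mem_centralizer_iff.mp (hEY he)) n hnY
    have hcalc : ⁅w, e⁆ = a * (e * a⁻¹ * e⁻¹) := by
      rw [commutatorElement_def, hwan]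
      have h1 : a * n * e * (a * n)⁻¹ * e⁻¹ = a * (n * e) * n⁻¹ * a⁻¹ * e⁻¹ := by group
      rw [h1, hen]; group
    rw [hcalc]
    refine Subgroup.mul_mem _ ha ?_
    have hnorm := Cfsg.Agent.Lib.Helper96.BG103.le_normalizer_alphaCore M (hEM he)
    exact (mem_normalizer_iff.mp hnorm a⁻¹).mp (Subgroup.inv_mem _ ha)
  have h26 := (Cfsg.Agent.S1426.result hG M hM E hE).2.1
  have hWα : sigmaCore M ≤ alphaCore M := by rw [← h26]; exact hcomm
  -- B&G 12.17(a)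
  have hqα : q ∉ alpha M := fun h =>
    hq.2.1 (Cfsg.Agent.Lib.Helper76.BGSigU.alpha_subset_sigma hHall h5.1 hασ h)
  have hEZ : E ≤ normalizer (Z : Set G) := (tau3_subgroup hG hM hE hq hZE hZq).1
  have h17 := Cfsg.Agent.Lib.Helper47.BG12.bg_12_17_a hG hM hp.2.1 hp.2.2.2.2 (hPE.trans hEM) hP
    (hZE.trans hEM) hZq hqα (hPE.trans hEZ) (inf_centralizer_eq_bot_of_card_prime hZ hmove)
    ⟨H, hH, hHM, inf_le_right.trans
      ((Subgroup.centralizer_le_normalizer _).trans hNZ)⟩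
  rw [Cfsg.Agent.Lib.Helper47.BG12.centralizer_sup_eq_inf] at h17
  rw [eq_bot_iff, ← h17]
  intro y hy
  have hyZ : y ∈ centralizer (Z : Set G) := by
    rw [mem_centralizer_iff]
    intro z hz
    exact ((mem_centralizer_iff.mp (hEY (hZE hz))) y hy).symm
  exact ⟨hWα hy.1, hyZ, hYP hy⟩

end Cfsg.Agent.Lib.Helper23.BG1310
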