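import Cfsg.Agent.Lib.Helper23.BG1310B
import Cfsg.Agent.Lib.Helper96.BG1310C
import Cfsg.Agent.Lib.Helper70.BG134c
import Cfsg.Agent.Lib.Helper63.BG10
import Cfsg.Agent.Lib.Helper63.BG13a
import Cfsg.Agent.Lib.Helper56.BG10a
import Cfsg.Agent.Lib.Helper23.TypeP

set_option autoImplicit false
set_option linter.style.haveILetI false
set_option linter.unusedSectionVars false

/-!
# B&G Lemma 13.10(b) ("Case R"): `C_{M_σ}(Z) = 1` for `Z ≤ E` of prime order `q ∈ τ₃(M)` that is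
moved by some subgroup `P ≤ E` of prime order `p ∈ τ₁(M)`
-/

namespace Cfsg.Agent.Lib.Helper23.BG1310

open Subgroup Cfsg Cfsg.Agent.Lib.Helper33
open scoped commutatorElement

universe u

variable {G : Type u} [Group G] [Finite G]

/-- Dedekind: a complement `E ≤ H` of `W` in `M` is a complement of `W ∩ H` in `M ∩ H` -/
theorem isComplIn_inf {W M E H : Subgroup G} (hE : IsComplIn E W M) (hEH : E ≤ H) :
    IsComplIn E (W ⊓ H) (M ⊓ H) := by
  obtain ⟨hEM, hWM, hdisj, hprod⟩ := hE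
  refine ⟨le_inf hEM hEH, inf_le_inf_right H hWM, ?_, ?_⟩
  · rw [eq_bot_iff, ← hdisj]; exact inf_le_inf_left E inf_le_left
  · intro x hx
    obtain ⟨e, he, w, hw, hxew⟩ := hprod x hx.1
    refine ⟨e, he, w, ⟨hw, ?_⟩, hxew⟩
    have : w = e⁻¹ * x := by rw [hxew]; group
    rw [this]; exact H.mul_mem (H.inv_mem (hEH he)) hx.2

/-- a Sylow `t`-subgroup of `M_σ ∩ H` is a Sylow `t`-subgroup of `M ∩ H` (`E ≤ H`) -/
theorem not_dvd_relIndex_inf (hG : IsMinSimpleOddOrder G) {M E H : Subgroup G} (hM : IsCoatom M)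
    (hE : IsComplIn E (sigmaCore M) M) (hEH : E ≤ H) {t : ℕ} [ht : Fact t.Prime]
    {S : Subgroup G} (hSY : S ≤ sigmaCore M ⊓ H) (hS1 : S ≠ ⊥) (hSt : IsPGroup t S)
    (hSi : ¬ t ∣ S.relIndex (sigmaCore M ⊓ H)) : ¬ t ∣ S.relIndex (M ⊓ H) := by
  have hHall := Cfsg.Agent.Lib.Helper19.BG124.sigmaHallIn hG hM
  have hc := isComplIn_inf hE hEH
  have hcard := Cfsg.Agent.Lib.Helper23.card_isComplIn hc
  have hYB : sigmaCore M ⊓ H ≤ M ⊓ H := hc.2.1
  have h1 := Subgroup.relIndex_mul_relIndex S (sigmaCore M ⊓ H) (M ⊓ H) hSY hYB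
  have h2 : (sigmaCore M ⊓ H).relIndex (M ⊓ H) * Nat.card ↥(sigmaCore M ⊓ H) = Nat.card ↥(M ⊓ H) := by
    have := Subgroup.relIndex_mul_relIndex (⊥ : Subgroup G) (sigmaCore M ⊓ H) (M ⊓ H) bot_le hYB
    rw [Subgroup.relIndex_bot_left, Subgroup.relIndex_bot_left] at this
    rw [mul_comm]; exact this
  have h3 : (sigmaCore M ⊓ H).relIndex (M ⊓ H) = Nat.card E := by
    have hpos : 0 < Nat.card ↥(sigmaCore M ⊓ H) := Nat.card_pos
    exact Nat.eq_of_mul_eq_mul_right hpos (h2.trans hcard.symm)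
  have htS : t ∣ Nat.card S := by
    rcases hSt.card_eq_or_dvd with h | h
    · exact absurd (Subgroup.card_eq_one.mp h) hS1
    · exact h
  have htσ : t ∈ sigma M :=
    Cfsg.Agent.Lib.Helper60.BG139.mem_sigma_of_dvd_card_sigmaCore hG hM ht.out
      (htS.trans (Subgroup.card_dvd_of_le (hSY.trans inf_le_left)))
  intro hd
  rw [← h1, h3] at hd
  rcases (Nat.Prime.dvd_mul ht.out).mp hd with h | h
  · exact hSi h
  · exact Cfsg.Agent.Lib.Helper96.BG127.not_mem_sigma_of_dvd_card_compl hHall hE ht.out h htσ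

/-- **B&G Lemma 13.10(b)** (Case R of (A)). -/
theorem tau13_regular (hG : IsMinSimpleOddOrder G) (h78 : Stmt1378b G)
    (h28 : Cfsg.Agent.Lib.Helper60.BG139.Stmt1428 G) (hLE : StmtE G) (hAs : StmtAsym G)
    {M E : Subgroup G} (hM : IsCoatom M) (hE : IsComplIn E (sigmaCore M) M)
    {p : ℕ} (hp : p ∈ tau1 M) {P : Subgroup G} (hPE : P ≤ E) (hP : Nat.card P = p)
    {q : ℕ} (hq : q ∈ tau3 M) {Z : Subgroup G} (hZE : Z ≤ E) (hZ : Nat.card Z = q)
    (hmove : ¬ Z ≤ centralizer (P : Set G)) :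
    sigmaCore M ⊓ centralizer (Z : Set G) = ⊥ := by
  classical
  by_contra hne
  haveI hpf : Fact p.Prime := ⟨hp.1⟩
  haveI hqf : Fact q.Prime := ⟨hq.1⟩
  have hEM : E ≤ M := hE.1
  have hHall := Cfsg.Agent.Lib.Helper19.BG124.sigmaHallIn hG hM
  have hZq : IsPGroup q Z := IsPGroup.of_card (n := 1) (by rw [hZ, pow_one])
  have hPp : IsPGroup p P := IsPGroup.of_card (n := 1) (by rw [hP, pow_one])
  have hZ1 : Z ≠ ⊥ := by
    intro h
    rw [h, Subgroup.card_bot] at hZ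
    exact hq.1.one_lt.ne hZ
  have hZtop : Z ≠ ⊤ := by
    intro h
    exact hM.1 (top_le_iff.mp (h ▸ (hZE.trans hEM)))
  obtain ⟨H, hH, hNZ⟩ := Cfsg.Agent.Lib.Helper56.BG10.exists_coatom_ge
    (Cfsg.Agent.Lib.Helper63.BG10.normalizer_ne_top hG hZ1 hZtop)
  obtain ⟨hEZ, -, -⟩ := tau3_subgroup hG hM hE hq hZE hZq
  have hEH : E ≤ H := hEZ.trans hNZ
  -- `q ∈ σ(H)` by Lemma E
  have hqH : q ∈ sigma H := hLE M H hM hH q (Or.inr hq) Z hZ (hZE.trans hEM) hne hNZ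
  -- `H` is not conjugate to `M`
  have hnc : ∀ g : G, H ≠ M.map (MulAut.conj g).toMonoidHom := by
    intro g hg
    apply hq.2.1
    have h1 : q ∈ sigma (cj g M) := by
      show q ∈ sigma (M.map (MulAut.conj g).toMonoidHom)
      rw [← hg]; exact hqH
    have h2 := Cfsg.Agent.Lib.Helper63.BG13.sigma_cj g⁻¹ h1
    rwa [cj_inv_cj] at h2
  have h31 := Cfsg.Agent.Lib.Helper60.BG131a.stmt131a hG
  -- `Y ≤ C(Z)`
  have hYZ : sigmaCore M ⊓ H ≤ centralizer (Z : Set G) :=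
    h31 M H hM hH hnc q hq.1 hq.2.1 (fun h => h.2.1 hqH) Z hZq
      (le_inf (hZE.trans hEM) (hZE.trans hEH))
  have hY1 : sigmaCore M ⊓ H ≠ ⊥ := by
    intro h
    apply hne
    rw [eq_bot_iff, ← h]
    exact inf_le_inf_left _ ((Subgroup.centralizer_le_normalizer _).trans hNZ)
  by_cases hYP : sigmaCore M ⊓ H ≤ centralizer (P : Set G)
  · exact hY1 (r3 hG h28 hM hE hH hnc hEH hp hPE hP hq hZE hZ hmove hNZ hYP)
  -- `p ∈ τ₁(H)`
  have hpH : p ∈ tau1 H := by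
    by_contra hpH
    exact hYP (h31 M H hM hH hnc p hp.1 hp.2.1 hpH P hPp
      (le_inf (hPE.trans hEM) (hPE.trans hEH)))
  -- `P` normalizes `Y`
  have hPY : P ≤ normalizer ((sigmaCore M ⊓ H : Subgroup G) : Set G) := by
    intro x hx
    rw [mem_normalizer_iff]
    intro u
    constructor
    · intro hu
      exact conj_mem_inf hEM hEH (hPE hx) hu
    · intro hu
      have := conj_mem_inf hEM hEH (E.inv_mem (hPE hx)) hu
      have h2 : x⁻¹ * (x * u * x⁻¹) * x⁻¹⁻¹ = u := by group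
      rwa [h2] at this
  have hpW : ¬ p ∣ Nat.card (sigmaCore M) := fun hd =>
    hp.2.1 (Cfsg.Agent.Lib.Helper60.BG139.mem_sigma_of_dvd_card_sigmaCore hG hM hp.1 hd)
  have hcop : (Nat.card P).Coprime (Nat.card ↥(sigmaCore M ⊓ H)) := by
    rw [hP]
    apply (Nat.Prime.coprime_iff_not_dvd hp.1).mpr
    intro hd
    exact hpW (hd.trans (Subgroup.card_dvd_of_le inf_le_left))
  have hPsolv : Group.IsSolvable ↥P := by
    haveI : IsCyclic ↥P := isCyclic_of_prime_card hP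
    letI : CommGroup ↥P := IsCyclic.commGroup
    exact Group.isSolvable_of_comm (fun a b => mul_comm a b)
  obtain ⟨t, htf, S, hSY, hSt, hSi, hPS, hSP⟩ :=
    Cfsg.Agent.Lib.Helper70.BG134.exists_bad_sylow_full hPY hcop (Or.inr hPsolv) hYP
  haveI := htf
  have hS1 : S ≠ ⊥ := by
    intro h
    apply hSP
    rw [h]; exact bot_le
  obtain ⟨hSc, hNS⟩ := Cfsg.Agent.Lib.Helper96.BG1310C.pin_of_cent hG h78 hLE hM hH hnc hqH hZ
    (hZE.trans hEH) hYZ hSt hS1 hSY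
  -- the Sylow `q`-subgroup of `E`
  obtain ⟨Q, hZQ, hQE, hQq, hQi, hEQ, hQc, hQder, hNQZ⟩ :=
    exists_tau3_sylow hG hM hE hq hZE hZq
  -- coprimality
  have hpq : p ≠ q := by
    intro h
    apply hp.2.2.2.1
    rw [h]; exact hq.2.2.1
  have htS : t ∣ Nat.card S := by
    rcases hSt.card_eq_or_dvd with h | h
    · exact absurd (Subgroup.card_eq_one.mp h) hS1
    · exact h
  have hpt : p ≠ t := by
    intro h
    apply hpW
    rw [h]
    exact htS.trans (Subgroup.card_dvd_of_le (hSY.trans inf_le_left))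
  have hcopQ : (Nat.card P).Coprime (Nat.card Q) := by
    obtain ⟨k, hk⟩ := IsPGroup.iff_card.mp hQq
    rw [hP, hk]
    exact Nat.Coprime.pow_right k ((Nat.coprime_primes hp.1 hq.1).mpr hpq)
  have hcopS : (Nat.card P).Coprime (Nat.card S) := by
    obtain ⟨k, hk⟩ := IsPGroup.iff_card.mp hSt
    rw [hP, hk]
    exact Nat.Coprime.pow_right k ((Nat.coprime_primes hp.1 htf.out).mpr hpt)
  have hregQ : Q ⊓ centralizer (P : Set G) = ⊥ := by
    by_contra h
    exact hmove (hZQ.trans (Cfsg.Agent.Lib.Helper47.BG12.le_centralizer_of_isCyclic_of_fix hQq hQc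
      (hPE.trans hEQ) hcopQ h))
  have hregS : S ⊓ centralizer (P : Set G) = ⊥ := by
    by_contra h
    exact hSP (Cfsg.Agent.Lib.Helper47.BG12.le_centralizer_of_isCyclic_of_fix hSt hSc hPS hcopS h)
  have hQi' : ¬ q ∣ Q.relIndex (M ⊓ H) := by
    intro hd
    apply hQi
    rw [← Subgroup.relIndex_mul_relIndex Q (M ⊓ H) M (le_inf (hQE.trans hEM) (hQE.trans hEH))
      inf_le_left]
    exact Dvd.dvd.mul_right hd _
  have hSi' := not_dvd_relIndex_inf hG hM hE hEH hSY hS1 hSt hSi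
  exact hAs M H hM hH hnc p q t hp.1 hq.1 htf.out hp hpH P Q S hP
    (le_inf (hPE.trans hEM) (hPE.trans hEH)) (le_inf (hQE.trans hEM) (hQE.trans hEH)) hQq hQi'
    (hSY.trans (isComplIn_inf hE hEH).2.1) hSt hSi' (hPE.trans hEQ) hPS hregQ hregS
    (hNQZ.trans hNZ) hNS

end Cfsg.Agent.Lib.Helper23.BG1310
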