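import Cfsg.Agent.Lib.Helper23.BG1310F
import Cfsg.Agent.Lib.Helper70.BG14Final

set_option autoImplicit false

/-!
# B&G Lemma 13.10(b), unconditional
-/

namespace Cfsg.Agent.Lib.Helper23.BG1310

open Subgroup Cfsg

universe u

variable {G : Type u} [Group G] [Finite G]

/-- **B&G Lemma 13.10(b)** (`tau13_regular`), unconditional: if `Z ≤ E` has prime order
`q ∈ τ₃(M)` and is not centralized by some `P ≤ E` of prime order `p ∈ τ₁(M)`, then
`C_{M_σ}(Z) = 1`. -/
theorem tau13_regular_final (hG : IsMinSimpleOddOrder G)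
    {M E : Subgroup G} (hM : IsCoatom M) (hE : IsComplIn E (sigmaCore M) M)
    {p : ℕ} (hp : p ∈ tau1 M) {P : Subgroup G} (hPE : P ≤ E) (hP : Nat.card P = p)
    {q : ℕ} (hq : q ∈ tau3 M) {Z : Subgroup G} (hZE : Z ≤ E) (hZ : Nat.card Z = q)
    (hmove : ¬ Z ≤ centralizer (P : Set G)) :
    sigmaCore M ⊓ centralizer (Z : Set G) = ⊥ :=
  tau13_regular_of hG (Cfsg.Agent.Lib.Helper70.BG14.stmtE23 hG) hM hE hp hPE hP hq hZE hZ hmove

/-- helper32's `Stmt1310`, unconditional -/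
theorem stmt1310 (hG : IsMinSimpleOddOrder G) : Cfsg.Agent.Lib.Helper32.BG142.Stmt1310 G :=
  stmt1310_of hG (Cfsg.Agent.Lib.Helper70.BG14.stmtE23 hG)

end Cfsg.Agent.Lib.Helper23.BG1310
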