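import Cfsg.Agent.Lib.Helper32.Rank2Aut

set_option autoImplicit false
set_option linter.style.haveILetI false
set_option linter.unusedSectionVars false
set_option linter.unusedVariables false

/-!
# (C3) for BG 13.4: an odd-order solvable `p'`-group acting on a `p`-group of rank at most two
centralizes it with its commutator subgroup
-/

namespace Cfsg.Agent.Lib.Helper23.BG134

open Subgroup
open scoped commutatorElement

theorem commutator_le_centralizer_of_rank_two {G : Type*} [Group G] [Finite G] {p : ℕ}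
    [hpf : Fact p.Prime] (hp2 : p ≠ 2) {V A : Subgroup G} (hV : IsPGroup p V)
    (hr : Cfsg.PRankLE p 2 ↥V) (hAV : A ≤ Subgroup.normalizer (V : Set G))
    (hodd : Odd (Nat.card A)) (hsolv : Group.IsSolvable ↥A) (hcop : (Nat.card A).Coprime p) :
    ⁅A, A⁆ ≤ Subgroup.centralizer (V : Set G) := by
  obtain ⟨f, hf⟩ : ∃ f : ↥A →* MulAut ↥V, f = V.normalizerMonoidHom.comp (Subgroup.inclusion hAV) :=
    ⟨_, rfl⟩
  have hker : ∀ x : ↥A, f x = 1 → (x : G) ∈ centralizer (V : Set G) := by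
    intro x hx
    have h1 : Subgroup.inclusion hAV x ∈ V.normalizerMonoidHom.ker := by
      rw [MonoidHom.mem_ker]
      rw [hf] at hx
      exact hx
    rw [normalizerMonoidHom_ker, mem_subgroupOf] at h1
    exact h1
  have hsurj : Function.Surjective f.rangeRestrict := f.rangeRestrict_surjective
  haveI : Group.IsSolvable ↥f.range := Group.isSolvable_of_surjective hsurj
  have hcardY : Nat.card ↥f.range ∣ Nat.card ↥A := Subgroup.card_dvd_of_surjective _ hsurj
  have hoddY : Odd (Nat.card ↥f.range) := hodd.of_dvd_nat hcardY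
  have key := Cfsg.Agent.Lib.Helper32.Rank2.isPGroup_commutator_mulAut p hp2 hV hr f.range hoddY
  rw [Subgroup.commutator_le]
  intro a ha b hb
  have hz : f ⁅(⟨a, ha⟩ : ↥A), ⟨b, hb⟩⁆ ∈ ⁅f.range, f.range⁆ := by
    rw [map_commutatorElement]
    exact Subgroup.commutator_mem_commutator ⟨_, rfl⟩ ⟨_, rfl⟩
  obtain ⟨k, hk⟩ := key _ hz
  have h1 : orderOf (f ⁅(⟨a, ha⟩ : ↥A), ⟨b, hb⟩⁆) ∣ p ^ k := orderOf_dvd_of_pow_eq_one hk
  have h2 : orderOf (f ⁅(⟨a, ha⟩ : ↥A), ⟨b, hb⟩⁆) ∣ Nat.card ↥A :=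
    (orderOf_map_dvd f _).trans (orderOf_dvd_natCard _)
  have h3 : orderOf (f ⁅(⟨a, ha⟩ : ↥A), ⟨b, hb⟩⁆) = 1 := by
    have hc : (Nat.card ↥A).Coprime (p ^ k) := Nat.Coprime.pow_right k hcop
    exact Nat.eq_one_of_dvd_coprimes hc h2 h1
  have h4 := hker _ (orderOf_eq_one_iff.mp h3)
  have h5 : ((⁅(⟨a, ha⟩ : ↥A), ⟨b, hb⟩⁆ : ↥A) : G) = ⁅a, b⁆ := by
    simp [commutatorElement_def]
  rw [← h5]
  exact h4

end Cfsg.Agent.Lib.Helper23.BG134
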