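import Mathlib
import Cfsg.Prelude
import Cfsg.Agent.Lib.Helper90.BG1435a
import Cfsg.Agent.Lib.Helper76.BG159D

/-!
# S1435 (B&G Theorem 15.7), clauses 3 and 4

In the setting of S1435 (helper90's `Facts`) with `U ≤ H_σ` (helper76's crux):
`M ∩ H = UK` and `N_H(U) ⊄ M`.
-/

set_option autoImplicit false
set_option linter.unusedSectionVars false
set_option linter.unusedVariables false
set_option linter.style.haveILetI false

open Subgroup Cfsg
open scoped Pointwise

namespace Cfsg.Agent.Lib.Helper23.BG1435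

universe u

variable {G : Type u} [Group G] [Finite G]

/-- `M_σ ∩ H_σ = 1` when `σ(M)` and `σ(H)` are disjoint -/
theorem sigmaCore_inf_sigmaCore_eq_bot {M H : Subgroup G} (hd : sigma H ∩ sigma M = ∅) :
    sigmaCore M ⊓ sigmaCore H = ⊥ := by
  apply disjoint_iff.mp
  apply Subgroup.disjoint_of_coprime_natCard
  apply Nat.Coprime.symm
  apply Nat.coprime_of_dvd
  intro q hq h1 h2
  have hH : q ∈ sigma H := Cfsg.Agent.Lib.Helper24.BG.mem_sigma_of_dvd_card_sigmaCore H hq h1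
  have hM : q ∈ sigma M := Cfsg.Agent.Lib.Helper24.BG.mem_sigma_of_dvd_card_sigmaCore M hq h2
  have : q ∈ sigma H ∩ sigma M := ⟨hH, hM⟩
  rw [hd] at this
  exact this

theorem conj_mem_sigmaCore {M : Subgroup G} {m w : G} (hm : m ∈ M) (hw : w ∈ sigmaCore M) :
    m * w * m⁻¹ ∈ sigmaCore M :=
  (mem_normalizer_iff.mp (Cfsg.Agent.Lib.Helper24.BG.le_normalizer_sigmaCore M hm) w).mp hw

/-- **clause 3**: `M ∩ H = UK` -/
theorem inf_eq (hG : IsMinSimpleOddOrder G) {M K U Mstar H : Subgroup G} (hM : IsCoatom M)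
    (hKU : IsSigmaDecomposition M K U)
    (F : Cfsg.Agent.Lib.Helper90.BG1435.Facts M K U Mstar H) (hUσ : U ≤ sigmaCore H) :
    M ⊓ H = U ⊔ K := by
  have hσM := Cfsg.Agent.Lib.Helper47.BG11.sigmaHallIn_of_coatom hG hM
  have hc := Cfsg.Agent.Lib.Helper76.BGSigU.isComplIn_UK hσM hKU
  have hdisj := sigmaCore_inf_sigmaCore_eq_bot F.disj_M
  have hUKH : U ⊔ K ≤ H := sup_le F.U_le F.K_le
  apply le_antisymm
  · rintro y ⟨hyM, hyH⟩
    obtain ⟨e, he, w, hw, rfl⟩ := hc.2.2.2 y hyM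
    have heH : e ∈ H := hUKH he
    have hwH : w ∈ H := by
      have : w = e⁻¹ * (e * w) := by group
      rw [this]
      exact H.mul_mem (H.inv_mem heH) hyH
    have hwC : w ∈ centralizer (U : Set G) := by
      rw [mem_centralizer_iff]
      intro u hu
      have huM : u ∈ M := hc.1 (le_sup_left (b := K) hu)
      have h1 : w * u * w⁻¹ * u⁻¹ ∈ sigmaCore M := by
        have hu' : u * w⁻¹ * u⁻¹ ∈ sigmaCore M :=
          conj_mem_sigmaCore huM ((sigmaCore M).inv_mem hw)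
        have : w * u * w⁻¹ * u⁻¹ = w * (u * w⁻¹ * u⁻¹) := by group
        rw [this]
        exact (sigmaCore M).mul_mem hw hu'
      have h2 : w * u * w⁻¹ * u⁻¹ ∈ sigmaCore H :=
        (sigmaCore H).mul_mem (conj_mem_sigmaCore hwH (hUσ hu)) ((sigmaCore H).inv_mem (hUσ hu))
      have h3 : w * u * w⁻¹ * u⁻¹ ∈ sigmaCore M ⊓ sigmaCore H := ⟨h1, h2⟩
      rw [hdisj, Subgroup.mem_bot] at h3
      have : u * w = (w * u * w⁻¹ * u⁻¹)⁻¹ * (w * u) := by group
      rw [this, h3, inv_one, one_mul]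
    have hw1 : w ∈ sigmaCore M ⊓ centralizer (U : Set G) := ⟨hw, hwC⟩
    rw [F.centU, Subgroup.mem_bot] at hw1
    rw [hw1, mul_one]
    exact he
  · exact le_inf hc.1 hUKH

/-- **clause 4**: `N_H(U) ⊄ M` -/
theorem not_normalizer_le (hG : IsMinSimpleOddOrder G) {M K U Mstar H : Subgroup G}
    (hM : IsCoatom M) (hH : IsCoatom H) (hKU : IsSigmaDecomposition M K U)
    (F : Cfsg.Agent.Lib.Helper90.BG1435.Facts M K U Mstar H) (hUσ : U ≤ sigmaCore H)
    (hI : M ⊓ H = U ⊔ K) : ¬ H ⊓ normalizer (U : Set G) ≤ M := by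
  intro hle
  -- `UK ∩ H_σ ≤ U`
  have hUKσ : (U ⊔ K) ⊓ sigmaCore H ≤ U := by
    rintro y ⟨hy, hyσ⟩
    have hUK : (↑(U ⊔ K) : Set G) = (U : Set G) * (K : Set G) :=
      Subgroup.coe_mul_of_right_le_normalizer_left U K hKU.normal
    have hy' : y ∈ (U : Set G) * (K : Set G) := by rw [← hUK]; exact hy
    obtain ⟨u, hu, k, hk, rfl⟩ := Set.mem_mul.mp hy'
    have hkσ : k ∈ sigmaCore H := by
      have : k = u⁻¹ * (u * k) := by group
      rw [this]
      exact (sigmaCore H).mul_mem ((sigmaCore H).inv_mem (hUσ hu)) hyσ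
    have hk1 : k = 1 := by
      by_contra hne
      have hKle : K ≤ zpowers k :=
        Cfsg.Agent.Lib.Helper76.BG159.le_zpowers_of_card_prime F.cardK hk hne
      have hKσ : K ≤ sigmaCore H := hKle.trans (zpowers_le.mpr hkσ)
      exact F.cardK_notin
        (Cfsg.Agent.Lib.Helper47.BG11.mem_sigma_of_dvd_card_le hKσ F.cardK (dvd_refl _))
    rw [hk1, mul_one]
    exact hu
  haveI : Group.IsNilpotent ↥(sigmaCore H) := F.nilH
  by_cases hU'top : U.subgroupOf (sigmaCore H) = ⊤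
  · -- `U = H_σ`
    have hUW : U = sigmaCore H := by
      apply le_antisymm hUσ
      intro w hw
      have : (⟨w, hw⟩ : ↥(sigmaCore H)) ∈ U.subgroupOf (sigmaCore H) := by
        rw [hU'top]; trivial
      exact mem_subgroupOf.mp this
    have hHn : H ≤ normalizer (U : Set G) := by
      rw [hUW]
      exact Cfsg.Agent.Lib.Helper24.BG.le_normalizer_sigmaCore H
    have hHM : H ≤ M := fun h hh => hle ⟨hh, hHn hh⟩
    rcases hH.le_iff.mp hHM with h | h
    · exact hM.1 h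
    · exact F.ne_M h.symm
  · have hlt : U.subgroupOf (sigmaCore H) <
        normalizer ((U.subgroupOf (sigmaCore H) : Subgroup ↥(sigmaCore H)) : Set ↥(sigmaCore H)) :=
      Group.normalizerCondition_of_isNilpotent _ (lt_top_iff_ne_top.mpr hU'top)
    obtain ⟨n, hn, hnU⟩ := SetLike.exists_of_lt hlt
    have hnN : (n : G) ∈ normalizer (U : Set G) := by
      have h1 := Subgroup.subgroupOf_normalizer_eq hUσ
      rw [← h1] at hn
      exact mem_subgroupOf.mp hn
    have hnH : (n : G) ∈ H := Cfsg.Agent.Lib.Helper47.BG11.sigmaCore_le H n.2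
    have hnM : (n : G) ∈ M := hle ⟨hnH, hnN⟩
    have hnUK : (n : G) ∈ U ⊔ K := by rw [← hI]; exact ⟨hnM, hnH⟩
    exact hnU (mem_subgroupOf.mpr (hUKσ ⟨hnUK, n.2⟩))

end Cfsg.Agent.Lib.Helper23.BG1435
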