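import Mathlib
import Cfsg.Prelude
import Cfsg.Agent.Lib.Helper96.BG1435Defs
import Cfsg.Agent.Lib.Helper23.BadTau2
import Cfsg.Agent.Lib.Helper47.BG11a
import Cfsg.Agent.Lib.Helper24.Coprime
import Cfsg.Agent.S1404
import Cfsg.Agent.S1420

/-!
# S1435 clauses 5+6, leaf [L-D] of helper96's skeleton: the final glue

If `K` centralizes `E' = ⁅E,E⁆` and `H_σ ∩ M* = 1` then `E ≤ M*`, `H ∩ M* = E` and `K` lies in a
normal `t`-subgroup of `E` (`t = |K|`), hence `K ≤ F(H ∩ M*)`.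
-/

set_option autoImplicit false
set_option linter.unusedSectionVars false
set_option linter.unusedVariables false
set_option linter.style.haveILetI false

open Subgroup Cfsg

namespace Cfsg.Agent.Lib.Helper96.BG1435

variable {G : Type*} [Group G] [Finite G]

/-- the elements of order dividing `t` of a commutative subgroup -/
def ld_omega (A : Subgroup G) (hA : ∀ a ∈ A, ∀ b ∈ A, a * b = b * a) (t : ℕ) : Subgroup G where
  carrier := {e | e ∈ A ∧ e ^ t = 1}
  mul_mem' := by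
    rintro a b ⟨ha, ha'⟩ ⟨hb, hb'⟩
    refine ⟨A.mul_mem ha hb, ?_⟩
    have hc : Commute a b := hA a ha b hb
    rw [hc.mul_pow, ha', hb', one_mul]
  one_mem' := ⟨A.one_mem, one_pow _⟩
  inv_mem' := by
    rintro a ⟨ha, ha'⟩
    exact ⟨A.inv_mem ha, by rw [inv_pow, ha', inv_one]⟩

theorem ld_mem_omega {A : Subgroup G} {hA : ∀ a ∈ A, ∀ b ∈ A, a * b = b * a} {t : ℕ} {e : G} :
    e ∈ ld_omega A hA t ↔ e ∈ A ∧ e ^ t = 1 := Iff.rfl

theorem ld_omega_isPGroup {A : Subgroup G} {hA : ∀ a ∈ A, ∀ b ∈ A, a * b = b * a} {t : ℕ} :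
    IsPGroup t (ld_omega A hA t) := by
  intro g
  refine ⟨1, ?_⟩
  apply Subtype.ext
  have := g.2.2
  simpa using this

/-- `g k g⁻¹ ∈ C_G(K)` when `K` is commutative and centralizes `E'` -/
theorem ld_conj_mem {E K : Subgroup G} (hKE : K ≤ E) (hKc : ∀ a ∈ K, ∀ b ∈ K, a * b = b * a)
    (hcent : K ≤ centralizer ((⁅E, E⁆ : Subgroup G) : Set G)) {g k : G} (hg : g ∈ E)
    (hk : k ∈ K) : g * k * g⁻¹ ∈ centralizer (K : Set G) := by
  rw [mem_centralizer_iff]
  intro k' hk'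
  have hc : g * k * g⁻¹ * k⁻¹ ∈ ⁅E, E⁆ := by
    have := Subgroup.commutator_mem_commutator hg (hKE hk)
    rwa [commutatorElement_def] at this
  have h1 : (g * k * g⁻¹ * k⁻¹) * k' = k' * (g * k * g⁻¹ * k⁻¹) :=
    (mem_centralizer_iff.mp (hcent hk')) _ hc
  have h2 : k' * k = k * k' := hKc k' hk' k hk
  calc k' * (g * k * g⁻¹) = k' * (g * k * g⁻¹ * k⁻¹) * k := by group
    _ = (g * k * g⁻¹ * k⁻¹) * k' * k := by rw [h1]
    _ = (g * k * g⁻¹ * k⁻¹) * (k' * k) := by group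
    _ = (g * k * g⁻¹ * k⁻¹) * (k * k') := by rw [h2]
    _ = g * k * g⁻¹ * k' := by group

/-- a subgroup mapped into itself by the conjugations of `E` is normalized by `E` -/
theorem ld_le_normalizer {E T : Subgroup G}
    (h : ∀ g ∈ E, ∀ x ∈ T, g * x * g⁻¹ ∈ T) : E ≤ normalizer (T : Set G) := by
  intro g hg
  rw [mem_normalizer_iff]
  intro x
  constructor
  · exact h g hg x
  · intro hx
    have := h g⁻¹ (E.inv_mem hg) _ hx
    have e : g⁻¹ * (g * x * g⁻¹) * g⁻¹⁻¹ = x := by group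
    rwa [e] at this

/-- [L-D] final glue -/
theorem final_of_centralizes (hG : IsMinSimpleOddOrder G) {H Ms K E : Subgroup G}
    (c : Cfg H Ms K E) (hK2 : sigmaCore H ⊓ Ms = ⊥)
    (hcent : K ≤ centralizer ((⁅E, E⁆ : Subgroup G) : Set G)) :
    K ≤ fittingOf (H ⊓ Ms) ∧ IsComplIn (H ⊓ Ms) (sigmaCore H) H := by
  classical
  set t := Nat.card K with ht
  have htp : t.Prime := c.hKp
  haveI : Fact t.Prime := ⟨htp⟩
  have hKpg : IsPGroup t K := IsPGroup.of_card (n := 1) (by rw [pow_one])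
  have hK1 : K ≠ ⊥ := by
    intro h
    rw [ht, h, Subgroup.card_bot] at htp
    exact Nat.not_prime_one htp
  have hKMs : K ≤ Ms := c.hKMs.trans (Cfsg.Agent.Lib.Helper47.BG11.sigmaCore_le Ms)
  have htσ : t ∈ sigma Ms :=
    Cfsg.Agent.Lib.Helper47.BG11.mem_sigma_of_dvd_card_le c.hKMs htp (dvd_refl _)
  -- `K` is commutative
  have hKc : ∀ a ∈ K, ∀ b ∈ K, a * b = b * a := by
    haveI : IsCyclic K := isCyclic_of_prime_card (p := t) ht.symm
    intro a ha b hb
    have := IsCyclic.commGroup.mul_comm (⟨a, ha⟩ : K) ⟨b, hb⟩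
    exact congrArg Subtype.val this
  -- `k ^ t = 1` on `K`
  have hKt : ∀ k ∈ K, k ^ t = 1 := by
    intro k hk
    have h1 : (⟨k, hk⟩ : K) ^ Nat.card K = 1 := pow_card_eq_one'
    have h2 := congrArg Subtype.val h1
    rw [Subgroup.coe_pow, Subgroup.coe_one] at h2
    exact h2
  have hEH : E ≤ H := c.hE.1
  -- `E ≤ M*`
  have hEMs : E ≤ Ms := by
    intro g hg
    have hmap : K.map (MulAut.conj g).toMonoidHom ≤ Ms := by
      rintro _ ⟨k, hk, rfl⟩
      simp only [MulEquiv.coe_toMonoidHom, MulAut.conj_apply]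
      exact c.hCK (ld_conj_mem c.hKE hKc hcent hg hk)
    obtain ⟨m, hm, c', hc', rfl⟩ :=
      (Cfsg.Agent.S1404.result hG Ms c.hMs t htσ K hKpg hK1 hKMs).1 g hmap
    exact Ms.mul_mem hm (c.hCK hc')
  -- `H ∩ M* = E`
  have hinf : H ⊓ Ms = E := by
    apply le_antisymm
    · rintro y ⟨hyH, hyMs⟩
      obtain ⟨e, he, h, hh, rfl⟩ := c.hE.2.2.2 y hyH
      have hhMs : h ∈ Ms := by
        have : h = e⁻¹ * (e * h) := by group
        rw [this]
        exact Ms.mul_mem (Ms.inv_mem (hEMs he)) hyMs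
      have : h ∈ sigmaCore H ⊓ Ms := ⟨hh, hhMs⟩
      rw [hK2, Subgroup.mem_bot] at this
      rw [this, mul_one]
      exact he
    · exact le_inf hEH hEMs
  refine ⟨?_, by rw [hinf]; exact c.hE⟩
  rw [hinf]
  -- `E'` is commutative
  have hE'c : ∀ a ∈ (⁅E, E⁆ : Subgroup G), ∀ b ∈ (⁅E, E⁆ : Subgroup G), a * b = b * a := by
    have h20 := (Cfsg.Agent.S1420.result hG H c.hH E c.hE).2.1
    intro a ha b hb
    have := h20.is_comm.comm (⟨a, ha⟩ : ↥(⁅E, E⁆ : Subgroup G)) ⟨b, hb⟩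
    exact congrArg Subtype.val this
  set P := ld_omega (⁅E, E⁆ : Subgroup G) hE'c t with hP
  have hE'E : (⁅E, E⁆ : Subgroup G) ≤ E :=
    Subgroup.commutator_le.mpr (fun _ ha _ hb =>
      E.mul_mem (E.mul_mem (E.mul_mem ha hb) (E.inv_mem ha)) (E.inv_mem hb))
  have hPE : P ≤ E := fun e he => hE'E he.1
  have hEnE' : E ≤ normalizer ((⁅E, E⁆ : Subgroup G) : Set G) :=
    Cfsg.Agent.Lib.Helper24.le_normalizer_commutator_left E E
  -- `E` maps `P` into `P`
  have hPconj : ∀ g ∈ E, ∀ x ∈ P, g * x * g⁻¹ ∈ P := by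
    intro g hg x hx
    refine ⟨(mem_normalizer_iff.mp (hEnE' hg) x).mp hx.1, ?_⟩
    rw [conj_pow, hx.2, mul_one, mul_inv_cancel]
  have hEnP : E ≤ normalizer (P : Set G) := ld_le_normalizer hPconj
  -- the commutators `g k g⁻¹ k⁻¹` lie in `P`
  have hcomm : ∀ g ∈ E, ∀ k ∈ K, g * k * g⁻¹ * k⁻¹ ∈ P := by
    intro g hg k hk
    have hc : g * k * g⁻¹ * k⁻¹ ∈ ⁅E, E⁆ := by
      have := Subgroup.commutator_mem_commutator hg (c.hKE hk)
      rwa [commutatorElement_def] at this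
    refine ⟨hc, ?_⟩
    -- `c` commutes with `k`, and `(c k)^t = 1`
    have h1 : Commute (g * k * g⁻¹ * k⁻¹) k := (mem_centralizer_iff.mp (hcent hk)) _ hc
    have h2 : ((g * k * g⁻¹ * k⁻¹) * k) ^ t = 1 := by
      have e : (g * k * g⁻¹ * k⁻¹) * k = g * k * g⁻¹ := by group
      rw [e, conj_pow, hKt k hk, mul_one, mul_inv_cancel]
    rw [h1.mul_pow, hKt k hk, mul_one] at h2
    exact h2
  set T := K ⊔ P with hT
  have hTp : IsPGroup t T :=
    IsPGroup.to_sup_of_normal_right' hKpg ld_omega_isPGroup (c.hKE.trans hEnP)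
  have hTE : T ≤ E := sup_le c.hKE hPE
  have hEnT : E ≤ normalizer (T : Set G) := by
    apply ld_le_normalizer
    intro g hg x hx
    have hmapK : K.map (MulAut.conj g).toMonoidHom ≤ T := by
      rintro _ ⟨k, hk, rfl⟩
      simp only [MulEquiv.coe_toMonoidHom, MulAut.conj_apply]
      have e : g * k * g⁻¹ = (g * k * g⁻¹ * k⁻¹) * k := by group
      rw [e]
      exact T.mul_mem (le_sup_right (a := K) (hcomm g hg k hk)) (le_sup_left (b := P) hk)
    have hmapP : P.map (MulAut.conj g).toMonoidHom ≤ T := by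
      rintro _ ⟨e, he, rfl⟩
      simp only [MulEquiv.coe_toMonoidHom, MulAut.conj_apply]
      exact le_sup_right (a := K) (hPconj g hg e he)
    have hmapT : T.map (MulAut.conj g).toMonoidHom ≤ T := by
      rw [hT, Subgroup.map_sup]
      exact sup_le hmapK hmapP
    have : g * x * g⁻¹ ∈ T.map (MulAut.conj g).toMonoidHom := ⟨x, hx, by simp⟩
    exact hmapT this
  exact (le_sup_left (b := P)).trans
    (Cfsg.Agent.Lib.Helper23.Bad.le_fittingOf_of_normal_pgroup hTE hTp hEnT)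

end Cfsg.Agent.Lib.Helper96.BG1435
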