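import Mathlib

set_option autoImplicit false

namespace Cfsg.Agent.Lib.Helper23

variable {G : Type*} [Group G]

/-- Relative simultaneous eigenvector lemma: a finite set `S` of commuting involutions acting on
`U / W` (abelian) has a common eigenvector outside `W`. -/
theorem exists_rel_eigen (U W : Subgroup G)
    (hWn : ∀ u ∈ U, ∀ w ∈ W, u * w * u⁻¹ ∈ W)
    (hab : ∀ x ∈ U, ∀ y ∈ U, x * y * x⁻¹ * y⁻¹ ∈ W)
    (hne : ∃ u ∈ U, u ∉ W) (S : Finset G)
    (hSU : ∀ s ∈ S, ∀ u ∈ U, s * u * s⁻¹ ∈ U)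
    (hSW : ∀ s ∈ S, ∀ w ∈ W, s * w * s⁻¹ ∈ W)
    (hcomm : ∀ s ∈ S, ∀ t ∈ S, s * t = t * s)
    (hsq : ∀ s ∈ S, s * s = 1) :
    ∃ u ∈ U, u ∉ W ∧ ∀ s ∈ S, s * u * s⁻¹ * u⁻¹ ∈ W ∨ s * u * s⁻¹ * u ∈ W := by
  classical
  induction S using Finset.induction_on with
  | empty =>
    obtain ⟨u, hu, huW⟩ := hne
    exact ⟨u, hu, huW, by simp⟩
  | insert a S ha ih =>
    have haS : a ∈ insert a S := Finset.mem_insert_self a S
    have hsub : ∀ s ∈ S, s ∈ insert a S := fun s hs => Finset.mem_insert_of_mem hs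
    obtain ⟨u, huU, huW, hu⟩ := ih (fun s hs => hSU s (hsub s hs)) (fun s hs => hSW s (hsub s hs))
      (fun s hs t ht => hcomm s (hsub s hs) t (hsub t ht)) (fun s hs => hsq s (hsub s hs))
    have hvU : a * u * a⁻¹ ∈ U := hSU a haS u huU
    by_cases h : u * (a * u * a⁻¹) ∈ W
    · refine ⟨u, huU, huW, ?_⟩
      intro s hs
      rcases Finset.mem_insert.mp hs with rfl | hs
      · right
        have e : s * u * s⁻¹ * u = u⁻¹ * (u * (s * u * s⁻¹)) * u⁻¹⁻¹ := by group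
        rw [e]
        exact hWn _ (U.inv_mem huU) _ h
      · exact hu s hs
    · refine ⟨u * (a * u * a⁻¹), U.mul_mem huU hvU, h, ?_⟩
      intro s hs
      rcases Finset.mem_insert.mp hs with rfl | hs
      · left
        have e : s * (u * (s * u * s⁻¹)) * s⁻¹ * (u * (s * u * s⁻¹))⁻¹
            = (s * u * s⁻¹) * ((s * s) * u * (s * s)⁻¹) * (s * u * s⁻¹)⁻¹ * u⁻¹ := by group
        rw [e, hsq s haS]
        simp only [one_mul, inv_one, mul_one]
        exact hab _ hvU _ huU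
      · have hsa : s * a = a * s := hcomm s (hsub s hs) a haS
        have hsv : s * (a * u * a⁻¹) * s⁻¹ = a * (s * u * s⁻¹) * a⁻¹ := by
          have e : s * (a * u * a⁻¹) * s⁻¹ = (s * a) * u * (s * a)⁻¹ := by group
          rw [e, hsa]; group
        rcases hu s hs with h1 | h1
        · left
          obtain ⟨w, hw⟩ : ∃ w, w = s * u * s⁻¹ * u⁻¹ := ⟨_, rfl⟩
          have hwW : w ∈ W := hw ▸ h1
          have hsu : s * u * s⁻¹ = w * u := by rw [hw]; group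
          have e : s * (u * (a * u * a⁻¹)) * s⁻¹ * (u * (a * u * a⁻¹))⁻¹
              = (s * u * s⁻¹) * (s * (a * u * a⁻¹) * s⁻¹) * (u * (a * u * a⁻¹))⁻¹ := by group
          rw [e, hsv, hsu]
          have e2 : w * u * (a * (w * u) * a⁻¹) * (u * (a * u * a⁻¹))⁻¹
              = w * (u * (a * w * a⁻¹) * u⁻¹) := by group
          rw [e2]
          exact W.mul_mem hwW (hWn u huU _ (hSW a haS w hwW))
        · right
          obtain ⟨w, hw⟩ : ∃ w, w = s * u * s⁻¹ * u := ⟨_, rfl⟩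
          have hwW : w ∈ W := hw ▸ h1
          have hsu : s * u * s⁻¹ = w * u⁻¹ := by rw [hw]; group
          have e : s * (u * (a * u * a⁻¹)) * s⁻¹ * (u * (a * u * a⁻¹))
              = (s * u * s⁻¹) * (s * (a * u * a⁻¹) * s⁻¹) * (u * (a * u * a⁻¹)) := by group
          rw [e, hsv, hsu]
          have e2 : w * u⁻¹ * (a * (w * u⁻¹) * a⁻¹) * (u * (a * u * a⁻¹))
              = w * (u⁻¹ * (a * w * a⁻¹) * u⁻¹⁻¹)
                * (u⁻¹ * (a * u * a⁻¹)⁻¹ * u⁻¹⁻¹ * (a * u * a⁻¹)⁻¹⁻¹) := by group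
          rw [e2]
          exact W.mul_mem (W.mul_mem hwW (hWn _ (U.inv_mem huU) _ (hSW a haS w hwW)))
            (hab _ (U.inv_mem huU) _ (U.inv_mem hvU))

/-- Absolute version: commuting involutions normalizing an abelian subgroup `U ≠ ⊥` have a common
eigenvector in `U`. -/
theorem exists_eigen (U : Subgroup G) (hU : ∀ x ∈ U, ∀ y ∈ U, x * y = y * x)
    (hne : ∃ u ∈ U, u ≠ 1) (S : Finset G)
    (hSU : ∀ s ∈ S, ∀ u ∈ U, s * u * s⁻¹ ∈ U)
    (hcomm : ∀ s ∈ S, ∀ t ∈ S, s * t = t * s)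
    (hsq : ∀ s ∈ S, s * s = 1) :
    ∃ u ∈ U, u ≠ 1 ∧ ∀ s ∈ S, s * u * s⁻¹ = u ∨ s * u * s⁻¹ = u⁻¹ := by
  obtain ⟨u, huU, hu1, hu⟩ := exists_rel_eigen U ⊥
    (fun u _ w hw => by rw [Subgroup.mem_bot] at hw ⊢; rw [hw]; group)
    (fun x hx y hy => by
      rw [Subgroup.mem_bot, hU x hx y hy]; group)
    (by obtain ⟨u, hu, h1⟩ := hne; exact ⟨u, hu, by rwa [Subgroup.mem_bot]⟩) S hSU
    (fun s _ w hw => by rw [Subgroup.mem_bot] at hw ⊢; rw [hw]; group) hcomm hsq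
  refine ⟨u, huU, by rwa [Subgroup.mem_bot] at hu1, ?_⟩
  intro s hs
  rcases hu s hs with h | h
  · left
    rw [Subgroup.mem_bot] at h
    exact mul_inv_eq_one.mp h
  · right
    rw [Subgroup.mem_bot] at h
    exact eq_inv_of_mul_eq_one_left h

end Cfsg.Agent.Lib.Helper23
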