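import Mathlib
import Cfsg.Agent.Lib.Helper23.Eigen

set_option autoImplicit false

namespace Cfsg.Agent.Lib.Helper23

variable {G : Type*} [Group G]

/-- The abelian case of Thompson's dihedral lemma, in terms of elements: an elementary abelian
2-group `B` (inside `A₀`) acting faithfully on the abelian group `W` without involutions has a
"dual basis" of eigenvectors. -/
theorem abelian_dihedral_aux [Finite G] (W A₀ : Subgroup G)
    (hW : ∀ x ∈ W, ∀ y ∈ W, x * y = y * x)
    (hW2 : ∀ x ∈ W, x * x = 1 → x = 1)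
    (hA : ∀ a ∈ A₀, ∀ b ∈ A₀, a * b = b * a)
    (hA2 : ∀ a ∈ A₀, a * a = 1)
    (hAW : ∀ a ∈ A₀, ∀ w ∈ W, a * w * a⁻¹ ∈ W) :
    ∀ (k : ℕ) (B : Subgroup G), B ≤ A₀ → Nat.card B = 2 ^ k →
      (∀ b ∈ B, (∀ w ∈ W, b * w * b⁻¹ = w) → b = 1) →
      ∃ (a x : Fin k → G),
        (∀ i, a i ∈ B ∧ x i ∈ W ∧ x i ≠ 1 ∧
          (∀ c ∈ A₀, c * x i * c⁻¹ = x i ∨ c * x i * c⁻¹ = (x i)⁻¹) ∧
          a i * x i * (a i)⁻¹ = (x i)⁻¹) ∧
        (∀ i j, i ≠ j → a i * x j * (a i)⁻¹ = x j) ∧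
        Subgroup.closure (Set.range a) = B := by
  classical
  intro k
  induction k with
  | zero =>
    intro B hBA hcard hfaith
    refine ⟨fun i => i.elim0, fun i => i.elim0, fun i => i.elim0, fun i => i.elim0, ?_⟩
    have hB : B = ⊥ := by
      rw [pow_zero] at hcard
      exact Subgroup.card_eq_one.mp hcard
    rw [hB, Subgroup.closure_eq_bot_iff]
    rintro _ ⟨i, _⟩
    exact i.elim0
  | succ k ih =>
    intro B hBA hcard hfaith
    obtain ⟨b₀, hb₀B, hb₀1⟩ : ∃ b ∈ B, b ≠ 1 := by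
      by_contra hcon
      push Not at hcon
      have hB : B = ⊥ := (Subgroup.eq_bot_iff_forall B).mpr hcon
      rw [hB, Subgroup.card_bot] at hcard
      have h2 : 2 ≤ 2 ^ (k + 1) := by
        calc 2 = 2 ^ 1 := by norm_num
          _ ≤ 2 ^ (k + 1) := Nat.pow_le_pow_right (by norm_num) (by omega)
      omega
    obtain ⟨w₀, hw₀W, hw₀⟩ : ∃ w ∈ W, b₀ * w * b₀⁻¹ ≠ w := by
      by_contra hcon
      push Not at hcon
      exact hb₀1 (hfaith b₀ hb₀B hcon)
    have hb₀A : b₀ ∈ A₀ := hBA hb₀B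
    have hb₀2 : b₀ * b₀ = 1 := hA2 b₀ hb₀A
    -- the subgroup of elements inverted by `b₀`
    let U : Subgroup G :=
      { carrier := {u | u ∈ W ∧ b₀ * u * b₀⁻¹ = u⁻¹}
        one_mem' := ⟨W.one_mem, by simp⟩
        mul_mem' := by
          rintro u v ⟨hu, hu'⟩ ⟨hv, hv'⟩
          refine ⟨W.mul_mem hu hv, ?_⟩
          rw [show b₀ * (u * v) * b₀⁻¹ = (b₀ * u * b₀⁻¹) * (b₀ * v * b₀⁻¹) by group, hu', hv',
            hW u hu v hv, mul_inv_rev]
        inv_mem' := by
          rintro u ⟨hu, hu'⟩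
          refine ⟨W.inv_mem hu, ?_⟩
          rw [show b₀ * u⁻¹ * b₀⁻¹ = (b₀ * u * b₀⁻¹)⁻¹ by group, hu'] }
    have hUmem : ∀ u, u ∈ U ↔ u ∈ W ∧ b₀ * u * b₀⁻¹ = u⁻¹ := fun u => Iff.rfl
    have hUab : ∀ x ∈ U, ∀ y ∈ U, x * y = y * x := fun x hx y hy =>
      hW x ((hUmem x).mp hx).1 y ((hUmem y).mp hy).1
    have hUne : ∃ u ∈ U, u ≠ 1 := by
      refine ⟨w₀⁻¹ * (b₀ * w₀ * b₀⁻¹), (hUmem _).mpr ⟨W.mul_mem (W.inv_mem hw₀W)
        (hAW b₀ hb₀A w₀ hw₀W), ?_⟩, ?_⟩
      · have e : b₀ * (w₀⁻¹ * (b₀ * w₀ * b₀⁻¹)) * b₀⁻¹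
            = (b₀ * w₀ * b₀⁻¹)⁻¹ * ((b₀ * b₀) * w₀ * (b₀ * b₀)⁻¹) := by group
        rw [e, hb₀2]; group
      · intro h
        apply hw₀
        have : b₀ * w₀ * b₀⁻¹ = w₀ * (w₀⁻¹ * (b₀ * w₀ * b₀⁻¹)) := by group
        rw [this, h, mul_one]
    have hUinv : ∀ c ∈ A₀, ∀ u ∈ U, c * u * c⁻¹ ∈ U := by
      intro c hc u hu
      obtain ⟨huW, hu'⟩ := (hUmem u).mp hu
      refine (hUmem _).mpr ⟨hAW c hc u huW, ?_⟩
      have e : b₀ * (c * u * c⁻¹) * b₀⁻¹ = (b₀ * c) * u * (b₀ * c)⁻¹ := by group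
      rw [e, hA b₀ hb₀A c hc]
      have e2 : c * b₀ * u * (c * b₀)⁻¹ = c * (b₀ * u * b₀⁻¹) * c⁻¹ := by group
      rw [e2, hu']; group
    -- a common eigenvector in `U`
    obtain ⟨x, hxU, hx1, hxeig⟩ := exists_eigen U hUab hUne (Set.toFinite (A₀ : Set G)).toFinset
      (fun s hs u hu => hUinv s (by simpa using hs) u hu)
      (fun s hs t ht => hA s (by simpa using hs) t (by simpa using ht))
      (fun s hs => hA2 s (by simpa using hs))
    have hxeig' : ∀ c ∈ A₀, c * x * c⁻¹ = x ∨ c * x * c⁻¹ = x⁻¹ := fun c hc =>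
      hxeig c (by simpa using hc)
    obtain ⟨hxW, hb₀x⟩ := (hUmem x).mp hxU
    have hxne : x⁻¹ ≠ x := by
      intro h
      apply hx1
      apply hW2 x hxW
      calc x * x = x * x⁻¹ := by rw [h]
        _ = 1 := mul_inv_cancel x
    -- the hyperplane
    set B' : Subgroup G := B ⊓ Subgroup.centralizer {x} with hB'
    have hB'mem : ∀ c, c ∈ B' ↔ c ∈ B ∧ c * x * c⁻¹ = x := by
      intro c
      rw [hB', Subgroup.mem_inf, Subgroup.mem_centralizer_singleton_iff, mul_inv_eq_iff_eq_mul]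
    have hB'B : B' ≤ B := inf_le_left
    have hidx : (B'.subgroupOf B).index = 2 := by
      rw [Subgroup.index_eq_two_iff]
      refine ⟨⟨b₀, hb₀B⟩, ?_⟩
      rintro ⟨b, hbB⟩
      simp only [Subgroup.mem_subgroupOf, Subgroup.coe_mul]
      have e : (b * b₀) * x * (b * b₀)⁻¹ = b * (b₀ * x * b₀⁻¹) * b⁻¹ := by group
      rcases hxeig' b (hBA hbB) with h | h
      · right
        refine ⟨(hB'mem b).mpr ⟨hbB, h⟩, ?_⟩
        intro hmem
        have h2 := ((hB'mem _).mp hmem).2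
        rw [e, hb₀x] at h2
        have e3 : b * x⁻¹ * b⁻¹ = (b * x * b⁻¹)⁻¹ := by group
        rw [e3, h] at h2
        exact hxne h2
      · left
        refine ⟨(hB'mem _).mpr ⟨B.mul_mem hbB hb₀B, ?_⟩, ?_⟩
        · rw [e, hb₀x]
          have e3 : b * x⁻¹ * b⁻¹ = (b * x * b⁻¹)⁻¹ := by group
          rw [e3, h, inv_inv]
        · intro hmem
          have h2 := ((hB'mem _).mp hmem).2
          rw [h] at h2
          exact hxne h2
    have hcard' : Nat.card B' = 2 ^ k := by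
      have h1 := Subgroup.card_mul_index (B'.subgroupOf B)
      rw [hidx, hcard, Nat.card_congr (Subgroup.subgroupOfEquivOfLe hB'B).toEquiv] at h1
      rw [pow_succ] at h1
      exact Nat.eq_of_mul_eq_mul_right (by norm_num) h1
    obtain ⟨as, xs, hprops, hcross, hgen⟩ := ih B' (hB'B.trans hBA) hcard'
      (fun b hb h => hfaith b (hB'B hb) h)
    -- flipping lemma
    have hflip : ∀ T : Finset (Fin k), ∃ b ∈ B', ∀ i,
        (i ∈ T → b * xs i * b⁻¹ = (xs i)⁻¹) ∧ (i ∉ T → b * xs i * b⁻¹ = xs i) := by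
      intro T
      induction T using Finset.induction_on with
      | empty => exact ⟨1, B'.one_mem, fun i => ⟨fun h => absurd h (Finset.notMem_empty i),
          fun _ => by group⟩⟩
      | insert j T hj ihT =>
        obtain ⟨b', hb'B, hb'⟩ := ihT
        refine ⟨as j * b', B'.mul_mem (hprops j).1 hb'B, ?_⟩
        intro i
        have e : (as j * b') * xs i * (as j * b')⁻¹ = as j * (b' * xs i * b'⁻¹) * (as j)⁻¹ := by
          group
        rw [e]
        constructor
        · intro hi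
          rcases Finset.mem_insert.mp hi with rfl | hiT
          · rw [(hb' i).2 hj]
            exact (hprops i).2.2.2.2
          · have hij : j ≠ i := fun h => hj (h ▸ hiT)
            rw [(hb' i).1 hiT]
            have e2 : as j * (xs i)⁻¹ * (as j)⁻¹ = (as j * xs i * (as j)⁻¹)⁻¹ := by group
            rw [e2, hcross j i hij]
        · intro hi
          rw [Finset.mem_insert, not_or] at hi
          rw [(hb' i).2 hi.2]
          exact hcross j i (fun h => hi.1 h.symm)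
    obtain ⟨b, hbB', hb⟩ := hflip (Finset.univ.filter (fun i => b₀ * xs i * b₀⁻¹ = (xs i)⁻¹))
    have hbx : b * x * b⁻¹ = x := ((hB'mem b).mp hbB').2
    -- the new involution
    have ha'x : (b₀ * b) * x * (b₀ * b)⁻¹ = x⁻¹ := by
      have e : (b₀ * b) * x * (b₀ * b)⁻¹ = b₀ * (b * x * b⁻¹) * b₀⁻¹ := by group
      rw [e, hbx, hb₀x]
    have ha'xs : ∀ i, (b₀ * b) * xs i * (b₀ * b)⁻¹ = xs i := by
      intro i
      have e : (b₀ * b) * xs i * (b₀ * b)⁻¹ = b₀ * (b * xs i * b⁻¹) * b₀⁻¹ := by group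
      rw [e]
      by_cases hi : b₀ * xs i * b₀⁻¹ = (xs i)⁻¹
      · rw [(hb i).1 (by simp [hi])]
        have e2 : b₀ * (xs i)⁻¹ * b₀⁻¹ = (b₀ * xs i * b₀⁻¹)⁻¹ := by group
        rw [e2, hi, inv_inv]
      · rw [(hb i).2 (by simp [hi])]
        rcases (hprops i).2.2.2.1 b₀ hb₀A with h | h
        · exact h
        · exact absurd h hi
    have hasx : ∀ i, as i * x * (as i)⁻¹ = x := fun i => ((hB'mem _).mp (hprops i).1).2
    refine ⟨Fin.cons (b₀ * b) as, Fin.cons x xs, ?_, ?_, ?_⟩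
    · intro i
      refine Fin.cases ?_ (fun i => ?_) i
      · simp only [Fin.cons_zero]
        exact ⟨B.mul_mem hb₀B (hB'B hbB'), hxW, hx1, hxeig', ha'x⟩
      · simp only [Fin.cons_succ]
        exact ⟨hB'B (hprops i).1, (hprops i).2.1, (hprops i).2.2.1, (hprops i).2.2.2.1,
          (hprops i).2.2.2.2⟩
    · intro i j
      refine Fin.cases ?_ (fun i => ?_) i <;> refine Fin.cases ?_ (fun j => ?_) j
      · intro h; exact absurd rfl h
      · intro _
        simp only [Fin.cons_zero, Fin.cons_succ]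
        exact ha'xs j
      · intro _
        simp only [Fin.cons_zero, Fin.cons_succ]
        exact hasx i
      · intro h
        simp only [Fin.cons_succ]
        exact hcross i j (fun hij => h (by rw [hij]))
    · rw [Fin.range_cons]
      apply le_antisymm
      · rw [Subgroup.closure_le]
        intro g hg
        rcases hg with rfl | hg
        · exact B.mul_mem hb₀B (hB'B hbB')
        · have : g ∈ Subgroup.closure (Set.range as) := Subgroup.subset_closure hg
          rw [hgen] at this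
          exact hB'B this
      · intro c hc
        have hB'le : B' ≤ Subgroup.closure (insert (b₀ * b) (Set.range as)) := by
          rw [← hgen]
          exact Subgroup.closure_mono (Set.subset_insert _ _)
        have ha'mem : b₀ * b ∈ Subgroup.closure (insert (b₀ * b) (Set.range as)) :=
          Subgroup.subset_closure (Set.mem_insert _ _)
        rcases hxeig' c (hBA hc) with h | h
        · exact hB'le ((hB'mem c).mpr ⟨hc, h⟩)
        · have hmem : (b₀ * b) * c ∈ B' := by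
            refine (hB'mem _).mpr ⟨B.mul_mem (B.mul_mem hb₀B (hB'B hbB')) hc, ?_⟩
            have e : (b₀ * b * c) * x * (b₀ * b * c)⁻¹
                = (b₀ * b) * (c * x * c⁻¹) * (b₀ * b)⁻¹ := by group
            rw [e, h]
            have e2 : (b₀ * b) * x⁻¹ * (b₀ * b)⁻¹ = ((b₀ * b) * x * (b₀ * b)⁻¹)⁻¹ := by group
            rw [e2, ha'x, inv_inv]
          have : c = (b₀ * b)⁻¹ * ((b₀ * b) * c) := by group
          rw [this]
          exact Subgroup.mul_mem _ (Subgroup.inv_mem _ ha'mem) (hB'le hmem)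

end Cfsg.Agent.Lib.Helper23
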