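import Mathlib
import Cfsg.Agent.Lib.Helper23.Eigen
import Cfsg.Agent.Lib.Helper22.Fitting
import Cfsg.Agent.Lib.Helper22.FStar
import Cfsg.Agent.Lib.Helper24.Coprime
import Cfsg.Agent.Lib.Helper10.FittingCent

set_option autoImplicit false

namespace Cfsg.Agent.Lib.Helper23

variable {G : Type*} [Group G]

/-- If the involution `a` normalizes `K` (without involutions) and centralizes a normal
self-centralizing subgroup `N` of `K`, then `a` centralizes `K`. -/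
theorem centralizes_of_centralizes_normal (K N : Subgroup G)
    (hnorm : ∀ g ∈ K, ∀ x ∈ N, g * x * g⁻¹ ∈ N)
    (hC : ∀ c ∈ K, (∀ x ∈ N, c * x * c⁻¹ = x) → c ∈ N)
    (hodd : ∀ c ∈ K, c * c = 1 → c = 1)
    (a : G) (haK : ∀ g ∈ K, a * g * a⁻¹ ∈ K) (haN : ∀ x ∈ N, a * x * a⁻¹ = x)
    (ha2 : a * a = 1) :
    ∀ g ∈ K, a * g * a⁻¹ = g := by
  intro g hg
  have hcK : g⁻¹ * (a * g * a⁻¹) ∈ K := K.mul_mem (K.inv_mem hg) (haK g hg)
  have hcN : g⁻¹ * (a * g * a⁻¹) ∈ N := by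
    apply hC _ hcK
    intro x hx
    have h1 := haN _ (hnorm g hg x hx)
    have h2 := haN x hx
    have h3 : a⁻¹ * x * a = x := by
      calc a⁻¹ * x * a = a⁻¹ * (a * x * a⁻¹) * a := by rw [h2]
        _ = x := by group
    calc g⁻¹ * (a * g * a⁻¹) * x * (g⁻¹ * (a * g * a⁻¹))⁻¹
        = g⁻¹ * (a * (g * (a⁻¹ * x * a) * g⁻¹) * a⁻¹) * g := by group
      _ = g⁻¹ * (a * (g * x * g⁻¹) * a⁻¹) * g := by rw [h3]
      _ = g⁻¹ * (g * x * g⁻¹) * g := by rw [h1]
      _ = x := by group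
  have hac := haN _ hcN
  obtain ⟨c, hc⟩ : ∃ c, c = g⁻¹ * (a * g * a⁻¹) := ⟨_, rfl⟩
  rw [← hc] at hac hcK
  have hag : a * g * a⁻¹ = g * c := by rw [hc]; group
  have h4 : g = g * (c * c) := by
    calc g = (a * a) * g * (a * a)⁻¹ := by rw [ha2]; group
      _ = a * (a * g * a⁻¹) * a⁻¹ := by group
      _ = a * (g * c) * a⁻¹ := by rw [hag]
      _ = (a * g * a⁻¹) * (a * c * a⁻¹) := by group
      _ = g * c * c := by rw [hag, hac]
      _ = g * (c * c) := by group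
  have hcc : c * c = 1 := by
    have h5 : g * (c * c) = g * 1 := by rw [mul_one]; exact h4.symm
    exact mul_left_cancel h5
  have hc1 : c = 1 := hodd c hcK hcc
  rw [hag, hc1, mul_one]

theorem conj_mem_sup_zpowers {W : Subgroup G} {v g : G} (hW : ∀ w ∈ W, g * w * g⁻¹ ∈ W)
    (hv : g * v * g⁻¹ ∈ W ⊔ Subgroup.zpowers v) :
    ∀ y ∈ W ⊔ Subgroup.zpowers v, g * y * g⁻¹ ∈ W ⊔ Subgroup.zpowers v := by
  have h : (W ⊔ Subgroup.zpowers v).map (MulAut.conj g).toMonoidHom ≤ W ⊔ Subgroup.zpowers v := by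
    rw [Subgroup.map_sup, MonoidHom.map_zpowers]
    apply sup_le
    · rintro _ ⟨w, hw, rfl⟩
      exact Subgroup.mem_sup_left (hW w hw)
    · rw [Subgroup.zpowers_le]
      exact hv
  intro y hy
  exact h ⟨y, hy, rfl⟩

/-- In a nilpotent group `F` normalized by an elementary abelian 2-group `A`, a maximal
`A`-invariant abelian normal subgroup is self-centralizing. -/
theorem exists_selfcentralizing [Finite G] (F A : Subgroup G) (hFnil : Group.IsNilpotent ↥F)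
    (hA : ∀ a ∈ A, ∀ b ∈ A, a * b = b * a) (hA2 : ∀ a ∈ A, a * a = 1)
    (hAF : ∀ a ∈ A, ∀ f ∈ F, a * f * a⁻¹ ∈ F) :
    ∃ W : Subgroup G, W ≤ F ∧ (∀ x ∈ W, ∀ y ∈ W, x * y = y * x) ∧
      (∀ f ∈ F, ∀ w ∈ W, f * w * f⁻¹ ∈ W) ∧ (∀ a ∈ A, ∀ w ∈ W, a * w * a⁻¹ ∈ W) ∧
      (∀ c ∈ F, (∀ w ∈ W, c * w * c⁻¹ = w) → c ∈ W) := by
  classical
  let 𝒲 : Set (Subgroup G) := {W | W ≤ F ∧ (∀ x ∈ W, ∀ y ∈ W, x * y = y * x) ∧
      (∀ f ∈ F, ∀ w ∈ W, f * w * f⁻¹ ∈ W) ∧ (∀ a ∈ A, ∀ w ∈ W, a * w * a⁻¹ ∈ W)}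
  have hne : 𝒲.Nonempty := by
    refine ⟨⊥, bot_le, ?_, ?_, ?_⟩
    · intro x hx y hy
      rw [Subgroup.mem_bot] at hx hy
      rw [hx, hy]
    · intro f _ w hw
      rw [Subgroup.mem_bot] at hw ⊢
      rw [hw]; group
    · intro f _ w hw
      rw [Subgroup.mem_bot] at hw ⊢
      rw [hw]; group
  obtain ⟨W, ⟨hWF, hWab, hWF', hWA⟩, hmax⟩ := Set.Finite.exists_maximal (Set.toFinite 𝒲) hne
  refine ⟨W, hWF, hWab, hWF', hWA, ?_⟩
  intro c hcF hcW
  by_contra hcnW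
  -- inverse centralizes too
  have hinvc : ∀ m : G, (∀ w ∈ W, m * w * m⁻¹ = w) → ∀ w ∈ W, m⁻¹ * w * m = w := by
    intro m hm w hw
    calc m⁻¹ * w * m = m⁻¹ * (m * w * m⁻¹) * m := by rw [hm w hw]
      _ = w := by group
  -- step (a): nilpotency gives an element central modulo `W`
  obtain ⟨n, hn⟩ := (Subgroup.isNilpotent_iff_lowerCentralSeries F).mp hFnil
  have hP : ∃ n, ∀ m ∈ F.lowerCentralSeries n, (∀ w ∈ W, m * w * m⁻¹ = w) → m ∈ W := by
    refine ⟨n, ?_⟩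
    rw [hn]
    intro m hm _
    rw [Subgroup.mem_bot] at hm
    rw [hm]; exact W.one_mem
  have h0 : Nat.find hP ≠ 0 := by
    intro h0
    have h := Nat.find_spec hP
    rw [h0, Subgroup.lowerCentralSeries_zero] at h
    exact hcnW (h c hcF hcW)
  obtain ⟨n₁, hn₁⟩ := Nat.exists_eq_succ_of_ne_zero h0
  have hmin : ¬ ∀ m ∈ F.lowerCentralSeries n₁, (∀ w ∈ W, m * w * m⁻¹ = w) → m ∈ W :=
    Nat.find_min hP (by omega)
  have hsucc : ∀ m ∈ F.lowerCentralSeries (n₁ + 1), (∀ w ∈ W, m * w * m⁻¹ = w) → m ∈ W := by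
    have h := Nat.find_spec hP
    rwa [hn₁] at h
  push Not at hmin
  obtain ⟨m₀, hm₀γ, hm₀W, hm₀nW⟩ := hmin
  have hm₀F : m₀ ∈ F := Subgroup.lowerCentralSeries_le_self F n₁ hm₀γ
  have hm₀c : ∀ f ∈ F, m₀ * f * m₀⁻¹ * f⁻¹ ∈ W := by
    intro f hf
    apply hsucc
    · rw [Subgroup.lowerCentralSeries_succ, ← commutatorElement_def]
      exact Subgroup.commutator_mem_commutator hm₀γ hf
    · intro w hw
      have hw1 : f⁻¹ * w * f ∈ W := by
        have := hWF' f⁻¹ (F.inv_mem hf) w hw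
        rwa [inv_inv] at this
      have h2 := hinvc m₀ hm₀W _ hw1
      calc m₀ * f * m₀⁻¹ * f⁻¹ * w * (m₀ * f * m₀⁻¹ * f⁻¹)⁻¹
          = m₀ * (f * (m₀⁻¹ * (f⁻¹ * w * f) * m₀) * f⁻¹) * m₀⁻¹ := by group
        _ = m₀ * (f * (f⁻¹ * w * f) * f⁻¹) * m₀⁻¹ := by rw [h2]
        _ = m₀ * w * m₀⁻¹ := by group
        _ = w := hm₀W w hw
  -- step (b): the subgroup `M` of elements of `C_F(W)` central modulo `W`
  let M : Subgroup G :=
    { carrier := {m | m ∈ F ∧ (∀ w ∈ W, m * w * m⁻¹ = w) ∧ ∀ f ∈ F, m * f * m⁻¹ * f⁻¹ ∈ W}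
      one_mem' := ⟨F.one_mem, fun w _ => by group, fun f _ => by
        have : (1 : G) * f * 1⁻¹ * f⁻¹ = 1 := by group
        rw [this]; exact W.one_mem⟩
      mul_mem' := by
        rintro m m' ⟨hmF, hmW, hmc⟩ ⟨hm'F, hm'W, hm'c⟩
        refine ⟨F.mul_mem hmF hm'F, ?_, ?_⟩
        · intro w hw
          calc m * m' * w * (m * m')⁻¹ = m * (m' * w * m'⁻¹) * m⁻¹ := by group
            _ = w := by rw [hm'W w hw, hmW w hw]
        · intro f hf
          have e : m * m' * f * (m * m')⁻¹ * f⁻¹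
              = (m * (m' * f * m'⁻¹ * f⁻¹) * m⁻¹) * (m * f * m⁻¹ * f⁻¹) := by group
          rw [e]
          exact W.mul_mem (hWF' m hmF _ (hm'c f hf)) (hmc f hf)
      inv_mem' := by
        rintro m ⟨hmF, hmW, hmc⟩
        refine ⟨F.inv_mem hmF, ?_, ?_⟩
        · intro w hw
          have := hinvc m hmW w hw
          rwa [inv_inv]
        · intro f hf
          have e : m⁻¹ * f * m⁻¹⁻¹ * f⁻¹ = m⁻¹ * (m * f * m⁻¹ * f⁻¹)⁻¹ * m⁻¹⁻¹ := by group
          rw [e]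
          exact hWF' _ (F.inv_mem hmF) _ (W.inv_mem (hmc f hf)) }
  have hMmem : ∀ m, m ∈ M ↔ m ∈ F ∧ (∀ w ∈ W, m * w * m⁻¹ = w) ∧
      ∀ f ∈ F, m * f * m⁻¹ * f⁻¹ ∈ W := fun m => Iff.rfl
  have hMF : M ≤ F := fun m hm => ((hMmem m).mp hm).1
  have hainv : ∀ a ∈ A, a⁻¹ = a := fun a ha => inv_eq_of_mul_eq_one_right (hA2 a ha)
  have hAM : ∀ a ∈ A, ∀ m ∈ M, a * m * a⁻¹ ∈ M := by
    intro a ha m hm
    obtain ⟨hmF, hmW, hmc⟩ := (hMmem m).mp hm
    refine (hMmem _).mpr ⟨hAF a ha m hmF, ?_, ?_⟩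
    · intro w hw
      have hw1 : a⁻¹ * w * a ∈ W := by
        have := hWA a⁻¹ (A.inv_mem ha) w hw
        rwa [inv_inv] at this
      calc a * m * a⁻¹ * w * (a * m * a⁻¹)⁻¹ = a * (m * (a⁻¹ * w * a) * m⁻¹) * a⁻¹ := by group
        _ = a * (a⁻¹ * w * a) * a⁻¹ := by rw [hmW _ hw1]
        _ = w := by group
    · intro f hf
      have hf1 : a⁻¹ * f * a ∈ F := by
        have := hAF a⁻¹ (A.inv_mem ha) f hf
        rwa [inv_inv] at this
      have e : a * m * a⁻¹ * f * (a * m * a⁻¹)⁻¹ * f⁻¹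
          = a * (m * (a⁻¹ * f * a) * m⁻¹ * (a⁻¹ * f * a)⁻¹) * a⁻¹ := by group
      rw [e]
      exact hWA a ha _ (hmc _ hf1)
  -- step (c): a common eigenvector modulo `W`
  obtain ⟨v, hvM, hvW, hv⟩ := exists_rel_eigen M W
    (fun u hu w hw => hWF' u (hMF hu) w hw)
    (fun x hx y hy => ((hMmem x).mp hx).2.2 y (hMF hy))
    ⟨m₀, (hMmem m₀).mpr ⟨hm₀F, hm₀W, hm₀c⟩, hm₀nW⟩
    (Set.toFinite (A : Set G)).toFinset
    (fun s hs u hu => hAM s (by simpa using hs) u hu)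
    (fun s hs w hw => hWA s (by simpa using hs) w hw)
    (fun s hs t ht => hA s (by simpa using hs) t (by simpa using ht))
    (fun s hs => hA2 s (by simpa using hs))
  have hv' : ∀ a ∈ A, a * v * a⁻¹ * v⁻¹ ∈ W ∨ a * v * a⁻¹ * v ∈ W := fun a ha =>
    hv a (by simpa using ha)
  obtain ⟨hvF, hvcW, hvc⟩ := (hMmem v).mp hvM
  have hvmem : v ∈ W ⊔ Subgroup.zpowers v :=
    Subgroup.mem_sup_right (Subgroup.mem_zpowers v)
  have hW'mem : W ⊔ Subgroup.zpowers v ∈ 𝒲 := by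
    refine ⟨sup_le hWF (Subgroup.zpowers_le.mpr hvF), ?_, ?_, ?_⟩
    · -- commutativity
      have hcl : W ⊔ Subgroup.zpowers v = Subgroup.closure ((W : Set G) ∪ {v}) := by
        rw [Subgroup.closure_union, Subgroup.closure_eq, Subgroup.zpowers_eq_closure]
      have hle : Subgroup.closure ((W : Set G) ∪ {v})
          ≤ Subgroup.centralizer (Subgroup.closure ((W : Set G) ∪ {v}) : Set G) := by
        rw [Subgroup.centralizer_closure, Subgroup.closure_le]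
        intro s hs
        rw [SetLike.mem_coe, Subgroup.mem_centralizer_iff]
        intro t ht
        have hvw : ∀ w ∈ W, v * w = w * v := fun w hw => by
          have := hvcW w hw
          rwa [mul_inv_eq_iff_eq_mul] at this
        rcases hs with hs | hs <;> rcases ht with ht | ht
        · exact hWab t ht s hs
        · rw [Set.mem_singleton_iff] at ht
          rw [ht]; exact hvw s hs
        · rw [Set.mem_singleton_iff] at hs
          rw [hs]; exact (hvw t ht).symm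
        · rw [Set.mem_singleton_iff] at hs ht
          rw [hs, ht]
      intro x hx y hy
      rw [hcl] at hx hy
      have := hle hx
      rw [Subgroup.mem_centralizer_iff] at this
      exact (this y hy).symm
    · intro f hf
      apply conj_mem_sup_zpowers (hWF' f hf)
      have e : f * v * f⁻¹ = (v * f * v⁻¹ * f⁻¹)⁻¹ * v := by group
      rw [e]
      exact Subgroup.mul_mem _ (Subgroup.mem_sup_left (W.inv_mem (hvc f hf))) hvmem
    · intro a ha
      apply conj_mem_sup_zpowers (hWA a ha)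
      rcases hv' a ha with h | h
      · have e : a * v * a⁻¹ = (a * v * a⁻¹ * v⁻¹) * v := by group
        rw [e]
        exact Subgroup.mul_mem _ (Subgroup.mem_sup_left h) hvmem
      · have e : a * v * a⁻¹ = (a * v * a⁻¹ * v) * v⁻¹ := by group
        rw [e]
        exact Subgroup.mul_mem _ (Subgroup.mem_sup_left h) (Subgroup.inv_mem _ hvmem)
  exact hvW (hmax hW'mem le_sup_left hvmem)

/-- The Fitting subgroup of a solvable subgroup `L`, as a subgroup of `G`. -/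
theorem exists_fitting_in [Finite G] (L : Subgroup G) (hLs : Group.IsSolvable ↥L) :
    ∃ F : Subgroup G, F ≤ L ∧ Group.IsNilpotent ↥F ∧
      (∀ g ∈ Subgroup.normalizer (L : Set G), ∀ f ∈ F, g * f * g⁻¹ ∈ F) ∧
      (∀ c ∈ L, (∀ f ∈ F, c * f * c⁻¹ = f) → c ∈ F) := by
  refine ⟨(Cfsg.fittingSubgroup ↥L).map L.subtype, Subgroup.map_subtype_le _, ?_, ?_, ?_⟩
  · have h1 : Group.IsNilpotent ↥(Cfsg.fittingSubgroup ↥L) :=
      Cfsg.Agent.Lib.Helper22.fittingSubgroup_isNilpotent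
    exact (Group.isNilpotent_congr (Subgroup.equivMapOfInjective _ L.subtype
      L.subtype_injective)).mp h1
  · have : (Cfsg.fittingSubgroup ↥L).Characteristic :=
      Cfsg.Agent.Lib.Helper22.fittingSubgroup_characteristic
    exact Cfsg.Agent.Lib.Helper24.conj_mem_map_of_characteristic L (Cfsg.fittingSubgroup ↥L)
  · intro c hcL hc
    have hmem : (⟨c, hcL⟩ : ↥L) ∈ Subgroup.centralizer (Cfsg.fittingSubgroup ↥L : Set ↥L) := by
      rw [Subgroup.mem_centralizer_iff]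
      intro h hh
      have h1 := hc (h : G) ⟨h, hh, rfl⟩
      rw [mul_inv_eq_iff_eq_mul] at h1
      apply Subtype.ext
      simp only [Subgroup.coe_mul]
      exact h1.symm
    exact ⟨⟨c, hcL⟩, Cfsg.Agent.Lib.Helper10.centralizer_fitting_le hmem, rfl⟩

end Cfsg.Agent.Lib.Helper23
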