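import Cfsg.Agent.Lib.Helper47.FLDefs

set_option autoImplicit false

/-! # FL hive (S2863, helper47): leaf FL-MODFREE `mod_free` -/

namespace Cfsg.Agent.Lib.Helper47.FL

section mod

variable {X : Type*} [Group X] {V : Type*} [AddCommGroup V] {ρ : X →* AddMonoid.End V}
  {P : Subgroup X}

/-- a vector fixed by `y` and `y'` is fixed by every element of `⟨y, y'⟩`. -/
theorem modfree_closure_fix {y y' : X} {w : V} (h1 : ρ y w = w) (h2 : ρ y' w = w) {n : X}
    (hn : n ∈ Subgroup.closure ({y, y'} : Set X)) : ρ n w = w := by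
  induction hn using Subgroup.closure_induction with
  | mem x hx =>
    rcases hx with rfl | hx
    · exact h1
    · rw [Set.mem_singleton_iff] at hx
      subst hx
      exact h2
  | one => exact rho_one ρ w
  | mul a b _ _ iha ihb => rw [rho_mul, ihb, iha]
  | inv a _ iha =>
    have := rho_inv_cancel ρ a w
    rwa [iha] at this

/-- LEAF MOD-FREE. -/
theorem mod_free (h : ModSetup ρ P) {g : X} (hg : cj g P ≠ P) {y y' n : X} (hy : y ∈ P)
    (hy' : y' ∈ cj g P) (hn : n ∈ Subgroup.closure ({y, y'} : Set X))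
    (hnP : cj n (cj g P) = P) : ∀ v : V, ρ y v = v → v ∈ fx ρ P := by
  intro v hv
  obtain ⟨v1, hv1, v2, hv2, rfl⟩ := h.span g hg v
  have e1 : ρ y v1 = v1 := hv1 y hy
  have e2 : ρ y v2 = v2 := by
    rw [map_add, e1] at hv
    exact add_left_cancel hv
  have e3 : ρ y' v2 = v2 := hv2 y' hy'
  have e4 : ρ n v2 = v2 := modfree_closure_fix e2 e3 hn
  have e5 : v2 ∈ fx ρ P := by
    have := rho_mem_fx_cj (g := n) hv2
    rwa [hnP, e4] at this
  have e6 : v2 = 0 := h.disj g hg v2 e5 hv2
  rw [e6, add_zero]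
  exact hv1

end mod

end Cfsg.Agent.Lib.Helper47.FL
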