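import Cfsg.Agent.Lib.Helper23.FitUniqueB

set_option autoImplicit false
set_option linter.style.haveILetI false
set_option linter.unusedSectionVars false

/-!
# The extremal argument for the Fitting-overgroup uniqueness theorem

For a prime `p` and `n = |F(H)|`, `sigmaSet p n` is the set of primes that do not divide `n` or are
equal to `p`; `O_σ(K)` for `σ = sigmaSet p n` plays the role of `O_{(π - p)'}(K)`.
-/

namespace Cfsg.Agent.Lib.Helper23

open Subgroup Cfsg Cfsg.Agent.Lib.Helper33 Cfsg.Agent.Lib.Helper24 Cfsg.Agent.Lib.Helper32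

universe u

/-- the primes `q` with `q ∣ n → q = p` -/
def sigmaSet (p n : ℕ) : Set ℕ := {q | q.Prime ∧ (q ∣ n → q = p)}

section sigma

variable {G : Type u} [Group G] [Finite G]

theorem pCoreOf_le_piCoreOf_sigma (p n : ℕ) [Fact p.Prime] (K : Subgroup G) :
    pCoreOf p K ≤ piCoreOf (sigmaSet p n) K := by
  apply le_piCoreOf (pCoreOf_le p K) (le_normalizer_pCoreOf p K)
  intro d hd hdd
  obtain ⟨k, hk⟩ := IsPGroup.iff_card.mp (isPGroup_pCoreOf p K)
  rw [hk] at hdd
  have : d = p := (Nat.prime_dvd_prime_iff_eq hd Fact.out).mp (hd.dvd_of_dvd_pow hdd)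
  exact ⟨hd, fun _ => this⟩

theorem coprime_card_piCoreOf_sigma {p n q : ℕ} (hq : q.Prime) (hqn : q ∣ n) (hqp : q ≠ p)
    (K : Subgroup G) : (Nat.card ↥(piCoreOf (sigmaSet p n) K)).Coprime q := by
  apply Nat.Coprime.symm
  rw [Nat.Prime.coprime_iff_not_dvd hq]
  intro hd
  exact hqp ((isPi_piCoreOf (sigmaSet p n) K q hq hd).2 hqn)

theorem piCoreOf_sigma_inf_le {p n : ℕ} {K₁ K₂ : Subgroup G}
    (h : ∀ q : ℕ, q.Prime → q ∣ n → q ≠ p →
      piCoreOf (sigmaSet p n) K₁ ⊓ K₂ ≤ pPrimeCoreOf q K₂) :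
    piCoreOf (sigmaSet p n) K₁ ⊓ K₂ ≤ piCoreOf (sigmaSet p n) K₂ := by
  obtain ⟨N, hN⟩ : ∃ N : Subgroup G, N = K₂ ⊓
      ⨅ (q : {q : ℕ // q.Prime ∧ q ∣ n ∧ q ≠ p}), pPrimeCoreOf q.1 K₂ := ⟨_, rfl⟩
  have h1 : piCoreOf (sigmaSet p n) K₁ ⊓ K₂ ≤ N := by
    rw [hN]
    exact le_inf inf_le_right (le_iInf fun q => h q.1 q.2.1 q.2.2.1 q.2.2.2)
  have h2 : N ≤ piCoreOf (sigmaSet p n) K₂ := by
    apply le_piCoreOf
    · rw [hN]; exact inf_le_left
    · rw [hN]
      exact le_normalizer_inf' le_normalizer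
        (le_normalizer_iInf' fun q => le_normalizer_pPrimeCoreOf q.1 K₂)
    · intro d hd hdN
      refine ⟨hd, fun hdn => ?_⟩
      by_contra hdp
      have h3 : N ≤ pPrimeCoreOf d K₂ := by
        rw [hN]
        exact inf_le_right.trans
          (iInf_le (fun q : {q : ℕ // q.Prime ∧ q ∣ n ∧ q ≠ p} => pPrimeCoreOf q.1 K₂)
            ⟨d, hd, hdn, hdp⟩)
      have hc := card_pPrimeCoreOf_coprime d K₂
      exact (Nat.Prime.coprime_iff_not_dvd hd).mp hc.symm
        (hdN.trans (Subgroup.card_dvd_of_le h3))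
  exact h1.trans h2

end sigma

namespace FitUCtx

variable {G : Type u} [Group G] [Finite G] {H M : Subgroup G} (c : FitUCtx H M)
include c

/-- `O_{p'}(O_σ(K)) = 1` for `K ≥ M` -/
theorem pPrimeCoreOf_piCoreOf_sigma_eq_bot {K : Subgroup G} (hMK : M ≤ K) (p : ℕ) :
    pPrimeCoreOf p (piCoreOf (sigmaSet p (Nat.card (fittingOf H))) K) = ⊥ := by
  apply c.eq_bot_of_invariant
  · exact (hMK.trans (le_normalizer_piCoreOf _ K)).trans
      (normalizer_le_normalizer_pPrimeCoreOf p _)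
  · intro d hd hdd hdn
    have h1 : d ∣ Nat.card ↥(piCoreOf (sigmaSet p (Nat.card (fittingOf H))) K) :=
      hdd.trans (Subgroup.card_dvd_of_le (pPrimeCoreOf_le p _))
    have h2 : d = p := (isPi_piCoreOf _ K d hd h1).2 hdn
    subst h2
    exact (Nat.Prime.coprime_iff_not_dvd hd).mp (card_pPrimeCoreOf_coprime d _).symm hdd

/-- **The extremal argument.** A maximal subgroup `L ≠ H` containing `M` with `|H ∩ L|` as large as
possible cannot exist. -/
theorem false_of_max {L : Subgroup G} (hL : IsCoatom L) (hML : M ≤ L) (hLH : L ≠ H)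
    (hmax : ∀ K : Subgroup G, IsCoatom K → M ≤ K → K ≠ H →
      Nat.card ↥(H ⊓ K : Subgroup G) ≤ Nat.card ↥(H ⊓ L : Subgroup G)) : False := by
  obtain ⟨p, hpp, hpn, -⟩ := c.exists_prime_ne' 0
  haveI : Fact p.Prime := ⟨hpp⟩
  haveI := c.hG.2.1
  obtain ⟨n, hn⟩ : ∃ n, n = Nat.card (fittingOf H) := ⟨_, rfl⟩
  have hp2 : p ≠ 2 := ne_two_of_dvd_card_subgroup c.hG hpn
  obtain ⟨U, hU⟩ : ∃ U, U = piCoreOf (sigmaSet p (Nat.card (fittingOf H))) H := ⟨_, rfl⟩
  obtain ⟨T, hT⟩ : ∃ T, T = piCoreOf (sigmaSet p (Nat.card (fittingOf H))) L := ⟨_, rfl⟩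
  have hUH : U ≤ H := hU ▸ piCoreOf_le _ H
  have hHU : H ≤ normalizer (U : Set G) := hU ▸ le_normalizer_piCoreOf _ H
  have hTL : T ≤ L := hT ▸ piCoreOf_le _ L
  have hLT : L ≤ normalizer (T : Set G) := hT ▸ le_normalizer_piCoreOf _ L
  have hpL : p ∣ Nat.card (fittingOf L) := c.dvd_card_fittingOf_L hL hML hpn
  -- transfer in both directions
  have hUL : U ⊓ L ≤ T := by
    rw [hU, hT]
    apply piCoreOf_sigma_inf_le
    intro q hq hqn hqp
    haveI : Fact q.Prime := ⟨hq⟩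
    exact gold c.hG c.hH hqn hL.1 ((c.zPart_le_M q).trans hML) (piCoreOf_le _ H)
      (le_normalizer_piCoreOf _ H) (coprime_card_piCoreOf_sigma hq hqn hqp H)
  have hTH : T ⊓ H ≤ U := by
    rw [hU, hT]
    apply piCoreOf_sigma_inf_le
    intro q hq hqn hqp
    haveI : Fact q.Prime := ⟨hq⟩
    have hqL : q ∣ Nat.card (fittingOf L) := c.dvd_card_fittingOf_L hL hML hqn
    exact gold c.hG hL hqL c.hH.1
      ((zPart_le_fittingOf q L).trans (c.fittingOf_le_H hL.1 hML)) (piCoreOf_le _ L)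
      (le_normalizer_piCoreOf _ L) (coprime_card_piCoreOf_sigma hq hqn hqp L)
  have hUcore : pPrimeCoreOf p U = ⊥ := hU ▸ c.pPrimeCoreOf_piCoreOf_sigma_eq_bot c.M_le_H p
  have hTcore : pPrimeCoreOf p T = ⊥ := hT ▸ c.pPrimeCoreOf_piCoreOf_sigma_eq_bot hML p
  have hUtop : U ≠ ⊤ := fun h => c.hH.1 (top_le_iff.mp (h ▸ hUH))
  have hTtop : T ≠ ⊤ := fun h => hL.1 (top_le_iff.mp (h ▸ hTL))
  -- the intersection `V`
  obtain ⟨V, hV⟩ : ∃ V, V = U ⊓ L := ⟨_, rfl⟩
  have hVU : V ≤ U := hV ▸ inf_le_left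
  have hVL : V ≤ L := hV ▸ inf_le_right
  have hVT : V ≤ T := hV ▸ hUL
  have hTHV : T ⊓ H ≤ V := hV ▸ le_inf hTH (inf_le_left.trans hTL)
  have hVtop : V ≠ ⊤ := fun h => hL.1 (top_le_iff.mp (h ▸ hVL))
  have hQH : pCoreOf p L ≤ H := c.pCoreOf_le_H hL.1 hML p
  have hQT : pCoreOf p L ≤ T := hT ▸ pCoreOf_le_piCoreOf_sigma p _ L
  have hQV : pCoreOf p L ≤ V := (le_inf hQT hQH).trans hTHV
  have hRL : pCoreOf p T ≤ pCoreOf p L := by
    have h1 : L ≤ normalizer ((pCoreOf p T : Subgroup G) : Set G) :=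
      hLT.trans (Cfsg.Agent.Lib.Helper47.normalizer_le_normalizer_pCoreOf p T)
    exact Cfsg.Agent.Lib.Helper47.le_pCoreOf ((pCoreOf_le p T).trans hTL) h1
      (isPGroup_pCoreOf p T)
  have hVcore : pPrimeCoreOf p V = ⊥ :=
    pPrimeCoreOf_eq_bot_of_pCoreOf_le (isSolvable_of_ne_top c.hG hTtop) hTcore hVT
      (hRL.trans hQV)
  -- a Sylow `p`-subgroup of `V`
  obtain ⟨S, hSV, hS, hSi⟩ := exists_sylowIn (p := p) V
  have hS1 : S ≠ ⊥ := sylowIn_ne_bot hSi hQV (isPGroup_pCoreOf p L) (pCoreOf_ne_bot_of_dvd hpL)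
  have hZ1 : centerThompsonAOf S ≠ ⊥ := centerThompsonAOf_ne_bot hS hS1
  have hZS : centerThompsonAOf S ≤ S := centerThompsonAOf_le S
  have hSU : S ≤ U := hSV.trans hVU
  have hST : S ≤ T := hSV.trans hVT
  -- Lemma A
  have hA_U : ¬ p ∣ S.relIndex U → normalizer ((centerThompsonAOf S : Subgroup G) : Set G) = H := by
    intro hSiU
    have hUZ := le_normalizer_centerThompsonAOf hp2 (isSolvable_of_ne_top c.hG hUtop)
      (odd_card_subgroup c.hG U) ((pPrimeCore_eq_bot_iff p U).mpr hUcore) hSU hS hSiU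
    have hHZ := le_normalizer_centerThompsonAOf_of_frattini hHU hSU hS hSiU hUZ
    exact normalizer_eq_of_isCoatom c.hG c.hH hZ1 ((hZS.trans hSU).trans hUH) hHZ
  have hA_T : ¬ p ∣ S.relIndex T → normalizer ((centerThompsonAOf S : Subgroup G) : Set G) = L := by
    intro hSiT
    have hTZ := le_normalizer_centerThompsonAOf hp2 (isSolvable_of_ne_top c.hG hTtop)
      (odd_card_subgroup c.hG T) ((pPrimeCore_eq_bot_iff p T).mpr hTcore) hST hS hSiT
    have hLZ := le_normalizer_centerThompsonAOf_of_frattini hLT hST hS hSiT hTZ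
    exact normalizer_eq_of_isCoatom c.hG hL hZ1 ((hZS.trans hST).trans hTL) hLZ
  -- Lemma B
  have hB : ∀ X : Subgroup G, S ≤ X → (∀ x ∈ X, x ∈ normalizer (S : Set G) → x ∈ V) →
      ¬ p ∣ S.relIndex X := by
    intro X hSX hX hdvd
    obtain ⟨x, hxX, hxN, hxS, hxp⟩ := exists_normalizing_of_dvd_relIndex hSX hS hdvd
    have hxV : x ∈ V := hX x hxX hxN
    have h1 : S ⊔ Subgroup.zpowers x = S :=
      sylowIn_max hSi le_sup_left (sup_le hSV (by rw [Subgroup.zpowers_le]; exact hxV)) hxp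
    apply hxS
    rw [← h1]
    exact le_sup_right (a := S) (Subgroup.mem_zpowers x)
  have hNS := normalizer_le_normalizer_centerThompsonAOf S
  by_cases hdU : p ∣ S.relIndex U
  · by_cases hdT : p ∣ S.relIndex T
    · -- neither: a third maximal subgroup
      obtain ⟨x, hxU, hxN, hxS, hxp⟩ := exists_normalizing_of_dvd_relIndex hSU hS hdU
      obtain ⟨y, hyT, hyN, hyS, hyp⟩ := exists_normalizing_of_dvd_relIndex hST hS hdT
      have hxL : x ∉ L := by
        intro hxL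
        have hxV : x ∈ V := hV ▸ ⟨hxU, hxL⟩
        have h1 : S ⊔ Subgroup.zpowers x = S :=
          sylowIn_max hSi le_sup_left (sup_le hSV (by rw [Subgroup.zpowers_le]; exact hxV)) hxp
        apply hxS
        rw [← h1]
        exact le_sup_right (a := S) (Subgroup.mem_zpowers x)
      have hyH : y ∉ H := by
        intro hyH
        have hyV : y ∈ V := hTHV ⟨hyT, hyH⟩
        have h1 : S ⊔ Subgroup.zpowers y = S :=
          sylowIn_max hSi le_sup_left (sup_le hSV (by rw [Subgroup.zpowers_le]; exact hyV)) hyp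
        apply hyS
        rw [← h1]
        exact le_sup_right (a := S) (Subgroup.mem_zpowers y)
      have hZtop : centerThompsonAOf S ≠ ⊤ := by
        intro h
        exact c.hH.1 (top_le_iff.mp (h ▸ ((hZS.trans hSU).trans hUH)))
      have hNtop := normalizer_ne_top_of_simple hZ1 hZtop
      obtain ⟨K, hK, hNK⟩ := (eq_top_or_exists_le_coatom
        (normalizer ((centerThompsonAOf S : Subgroup G) : Set G))).resolve_left hNtop
      have hKH : K ≠ H := by
        rintro rfl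
        exact hyH (hNK (hNS hyN))
      have hVZ := le_normalizer_centerThompsonAOf hp2 (isSolvable_of_ne_top c.hG hVtop)
        (odd_card_subgroup c.hG V) ((pPrimeCore_eq_bot_iff p V).mpr hVcore) hSV hS hSi
      have hHLV : H ⊓ L ≤ normalizer (V : Set G) := by
        rw [hV]
        exact le_normalizer_inf' (inf_le_left.trans hHU) (inf_le_right.trans le_normalizer)
      have hHLZ := le_normalizer_centerThompsonAOf_of_frattini hHLV hSV hS hSi hVZ
      have hMK : M ≤ K := ((le_inf c.M_le_H hML).trans hHLZ).trans hNK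
      have hlt : H ⊓ L < H ⊓ K := by
        refine lt_of_le_of_ne (le_inf inf_le_left (hHLZ.trans hNK)) ?_
        intro heq
        have hx1 : x ∈ H ⊓ K := ⟨hUH hxU, hNK (hNS hxN)⟩
        rw [← heq] at hx1
        exact hxL hx1.2
      have h1 := card_lt_of_lt' hlt
      have h2 := hmax K hK hMK hKH
      omega
    · -- `S` is Sylow in `T`
      have hNL := hA_T hdT
      have h1 : ¬ p ∣ S.relIndex U := by
        apply hB U hSU
        intro x hxU hxN
        have hxL : x ∈ L := hNL ▸ hNS hxN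
        exact hV ▸ ⟨hxU, hxL⟩
      exact hLH ((hNL.symm).trans (hA_U h1))
  · -- `S` is Sylow in `U`
    have hNH := hA_U hdU
    have h1 : ¬ p ∣ S.relIndex T := by
      apply hB T hST
      intro x hxT hxN
      have hxH : x ∈ H := hNH ▸ hNS hxN
      exact hTHV ⟨hxT, hxH⟩
    exact hLH ((hA_T h1).symm.trans hNH)

/-- **Uniqueness.** `H` is the only maximal subgroup of `G` containing `M`. -/
theorem eq_of_isCoatom {L : Subgroup G} (hL : IsCoatom L) (hML : M ≤ L) : L = H := by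
  by_contra hne
  obtain ⟨s, hs⟩ : ∃ s : Set (Subgroup G), s = {K | IsCoatom K ∧ M ≤ K ∧ K ≠ H} := ⟨_, rfl⟩
  have hne' : s.Nonempty := ⟨L, by rw [hs]; exact ⟨hL, hML, hne⟩⟩
  obtain ⟨L₀, hL₀, hmax⟩ := Set.exists_max_image s
    (fun K => Nat.card ↥(H ⊓ K : Subgroup G)) (Set.toFinite s) hne'
  rw [hs] at hL₀
  exact c.false_of_max hL₀.1 hL₀.2.1 hL₀.2.2
    (fun K hK hMK hKH => hmax K (by rw [hs]; exact ⟨hK, hMK, hKH⟩))

end FitUCtx

end Cfsg.Agent.Lib.Helper23
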