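import Cfsg.Agent.Lib.Helper23.LargeFitA
import Cfsg.Agent.S1393

set_option autoImplicit false
set_option linter.style.haveILetI false
set_option linter.unusedSectionVars false

/-!
# Maximal subgroups with a large Fitting subgroup: the case where `F(M)` is not a `p`-group
-/

namespace Cfsg.Agent.Lib.Helper23

open Subgroup Cfsg Cfsg.Agent.Lib.Helper33 Cfsg.Agent.Lib.Helper24 Cfsg.Agent.Lib.Helper32

universe u

section a

variable {G : Type u} [Group G] [Finite G]

/-- an elementary abelian group is a `p`-group -/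
theorem isPGroup_of_isElementaryAbelian {p : ℕ} {A : Subgroup G} (h : IsElementaryAbelian p A) :
    IsPGroup p A := by
  intro a
  refine ⟨1, ?_⟩
  apply Subtype.ext
  rw [pow_one]
  simpa using h.2 a a.2

theorem le_centralizer_self_of_isMulCommutative {A : Subgroup G} (h : IsMulCommutative A) :
    A ≤ centralizer (A : Set G) := by
  intro a ha
  rw [mem_centralizer_iff]
  intro b hb
  exact congrArg Subtype.val (h.is_comm.comm ⟨b, hb⟩ ⟨a, ha⟩)

/-- a maximal subgroup of a minimal simple group is a maximal local subgroup -/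
theorem isCoatom_local_max (hG : IsMinSimpleOddOrder G) {M : Subgroup G} (hM : IsCoatom M) :
    ∀ L : Subgroup G, IsLocalSubgroup L → M ≤ L → L = M := by
  haveI := hG.2.1
  rintro L ⟨r, T, hr, hT, hT0, rfl⟩ hML
  haveI : Fact r.Prime := ⟨hr⟩
  have hT1 : T ≠ ⊤ := by
    rintro rfl
    exact not_isPGroup_top hG r hT
  have hN := normalizer_ne_top_of_simple hT0 hT1
  by_contra hne
  exact hN (hM.2 _ (lt_of_le_of_ne hML (Ne.symm hne)))

/-- `p ∣ |A|` for a `p`-group of order at least `p ^ 3` -/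
theorem dvd_card_of_pow_le {p : ℕ} [Fact p.Prime] {A : Subgroup G} (hA : IsPGroup p A)
    (h3 : p ^ 3 ≤ Nat.card A) : p ∣ Nat.card A := by
  have hp : p.Prime := Fact.out
  obtain ⟨k, hk⟩ := IsPGroup.iff_card.mp hA
  have hk0 : k ≠ 0 := by
    rintro rfl
    rw [pow_zero] at hk
    rw [hk] at h3
    have : 1 < p ^ 3 := Nat.one_lt_pow (by norm_num) hp.one_lt
    omega
  rw [hk]
  exact dvd_pow_self p hk0

/-- a group that is not a `p`-group has a prime divisor different from `p` -/
theorem exists_prime_ne_of_not_isPGroup {p : ℕ} [Fact p.Prime] {F : Subgroup G}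
    (h : ¬ IsPGroup p F) : ∃ r : ℕ, r.Prime ∧ r ∣ Nat.card F ∧ r ≠ p := by
  by_contra hcon
  push Not at hcon
  apply h
  have hne : Nat.card F ≠ 0 := Nat.card_pos.ne'
  have := Nat.eq_prime_pow_of_unique_prime_dvd hne (fun {d} hd hdvd => hcon d hd hdvd)
  exact IsPGroup.of_card this

theorem two_le_card_primeFactors {n p r : ℕ} (hp : p.Prime) (hr : r.Prime) (hpn : p ∣ n)
    (hrn : r ∣ n) (hn : n ≠ 0) (hrp : r ≠ p) : 2 ≤ n.primeFactors.card := by
  have hsub : ({p, r} : Finset ℕ) ⊆ n.primeFactors := by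
    intro x hx
    rw [Finset.mem_insert, Finset.mem_singleton] at hx
    rcases hx with rfl | rfl
    · exact Nat.mem_primeFactors.mpr ⟨hp, hpn, hn⟩
    · exact Nat.mem_primeFactors.mpr ⟨hr, hrn, hn⟩
  have h2 : ({p, r} : Finset ℕ).card = 2 := Finset.card_pair (Ne.symm hrp)
  rw [← h2]
  exact Finset.card_le_card hsub

/-- **Case (a).** -/
theorem inUniqueMaximal_of_not_isPGroup (hG : IsMinSimpleOddOrder G) {M : Subgroup G}
    (hM : IsCoatom M) {p : ℕ} [Fact p.Prime] {A₀ : Subgroup G} (hA₀ : A₀ ≤ fittingOf M)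
    (hA₀e : IsElementaryAbelian p A₀) (hA₀3 : p ^ 3 ≤ Nat.card A₀)
    (hnp : ¬ IsPGroup p ↥(fittingOf M)) :
    InUniqueMaximal (fittingOf M ⊓ centralizer (A₀ : Set G)) := by
  haveI := hG.2.1
  have hpp : p.Prime := Fact.out
  obtain ⟨F, hF⟩ : ∃ F, F = fittingOf M := ⟨_, rfl⟩
  obtain ⟨X, hX⟩ : ∃ X, X = fittingOf M ⊓ centralizer (A₀ : Set G) := ⟨_, rfl⟩
  rw [← hX]
  have hXF : X ≤ fittingOf M := hX ▸ inf_le_left
  have hFM : fittingOf M ≤ M := fittingOf_le M
  have hMtop : M ≠ ⊤ := hM.1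
  have hMs : Group.IsSolvable ↥M := isSolvable_of_ne_top hG hMtop
  have hA₀p : IsPGroup p A₀ := isPGroup_of_isElementaryAbelian hA₀e
  have hA₀c : A₀ ≤ centralizer (A₀ : Set G) := le_centralizer_self_of_isMulCommutative hA₀e.1
  have hA₀X : A₀ ≤ X := hX ▸ le_inf hA₀ hA₀c
  have hCM : fittingOf M ⊓ centralizer (X : Set G) ≤ X := by
    rw [hX]
    exact le_inf inf_le_left (inf_le_right.trans (centralizer_le (hX ▸ hA₀X)))
  have hpF : p ∣ Nat.card (fittingOf M) :=
    (dvd_card_of_pow_le hA₀p hA₀3).trans (card_dvd_of_le hA₀)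
  obtain ⟨r, hr, hrF, hrp⟩ := exists_prime_ne_of_not_isPGroup hnp
  have hF2 : 2 ≤ (Nat.card (fittingOf M)).primeFactors.card :=
    two_le_card_primeFactors hpp hr hpF hrF Nat.card_pos.ne' hrp
  have c : MaxLocalCtx M X := ⟨isCoatom_local_max hG hM, hF2, hXF, hCM⟩
  -- `Z(F) ≤ X`
  have hZF : fittingOf M ⊓ centralizer (fittingOf M : Set G) ≤ X := by
    rw [hX]
    exact le_inf inf_le_left (inf_le_right.trans (centralizer_le hA₀))
  have hCMF : M ⊓ centralizer (fittingOf M : Set G) ≤ X := by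
    have h1 := centralizer_fittingOf_inf_le (H := M) (S := M) hMs
      (inf_le_left.trans le_normalizer)
    refine le_trans ?_ hZF
    refine le_inf ?_ inf_le_right
    exact le_trans (le_inf le_rfl inf_le_left) h1
  -- primes
  have hprimes : ∀ q : ℕ, q.Prime → q ∣ Nat.card (fittingOf M) → q ∣ Nat.card X := by
    intro q hq hqF
    haveI : Fact q.Prime := ⟨hq⟩
    have h1 : zPart q M ≤ X := by
      refine le_trans ?_ hZF
      exact le_inf (inf_le_left.trans (pCoreOf_le_fittingOf q M)) inf_le_right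
    have h2 : zPart q M ≠ ⊥ := zPart_ne_bot hqF
    obtain ⟨k, hk⟩ := IsPGroup.iff_card.mp (isPGroup_zPart q M)
    have hk0 : k ≠ 0 := by
      rintro rfl
      rw [pow_zero] at hk
      exact h2 (Subgroup.card_eq_one.mp hk)
    have h3 : q ∣ Nat.card (zPart q M) := by rw [hk]; exact dvd_pow_self q hk0
    exact h3.trans (card_dvd_of_le h1)
  have hπ : primesNotDvd (Nat.card X) = primesNotDvd (Nat.card (fittingOf M)) := by
    ext q
    constructor
    · rintro ⟨hq, hqX⟩
      exact ⟨hq, fun h => hqX (hprimes q hq h)⟩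
    · rintro ⟨hq, hqF⟩
      exact ⟨hq, fun h => hqF (h.trans (card_dvd_of_le hXF))⟩
  have hX0 : X ≠ ⊥ := by
    rintro rfl
    have h1 : A₀ = ⊥ := le_bot_iff.mp hA₀X
    have h2 := dvd_card_of_pow_le hA₀p hA₀3
    rw [h1, Subgroup.card_bot] at h2
    exact hpp.one_lt.ne' (Nat.dvd_one.mp h2)
  have hXM : X ≤ M := hXF.trans hFM
  have hX1 : X ≠ ⊤ := by
    rintro rfl
    exact hMtop (top_le_iff.mp hXM)
  -- the transitivity hypothesis
  have hTrans : TransitivityHypothesis X := by
    refine ⟨hX0, hX1, ?_⟩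
    intro R hR hXR
    rw [hπ]
    have hRs : Group.IsSolvable ↥R := isSolvable_of_ne_top hG hR
    apply le_antisymm
    · apply sSup_le
      intro Y hY
      apply c.le_piCoreOf_of_invariant hRs (hXR.trans le_normalizer)
        ((hCMF.trans hXR).trans le_normalizer) hY.1 hY.2.2
      apply Nat.Coprime.symm
      apply Nat.coprime_of_dvd
      intro k hk hkF hkY
      exact (hY.2.1 k hk hkY).2 hkF
    · apply le_sSup
      exact ⟨piCoreOf_le _ _, isPi_piCoreOf _ _, hXR.trans (le_normalizer_piCoreOf _ _)⟩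
  -- rank
  have hA₀Z : A₀ ≤ X ⊓ centralizer (X : Set G) := by
    refine le_inf hA₀X ?_
    rw [le_centralizer_iff]
    rw [hX]
    exact inf_le_right
  have hrank : ¬ RankLE 2 ↥(X ⊓ centralizer (X : Set G)) := by
    intro hrk
    have h1 := hrk p hpp (A₀.subgroupOf (X ⊓ centralizer (X : Set G))) ?_ ?_
    · rw [Nat.card_congr (Subgroup.subgroupOfEquivOfLe hA₀Z).toEquiv] at h1
      have h2 : p ^ 2 < p ^ 3 := Nat.pow_lt_pow_right hpp.one_lt (by norm_num)
      omega
    · refine ⟨⟨fun a b => ?_⟩⟩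
      apply Subtype.ext
      apply Subtype.ext
      have := hA₀e.1.is_comm.comm ⟨(a : ↥(X ⊓ centralizer (X : Set G))).1, a.2⟩
        ⟨(b : ↥(X ⊓ centralizer (X : Set G))).1, b.2⟩
      simpa using congrArg Subtype.val this
    · intro a ha
      apply Subtype.ext
      have := hA₀e.2 (a : G) ha
      simpa using this
  -- the centralizer of `X` is solvable and its core is trivial
  have hNX : normalizer (X : Set G) ≠ ⊤ := normalizer_ne_top_of_simple hX0 hX1
  have hCX : centralizer (X : Set G) ≠ ⊤ := by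
    intro h
    apply hNX
    rw [eq_top_iff, ← h]
    exact centralizer_le_normalizer _
  have hCXs : Group.IsSolvable ↥(centralizer (X : Set G)) := isSolvable_of_ne_top hG hCX
  have hKbot : piCoreOf (primesNotDvd (Nat.card X)) (centralizer (X : Set G)) = ⊥ := by
    rw [hπ]
    have h1 := c.piCoreOf_inf_centralizer_eq_bot hCXs
      (hCMF.trans (le_normalizer_centralizer' le_normalizer))
    rw [← h1]
    exact (inf_of_le_left (piCoreOf_le _ _)).symm
  -- invariant subgroups of prime power order are trivial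
  have hprime : ∀ q : ℕ, q.Prime → ¬ q ∣ Nat.card (fittingOf M) → ∀ Q : Subgroup G,
      IsPGroup q Q → X ≤ normalizer (Q : Set G) → Q = ⊥ := by
    intro q hq hqF Q hQ hXQ
    haveI : Fact q.Prime := ⟨hq⟩
    have hqX : ¬ q ∣ Nat.card X := fun h => hqF (h.trans (card_dvd_of_le hXF))
    have hconj := Cfsg.Agent.S1393.result hG X hTrans hrank q hq hqX
    obtain ⟨Q₀, hQ₀⟩ := exists_uniqMax_of_conj hKbot hconj
    have hQ₀F : UniqMax q (fittingOf M) Q₀ := hQ₀.of_nilpotent (isNilpotent_fittingOf M) hXF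
    have hMQ₀ : M ≤ normalizer (Q₀ : Set G) :=
      (le_normalizer_fittingOf M).trans hQ₀F.normalizer_le
    have hQ₀bot : Q₀ = ⊥ := eq_bot_of_coatom_le_normalizer hG hM hQ₀.pg hqF hMQ₀
    have := hQ₀.max Q hQ hXQ
    rw [hQ₀bot] at this
    exact le_bot_iff.mp this
  have hXs : Group.IsSolvable ↥X := isSolvable_of_ne_top hG hX1
  have hinv := invSubgroups_eq_bot_of_prime (card_dvd_of_le hXF) hXs hprime
  have ctx : FitUCtx M X := ⟨hG, hM, hF2, hXF, hZF, hinv⟩
  exact ⟨M, ⟨hM, hXM⟩, fun L hL => ctx.eq_of_isCoatom hL.1 hL.2⟩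

end a

end Cfsg.Agent.Lib.Helper23
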