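import Cfsg.Agent.Lib.Helper4.LcDefs

set_option autoImplicit false
open Matrix

namespace Cfsg.Agent.Lib.Helper4.Lc

/-- the parametrisation of the vectors of shape `(±4, ±4)` -/
def lcc44_f (x : (Fin 24 × Fin 24) × (Bool × Bool)) : V :=
  Pi.single x.1.1 (if x.2.1 then 4 else -4) + Pi.single x.1.2 (if x.2.2 then 4 else -4)

/-- the pairs `i < j` -/
def lcc44_P : Finset (Fin 24 × Fin 24) := Finset.univ.filter (fun p => p.1 < p.2)

theorem lcc44_mem_P (i j : Fin 24) : (i, j) ∈ lcc44_P ↔ i < j := by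
  simp [lcc44_P]

set_option maxRecDepth 1000000 in
theorem lcc44_card_P : lcc44_P.card = 276 := by decide

/-- the parameter set -/
def lcc44_S : Finset ((Fin 24 × Fin 24) × (Bool × Bool)) := lcc44_P ×ˢ Finset.univ

theorem lcc44_card : lcc44_S.card = 1104 := by
  rw [lcc44_S, Finset.card_product, lcc44_card_P]; rfl

/-- LC-C44 (pure integers) -/
theorem card_44 : {v : V | ∃ i j : Fin 24, i < j ∧ ∃ s t : ℤ, (s = 4 ∨ s = -4) ∧ (t = 4 ∨ t = -4) ∧
    v = Pi.single i s + Pi.single j t}.ncard ≤ 1104 := by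
  classical
  have hsub : {v : V | ∃ i j : Fin 24, i < j ∧ ∃ s t : ℤ, (s = 4 ∨ s = -4) ∧ (t = 4 ∨ t = -4) ∧
      v = Pi.single i s + Pi.single j t} ⊆ ↑(lcc44_S.image lcc44_f) := by
    intro v hv
    rw [Finset.mem_coe, Finset.mem_image]
    obtain ⟨i, j, hij, s, t, hs, ht, hv⟩ := hv
    subst hv
    refine ⟨((i, j), (decide (s = 4), decide (t = 4))), ?_, ?_⟩
    · rw [lcc44_S, Finset.mem_product]
      exact ⟨(lcc44_mem_P i j).2 hij, Finset.mem_univ _⟩
    · unfold lcc44_f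
      rcases hs with rfl | rfl <;> rcases ht with rfl | rfl <;> simp
  calc _ ≤ (↑(lcc44_S.image lcc44_f) : Set V).ncard :=
        Set.ncard_le_ncard hsub (Finset.finite_toSet _)
    _ = (lcc44_S.image lcc44_f).card := Set.ncard_coe_finset _
    _ ≤ lcc44_S.card := Finset.card_image_le
    _ = 1104 := lcc44_card

end Cfsg.Agent.Lib.Helper4.Lc
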