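import Cfsg.Agent.Lib.Helper23.LcCODcore
import Cfsg.Agent.Lib.Helper34.LcSHO

set_option autoImplicit false
open Matrix

namespace Cfsg.Agent.Lib.Helper4.Lc

variable {Λ : AddSubgroup V}

/-- LC-COD -/
theorem count_odd (h : Fr Λ) :
    {v : V | v ∈ Λ ∧ sq v = 32 ∧ AllOdd v}.ncard ≤ 24 * Nat.card (code Λ) :=
  lccod_core shape_odd

end Cfsg.Agent.Lib.Helper4.Lc
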