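import Cfsg.Agent.Lib.Helper4.LcDefs

set_option autoImplicit false
open Matrix

namespace Cfsg.Agent.Lib.Helper4.Lc

variable {Λ : AddSubgroup V}

/-- halving -/
def lccod_half (w : V) : V := fun i => w i / 2

theorem lccod_dbl_half (w : V) (hw : AllEven w) : dbl (lccod_half w) = w := by
  funext i
  simp only [dbl_apply, lccod_half]
  exact Int.mul_ediv_cancel' (hw i)

theorem lccod_even_sub {v u : V} (hv : AllOdd v) (hu : AllOdd u) : AllEven (v - u) := by
  intro i
  have h1 := hv i
  have h2 := hu i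
  simp only [Pi.sub_apply]
  omega

theorem lccod_mem_code {v u : V} (hv : v ∈ Λ) (hu : u ∈ Λ) (hvo : AllOdd v) (huo : AllOdd u) :
    red (lccod_half (v - u)) ∈ code Λ := by
  rw [mem_code]
  refine ⟨lccod_half (v - u), ?_, rfl⟩
  rw [lccod_dbl_half _ (lccod_even_sub hvo huo)]
  exact Λ.sub_mem hv hu

/-- LC-COD, with the statement of LC-SHO `shape_odd` as a hypothesis -/
theorem lccod_core
    (hsho : ∀ v : V, AllOdd v → sq v = 32 →
      ∃ k : Fin 24, (v k = 3 ∨ v k = -3) ∧ ∀ i, i ≠ k → (v i = 1 ∨ v i = -1)) :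
    {v : V | v ∈ Λ ∧ sq v = 32 ∧ AllOdd v}.ncard ≤ 24 * Nat.card (code Λ) := by
  classical
  by_cases hne : {v : V | v ∈ Λ ∧ sq v = 32 ∧ AllOdd v}.Nonempty
  swap
  · rw [Set.not_nonempty_iff_eq_empty] at hne
    rw [hne, Set.ncard_empty]
    exact Nat.zero_le _
  obtain ⟨u, hu, -, huo⟩ := hne
  have hfin : Finite (code Λ) := Finite.of_injective (fun x : code Λ => (x : Fin 24 → ZMod 2))
    Subtype.val_injective
  rw [← Nat.card_coe_set_eq]
  have hk : ∀ v : {v : V | v ∈ Λ ∧ sq v = 32 ∧ AllOdd v},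
      ∃ k : Fin 24, ((v : V) k = 3 ∨ (v : V) k = -3) ∧
        ∀ i, i ≠ k → ((v : V) i = 1 ∨ (v : V) i = -1) :=
    fun v => hsho v v.2.2.2 v.2.2.1
  let f : {v : V | v ∈ Λ ∧ sq v = 32 ∧ AllOdd v} → Fin 24 × code Λ := fun v =>
    (Classical.choose (hk v), ⟨red (lccod_half ((v : V) - u)), lccod_mem_code v.2.1 hu v.2.2.2 huo⟩)
  have hinj : Function.Injective f := by
    intro v v' hvv
    have h1 : Classical.choose (hk v) = Classical.choose (hk v') := congrArg Prod.fst hvv
    have h2 : red (lccod_half ((v : V) - u)) = red (lccod_half ((v' : V) - u)) :=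
      congrArg (fun x => (x.2 : Fin 24 → ZMod 2)) hvv
    have hs := Classical.choose_spec (hk v)
    have hs' := Classical.choose_spec (hk v')
    rw [← h1] at hs'
    set k := Classical.choose (hk v) with hkdef
    apply Subtype.ext
    funext i
    have h3 : ((lccod_half ((v : V) - u) i : ℤ) : ZMod 2) = ((lccod_half ((v' : V) - u) i : ℤ) : ZMod 2) :=
      congrFun h2 i
    rw [ZMod.intCast_eq_intCast_iff_dvd_sub] at h3
    have e1 : 2 * lccod_half ((v : V) - u) i = (v : V) i - u i :=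
      congrFun (lccod_dbl_half _ (lccod_even_sub v.2.2.2 huo)) i
    have e2 : 2 * lccod_half ((v' : V) - u) i = (v' : V) i - u i :=
      congrFun (lccod_dbl_half _ (lccod_even_sub v'.2.2.2 huo)) i
    push_cast at h3
    by_cases hik : i = k
    · subst hik
      rcases hs.1 with a | a <;> rcases hs'.1 with b | b <;> omega
    · rcases hs.2 i hik with a | a <;> rcases hs'.2 i hik with b | b <;> omega
  calc Nat.card {v : V | v ∈ Λ ∧ sq v = 32 ∧ AllOdd v}
      ≤ Nat.card (Fin 24 × code Λ) := Nat.card_le_card_of_injective f hinj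
    _ = 24 * Nat.card (code Λ) := by rw [Nat.card_prod, Nat.card_fin]

end Cfsg.Agent.Lib.Helper4.Lc
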