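import Cfsg.Agent.Lib.Helper23.NStarDefs
import Cfsg.Agent.Lib.Helper23.BG1310E

set_option autoImplicit false
set_option linter.style.haveILetI false
set_option linter.unusedSectionVars false

/-!
# Case N star structure: leaf A1 (basic facts on a partner), A10 (primes of `Z`), existence of a partner
-/

namespace Cfsg.Agent.Lib.Helper23.NStar

open Subgroup Cfsg Cfsg.Agent.Lib.Helper33
open Cfsg.Agent.Lib.Helper19.BG1311

universe u

variable {G : Type u} [Group G] [Finite G] {M E X L X' L' : Subgroup G}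

/-- LEAF A1. -/
theorem par_basic (hG : IsMinSimpleOddOrder G) (c : Ctx M E) (d : Par E X L) :
    X ≤ sigmaCore L ∧ Nat.card X ∈ sigma L ∧ Nat.card X ∉ sigma M ∧
    (∀ g : G, L ≠ M.map (MulAut.conj g).toMonoidHom) ∧
    E ⊔ (sigmaCore M ⊓ centralizer (E : Set G)) ≤ L ∧
    sigmaCore M ⊓ L = sigmaCore M ⊓ centralizer (E : Set G) ∧
    M ⊓ L = E ⊔ (sigmaCore M ⊓ centralizer (E : Set G)) := by
  classical
  have hHall := Cfsg.Agent.Lib.Helper19.BG124.sigmaHallIn hG c.hM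
  have hEM : E ≤ M := c.hE.1
  obtain ⟨-, -, h3⟩ := Cfsg.Agent.S1430.result hG M c.hM E (c.hallE hG) c.hE1
  obtain ⟨-, -, hXL⟩ := h3 X d.hXE d.hX
  have hXV : X ≤ sigmaCore L := hXL L d.hL d.hNL
  have hpp : (Nat.card X).Prime := d.hX
  have hpL : Nat.card X ∈ sigma L :=
    Cfsg.Agent.Lib.Helper60.BG139.mem_sigma_of_dvd_card_sigmaCore hG d.hL hpp
      (Subgroup.card_dvd_of_le hXV)
  have hpE : Nat.card X ∣ Nat.card E := Subgroup.card_dvd_of_le d.hXE
  have hpM : Nat.card X ∉ sigma M :=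
    Cfsg.Agent.Lib.Helper96.BG127.not_mem_sigma_of_dvd_card_compl hHall c.hE hpp hpE
  have hnc : ∀ g : G, L ≠ M.map (MulAut.conj g).toMonoidHom := by
    intro g hg
    apply hpM
    have h1 : Nat.card X ∈ sigma (cj g M) := by
      show Nat.card X ∈ sigma (M.map (MulAut.conj g).toMonoidHom)
      rw [← hg]; exact hpL
    have h2 := Cfsg.Agent.Lib.Helper63.BG13.sigma_cj g⁻¹ h1
    rwa [cj_inv_cj] at h2
  have hEL : E ≤ L := (c.hnorm X d.hXE d.hX).trans d.hNL
  have hCX : centralizer (E : Set G) ≤ centralizer (X : Set G) :=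
    centralizer_le (SetLike.coe_subset_coe.mpr d.hXE)
  have hKsL : sigmaCore M ⊓ centralizer (E : Set G) ≤ L :=
    inf_le_right.trans (hCX.trans ((Subgroup.centralizer_le_normalizer _).trans d.hNL))
  have h31 := Cfsg.Agent.Lib.Helper60.BG131a.stmt131a hG
  have hXp : IsPGroup (Nat.card X) X := IsPGroup.of_card (n := 1) (by rw [pow_one])
  have hWL : sigmaCore M ⊓ L ≤ centralizer (X : Set G) :=
    h31 M L c.hM d.hL hnc (Nat.card X) hpp hpM (fun h => h.2.1 hpL) X hXp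
      (le_inf (d.hXE.trans hEM) (d.hXE.trans hEL))
  have hX1 : X ≠ ⊥ := by
    intro h
    rw [h, Subgroup.card_bot] at hpp
    exact Nat.not_prime_one hpp
  obtain ⟨x, hx1⟩ := (Subgroup.ne_bot_iff_exists_ne_one).mp hX1
  have hx1' : (x : G) ≠ 1 := fun h => hx1 (Subtype.ext h)
  have hsp := c.hsp (x : G) (d.hXE x.2) hx1'
  have hWL' : sigmaCore M ⊓ L = sigmaCore M ⊓ centralizer (E : Set G) := by
    apply le_antisymm
    · rw [← hsp]
      intro u hu
      refine ⟨hu.1, ?_⟩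
      have h1 := hWL hu
      show u ∈ centralizer ({(x : G)} : Set G)
      rw [mem_centralizer_iff] at h1 ⊢
      intro z hz
      rw [Set.mem_singleton_iff] at hz
      rw [hz]; exact h1 (x : G) x.2
    · exact le_inf inf_le_left hKsL
  have hcomp := Cfsg.Agent.Lib.Helper23.BG1310.isComplIn_inf c.hE hEL
  refine ⟨hXV, hpL, hpM, hnc, sup_le hEL hKsL, hWL', ?_⟩
  rw [← hWL']
  apply le_antisymm
  · intro m hm
    obtain ⟨e, he, y, hy, hmey⟩ := hcomp.2.2.2 m hm
    rw [hmey]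
    exact Subgroup.mul_mem _ (le_sup_left (a := E) he) (le_sup_right (a := E) hy)
  · exact sup_le hcomp.1 hcomp.2.1

/-- existence of one partner -/
theorem exists_par (hG : IsMinSimpleOddOrder G) (c : Ctx M E) {p : ℕ} (hp : p.Prime)
    (hpE : p ∣ Nat.card E) : ∃ X L : Subgroup G, Par E X L ∧ Nat.card X = p := by
  haveI : Fact p.Prime := ⟨hp⟩
  obtain ⟨z, hz⟩ := exists_prime_orderOf_dvd_card' p hpE
  have hZE : zpowers (z : G) ≤ E := by rw [zpowers_le]; exact z.2
  have hZ : Nat.card (zpowers (z : G)) = p := by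
    rw [Nat.card_zpowers, Subgroup.orderOf_coe, hz]
  have hZ1 : zpowers (z : G) ≠ ⊥ := by
    intro h
    rw [h, Subgroup.card_bot] at hZ
    exact hp.one_lt.ne hZ
  have hZtop : zpowers (z : G) ≠ ⊤ := by
    intro h
    exact c.hM.1 (top_le_iff.mp (h ▸ (hZE.trans c.hE.1)))
  obtain ⟨L, hL, hNL⟩ := Cfsg.Agent.Lib.Helper56.BG10.exists_coatom_ge
    (Cfsg.Agent.Lib.Helper63.BG10.normalizer_ne_top hG hZ1 hZtop)
  exact ⟨_, L, ⟨hZE, by rw [hZ]; exact hp, hL, hNL⟩, hZ⟩

/-- existence of one partner -/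
theorem exists_par' (hG : IsMinSimpleOddOrder G) (c : Ctx M E) :
    ∃ X L : Subgroup G, Par E X L := by
  have h1 : Nat.card E ≠ 1 := fun h => c.hE1 (Subgroup.card_eq_one.mp h)
  obtain ⟨p, hp, hpE⟩ := Nat.exists_prime_and_dvd h1
  obtain ⟨X, L, d, -⟩ := exists_par hG c hp hpE
  exact ⟨X, L, d⟩

/-- LEAF A10. primes of `Z`. -/
theorem prime_mem_sigma (hG : IsMinSimpleOddOrder G) (c : Ctx M E) {p : ℕ} (hp : p.Prime)
    (hpZ : p ∣ Nat.card ↥(E ⊔ (sigmaCore M ⊓ centralizer (E : Set G)))) :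
    p ∈ sigma M ∨ ∃ X L : Subgroup G, Par E X L ∧ p ∈ sigma L := by
  have hKn : sigmaCore M ⊓ centralizer (E : Set G) ≤ normalizer (E : Set G) :=
    inf_le_right.trans (Subgroup.centralizer_le_normalizer _)
  have hdvd := Cfsg.Agent.Lib.Helper56.BG117.card_sup_dvd_mul_of_le_normalizer (N := E)
    (R := sigmaCore M ⊓ centralizer (E : Set G)) hKn
  rcases (Nat.Prime.dvd_mul hp).mp (hpZ.trans hdvd) with h | h
  · right
    obtain ⟨X, L, d, hXp⟩ := exists_par hG c hp h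
    refine ⟨X, L, d, ?_⟩
    rw [← hXp]
    exact (par_basic hG c d).2.1
  · left
    exact Cfsg.Agent.Lib.Helper60.BG139.mem_sigma_of_dvd_card_sigmaCore hG c.hM hp
      (h.trans (Subgroup.card_dvd_of_le inf_le_left))

end Cfsg.Agent.Lib.Helper23.NStar
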