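import Cfsg.Agent.Lib.Helper23.NStarA1
import Cfsg.Agent.Lib.Helper68.NStarA24
import Cfsg.Agent.S1378

set_option autoImplicit false
set_option linter.style.haveILetI false
set_option linter.unusedSectionVars false

/-!
# Case N star structure: leaf A9a (hedge copy, name `par_cent_h23`)
-/

namespace Cfsg.Agent.Lib.Helper23.NStar

open Subgroup Cfsg Cfsg.Agent.Lib.Helper33
open Cfsg.Agent.Lib.Helper19.BG1311

universe u

variable {G : Type u} [Group G] [Finite G] {M E X L X' L' : Subgroup G}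

/-- LEAF A9a (helper23's copy). -/
theorem par_cent_h23 (hG : IsMinSimpleOddOrder G) (c : Ctx M E) (d : Par E X L) {a : G}
    (ha : a ∈ sigmaCore L ⊓ (E ⊔ (sigmaCore M ⊓ centralizer (E : Set G))))
    (hao : (orderOf a).Prime) : centralizer ({a} : Set G) ≤ L := by
  have hb := par_basic hG c d
  have hRc : Nat.card (zpowers a) = orderOf a := Nat.card_zpowers a
  have hR : (Nat.card (zpowers a)).Prime := by rw [hRc]; exact hao
  have hRZ : zpowers a ≤ E ⊔ (sigmaCore M ⊓ centralizer (E : Set G)) := zpowers_le.mpr ha.2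
  have hrL : orderOf a ∈ sigma L :=
    Cfsg.Agent.Lib.Helper60.BG139.mem_sigma_of_dvd_card_sigmaCore hG d.hL hao
      (Subgroup.orderOf_dvd_natCard _ ha.1)
  have hcomm : ∀ a ∈ E, ∀ b ∈ sigmaCore M ⊓ centralizer (E : Set G), a * b = b * a := by
    intro a ha b hb
    exact ((mem_centralizer_iff.1 hb.2) a ha)
  have hR1 : zpowers a ≠ ⊥ := par_unique_ne_bot hR
  have hCa : centralizer ({a} : Set G) ≤ centralizer ((zpowers a : Subgroup G) : Set G) := by
    intro u hu
    rw [mem_centralizer_iff] at hu ⊢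
    intro z hz
    obtain ⟨k, rfl⟩ := Subgroup.mem_zpowers_iff.mp hz
    have h1 : a * u = u * a := hu a (Set.mem_singleton a)
    exact ((Commute.zpow_left (show Commute a u from h1) k)).eq
  rcases Cfsg.Agent.Lib.Helper70.BG1369.le_or_le_of_card_prime hcomm (par_kappa_coprime hG c)
    hRZ hR with hRE | hRK
  · have hRL : zpowers a ≤ L := hRZ.trans hb.2.2.2.2.1
    have hRtop : zpowers a ≠ ⊤ := by
      intro h
      exact d.hL.1 (top_le_iff.mp (h ▸ hRL))
    obtain ⟨L₀, hL₀, hNL₀⟩ := Cfsg.Agent.Lib.Helper56.BG10.exists_coatom_ge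
      (Cfsg.Agent.Lib.Helper63.BG10.normalizer_ne_top hG hR1 hRtop)
    have d₀ : Par E (zpowers a) L₀ := ⟨hRE, hR, hL₀, hNL₀⟩
    have hb₀ := par_basic hG c d₀
    have hrL₀ : orderOf a ∈ sigma L₀ := by rw [← hRc]; exact hb₀.2.1
    obtain ⟨g, hg⟩ := (Cfsg.Agent.S1378.result hG).2 L L₀ d.hL hL₀ ⟨orderOf a, hrL, hrL₀⟩
    have hLL₀ : L₀ = L := par_unique hG c d d₀ ⟨g, hg⟩
    rw [← hLL₀]
    exact hCa.trans ((Subgroup.centralizer_le_normalizer _).trans hNL₀)
  · exfalso
    have hrM : orderOf a ∈ sigma M :=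
      Cfsg.Agent.Lib.Helper60.BG139.mem_sigma_of_dvd_card_sigmaCore hG c.hM hao
        (by rw [← hRc]; exact Subgroup.card_dvd_of_le (hRK.trans inf_le_left))
    obtain ⟨g, hg⟩ := (Cfsg.Agent.S1378.result hG).2 M L c.hM d.hL ⟨orderOf a, hrM, hrL⟩
    exact hb.2.2.2.1 g hg

end Cfsg.Agent.Lib.Helper23.NStar
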