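import Cfsg.Agent.S1430
import Cfsg.Agent.Lib.Helper19.BG1311
import Cfsg.Agent.Lib.Helper23.BG1310G

set_option autoImplicit false
set_option linter.style.haveILetI false
set_option linter.unusedSectionVars false

/-!
# The star structure around a maximal subgroup in "Case N" (`κ(M) ∩ τ₃(M) ≠ ∅`): definitions

`Ctx M E`   : `M` is in Case N (helper19's `CaseN M`), `E` is a complement of `M_σ` in `M`, `E' ≠ 1`.
`Par E X L` : `L` is a maximal subgroup over `N_G(X)`, `X ≤ E` of prime order (a "partner").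
`StarStmt G`: helper22's star count, as a Prop.
Notation in comments: `W = M_σ`, `K* = C_W(E)`, `Z = E K*`.
-/

namespace Cfsg.Agent.Lib.Helper23.NStar

open Subgroup Cfsg
open Cfsg.Agent.Lib.Helper19.BG1311

universe u

variable {G : Type u} [Group G] [Finite G]

/-- the Case N context -/
structure Ctx (M E : Subgroup G) : Prop where
  hM : IsCoatom M
  hE : IsComplIn E (sigmaCore M) M
  hN : CaseN M
  hnab : ⁅E, E⁆ ≠ ⊥

/-- a partner of `M`: a maximal subgroup over `N_G(X)`, `X ≤ E` of prime order -/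
structure Par (E X L : Subgroup G) : Prop where
  hXE : X ≤ E
  hX : (Nat.card X).Prime
  hL : IsCoatom L
  hNL : normalizer (X : Set G) ≤ L

/-- helper22's star count as a Prop -/
def StarStmt (G : Type u) [Group G] : Prop :=
  ∀ (ι : Type u) [Fintype ι] (i₀ i₁ : ι), i₀ ≠ i₁ → ∀ (H : ι → Subgroup G) (Z : Subgroup G),
    (∀ i, IsCoatom (H i)) →
    (∀ i j, i ≠ j → ∀ g : G, H j ≠ (H i).map (MulAut.conj g).toMonoidHom) →
    (∀ i, Z ≤ H i) →
    (∀ i j, i ≠ j → H i ⊓ H j ≤ Z) →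
    (∀ i, H i ≤ sigmaCore (H i) ⊔ Z) →
    (∀ p : ℕ, p.Prime → p ∣ Nat.card Z → ∃ i, p ∈ sigma (H i)) →
    (∀ i, ∀ a ∈ sigmaCore (H i) ⊓ Z, (orderOf a).Prime → centralizer ({a} : Set G) ≤ H i) →
    False

namespace Ctx

variable {M E : Subgroup G}

theorem hτ2 (c : Ctx M E) : ∀ s : ℕ, s ∉ tau2 M := by
  intro s hs
  have := c.hN.1
  rw [this] at hs
  exact hs

theorem hKs (c : Ctx M E) : sigmaCore M ⊓ centralizer (E : Set G) ≠ ⊥ := (c.hN.2 E c.hE).1

theorem hsp (c : Ctx M E) : ∀ e ∈ E, e ≠ 1 → sigmaCore M ⊓ centralizer ({e} : Set G) =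
    sigmaCore M ⊓ centralizer (E : Set G) := (c.hN.2 E c.hE).2.1

theorem hnorm (c : Ctx M E) : ∀ X : Subgroup G, X ≤ E → (Nat.card X).Prime →
    E ≤ normalizer (X : Set G) := (c.hN.2 E c.hE).2.2

theorem hE1 (c : Ctx M E) : E ≠ ⊥ := by
  intro h
  apply c.hnab
  rw [h]
  exact (Subgroup.commutator_bot_left ⊥)

/-- `E` is a Hall `κ(M)`-subgroup of `M` -/
theorem hallE (hG : IsMinSimpleOddOrder G) (c : Ctx M E) : IsPiHallOf (kappa M) E M := by
  have hHall := Cfsg.Agent.Lib.Helper19.BG124.sigmaHallIn hG c.hM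
  refine ⟨c.hE.1, ?_, ?_⟩
  · intro p hp hpE
    have hpM : p ∣ Nat.card M := hpE.trans (Subgroup.card_dvd_of_le c.hE.1)
    have hpσ : p ∉ sigma M :=
      Cfsg.Agent.Lib.Helper96.BG127.not_mem_sigma_of_dvd_card_compl hHall c.hE hp hpE
    exact mem_kappa_of_caseN hG c.hM c.hN hp hpM hpσ
  · intro p hp hpκ hd
    rw [Cfsg.Agent.Lib.Helper23.Bad.relIndex_compl c.hE] at hd
    exact hpκ.2.2.1
      (Cfsg.Agent.Lib.Helper60.BG139.mem_sigma_of_dvd_card_sigmaCore hG c.hM hp hd)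

end Ctx

/-- the context exists as soon as `κ(M) ∩ τ₃(M) ≠ ∅` -/
theorem exists_ctx (hG : IsMinSimpleOddOrder G) {M : Subgroup G} (hM : IsCoatom M) {q : ℕ}
    (hq3 : q ∈ tau3 M) (hqκ : q ∈ kappa M) : ∃ E : Subgroup G, Ctx M E := by
  classical
  have hS := (Cfsg.Agent.S1350.result hG M hM).1
  have h78 : Cfsg.Agent.Lib.Helper32.BG142.SigmaDisj G := (Cfsg.Agent.S1378.result hG).2
  have hLE := Cfsg.Agent.Lib.Helper70.BG14.stmtE32 hG
  have h10 := Cfsg.Agent.Lib.Helper23.BG1310.stmt1310 hG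
  have hPin := Cfsg.Agent.Lib.Helper32.BG142.stmtPin hG
  haveI : Fact q.Prime := ⟨hq3.1⟩
  have key : ∀ E : Subgroup G, IsComplIn E (sigmaCore M) M →
      (∀ s : ℕ, s ∉ tau2 M) ∧ (sigmaCore M ⊓ centralizer (E : Set G) ≠ ⊥ ∧
      (∀ e ∈ E, e ≠ 1 → sigmaCore M ⊓ centralizer ({e} : Set G) =
        sigmaCore M ⊓ centralizer (E : Set G)) ∧
      ∀ X : Subgroup G, X ≤ E → (Nat.card X).Prime → E ≤ normalizer (X : Set G)) ∧
      ⁅E, E⁆ ≠ ⊥ := by
    intro E hE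
    have hqE : q ∣ Nat.card E := dvd_card_compl hE hq3.1 hqκ.2.1 hq3.2.1
    obtain ⟨z, hz⟩ := exists_prime_orderOf_dvd_card' q hqE
    have hZE : zpowers (z : G) ≤ E := by rw [zpowers_le]; exact z.2
    have hZ : Nat.card (zpowers (z : G)) = q := by
      rw [Nat.card_zpowers, Subgroup.orderOf_coe, hz]
    have hZne : sigmaCore M ⊓ centralizer ((zpowers (z : G) : Subgroup G) : Set G) ≠ ⊥ :=
      Cfsg.Agent.Lib.Helper32.BG142.cent_ne_bot_of_kappa hG hM hqκ (hZE.trans hE.1) hZ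
    refine ⟨Cfsg.Agent.Lib.Helper32.BG142.exc_tau2 hG hLE hM hE hq3 hZE hZ hZne,
      Cfsg.Agent.Lib.Helper32.BG142.exc_structure hG h78 hLE h10 hPin hM hE hq3 hqκ, ?_⟩
    intro h
    have hZq : IsPGroup q (zpowers (z : G)) := IsPGroup.of_card (n := 1) (by rw [hZ, pow_one])
    have h3 := (Cfsg.Agent.Lib.Helper23.BG1310.tau3_subgroup hG hM hE hq3 hZE hZq).2.2
    rw [h, le_bot_iff] at h3
    rw [h3, Subgroup.card_bot] at hZ
    exact hq3.1.one_lt.ne hZ
  obtain ⟨E, hE⟩ := Cfsg.Agent.Lib.Helper10.BG13.exists_isComplIn_sigmaCore hS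
  refine ⟨E, hM, hE, ⟨?_, fun E' hE' => (key E' hE').2.1⟩, (key E hE).2.2⟩
  ext s
  simp only [Set.mem_empty_iff_false, iff_false]
  exact (key E hE).1 s

end Cfsg.Agent.Lib.Helper23.NStar
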