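import Cfsg.Agent.Lib.Helper23.NStarA7
import Cfsg.Agent.Lib.Helper68.NStarA3
import Cfsg.Agent.Lib.Helper68.NStarA24
import Cfsg.Agent.Lib.Helper23.NStarA9
import Cfsg.Agent.Lib.Helper22.StarCount
import Cfsg.Agent.Lib.Helper56.BG141
import Cfsg.Agent.S1377
import Cfsg.Agent.S1433

set_option autoImplicit false
set_option linter.style.haveILetI false
set_option linter.unusedSectionVars false

/-!
# `κ(M) ∩ τ₃(M) = ∅` (kill of "Case N"): assembly of the star structure with helper22's star count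
-/

namespace Cfsg.Agent.Lib.Helper23.NStar

open Subgroup Cfsg
open Cfsg.Agent.Lib.Helper19.BG1311

universe u

variable {G : Type u} [Group G] [Finite G] {M E : Subgroup G}

/-- the star count, unconditionally -/
theorem starStmt (hG : IsMinSimpleOddOrder G) : StarStmt G := by
  intro ι _ i₀ i₁ h01 H Z h1 h2 h3 h4 h5 h6 h7
  exact Cfsg.Agent.Lib.Helper22.StarCount.star_count hG
    (fun M hM => Cfsg.Agent.S1377.result hG M hM)
    (fun M N hM hN x y hx hy hx1 hy1 hxy r hr s hs =>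
      Cfsg.Agent.S1433.result hG M N hM hN x y hx hy hx1 hy1 hxy r hr s hs)
    i₀ i₁ h01 H Z h1 h2 h3 h4 h5 h6 h7

/-- ASSEMBLY: a Case N context is contradictory. -/
theorem ctx_false (hG : IsMinSimpleOddOrder G) (hStar : StarStmt G) (c : Ctx M E) : False := by
  classical
  let ι : Type u := {L : Subgroup G // L = M ∨ ∃ X : Subgroup G, Par E X L}
  haveI : Fintype ι := Fintype.ofFinite ι
  obtain ⟨X₁, L₁, d₁⟩ := exists_par' hG c
  have hb₁ := par_basic hG c d₁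
  have hL₁M : L₁ ≠ M := by
    intro h
    apply hb₁.2.2.2.1 1
    rw [h]
    exact (Cfsg.Agent.Lib.Helper33.cj_one M).symm
  let i₀ : ι := ⟨M, Or.inl rfl⟩
  let i₁ : ι := ⟨L₁, Or.inr ⟨X₁, d₁⟩⟩
  have h01 : i₀ ≠ i₁ := by
    intro h
    exact hL₁M (congrArg Subtype.val h).symm
  have hZM : E ⊔ (sigmaCore M ⊓ centralizer (E : Set G)) ≤ M :=
    sup_le c.hE.1 (inf_le_left.trans c.hE.2.1)
  refine hStar ι i₀ i₁ h01 (fun i => i.1) (E ⊔ (sigmaCore M ⊓ centralizer (E : Set G)))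
    ?_ ?_ ?_ ?_ ?_ ?_ ?_
  · rintro ⟨L, hL | ⟨X, d⟩⟩
    · show IsCoatom L
      rw [hL]; exact c.hM
    · exact d.hL
  · rintro ⟨L, hL | ⟨X, d⟩⟩ ⟨L', hL' | ⟨X', d'⟩⟩ hij g
    · exact absurd (Subtype.ext (hL.trans hL'.symm)) hij
    · show L' ≠ L.map (MulAut.conj g).toMonoidHom
      rw [hL]; exact (par_basic hG c d').2.2.2.1 g
    · show L' ≠ L.map (MulAut.conj g).toMonoidHom
      rw [hL']
      intro h
      apply (par_basic hG c d).2.2.2.1 g⁻¹
      rw [h]
      exact (Cfsg.Agent.Lib.Helper33.cj_inv_cj g L).symm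
    · show L' ≠ L.map (MulAut.conj g).toMonoidHom
      intro h
      exact hij (Subtype.ext (par_unique hG c d d' ⟨g, h⟩).symm)
  · rintro ⟨L, hL | ⟨X, d⟩⟩
    · show _ ≤ L
      rw [hL]; exact hZM
    · exact (par_basic hG c d).2.2.2.2.1
  · rintro ⟨L, hL | ⟨X, d⟩⟩ ⟨L', hL' | ⟨X', d'⟩⟩ hij
    · exact absurd (Subtype.ext (hL.trans hL'.symm)) hij
    · show L ⊓ L' ≤ _
      rw [hL]; exact (par_basic hG c d').2.2.2.2.2.2.le
    · show L ⊓ L' ≤ _
      rw [hL', inf_comm]; exact (par_basic hG c d).2.2.2.2.2.2.le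
    · show L ⊓ L' ≤ _
      apply par_inf_of_nonconj hG c d d'
      intro g h
      exact hij (Subtype.ext (par_unique hG c d d' ⟨g, h⟩).symm)
  · rintro ⟨L, hL | ⟨X, d⟩⟩
    · show L ≤ sigmaCore L ⊔ _
      rw [hL]
      intro m hm
      obtain ⟨e, he, w, hw, hmew⟩ := c.hE.2.2.2 m hm
      rw [hmew]
      exact Subgroup.mul_mem _ (le_sup_right (a := sigmaCore M) (le_sup_left (a := E) he))
        (le_sup_left (a := sigmaCore M) hw)
    · exact par_decomp hG c d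
  · intro p hp hpZ
    rcases prime_mem_sigma hG c hp hpZ with h | ⟨X, L, d, h⟩
    · exact ⟨i₀, h⟩
    · exact ⟨⟨L, Or.inr ⟨X, d⟩⟩, h⟩
  · rintro ⟨L, hL | ⟨X, d⟩⟩ a ha hao
    · show centralizer ({a} : Set G) ≤ L
      subst hL
      exact base_cent hG c ha hao
    · exact par_cent_h23 hG c d ha hao

/-- **`κ(M) ∩ τ₃(M) = ∅`**. -/
theorem kappa_tau3_false (hG : IsMinSimpleOddOrder G) {M : Subgroup G}
    (hM : IsCoatom M) {q : ℕ} (hqκ : q ∈ kappa M) (hq3 : q ∈ tau3 M) : False := by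
  obtain ⟨E, c⟩ := exists_ctx hG hM hq3 hqκ
  exact ctx_false hG (starStmt hG) c

/-- helper56's `StmtA`, unconditionally -/
theorem stmtA (hG : IsMinSimpleOddOrder G) : Cfsg.Agent.Lib.Helper56.BG141.StmtA G :=
  fun _ hM _ hκ h3 => kappa_tau3_false hG hM hκ h3

end Cfsg.Agent.Lib.Helper23.NStar
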