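import Cfsg.Agent.S3079
import Cfsg.Agent.Lib.Helper35.PStabMain
import Cfsg.Agent.Lib.Helper35.NoSL
import Cfsg.Agent.Lib.Helper53.SolvPSolv
import Cfsg.Agent.Lib.Helper55.SolvCore
import Cfsg.Agent.Lib.Helper51.ThompsonA
import Cfsg.Agent.Lib.Helper51.TNPC1
import Cfsg.Agent.Lib.Helper11.PConstrained
import Cfsg.Agent.Lib.Helper11.Stable
import Cfsg.Agent.Lib.Helper24.SylowInv

set_option autoImplicit false

/-!
# `p`-stability of solvable groups of odd order and the ZJ-theorem at the subgroup level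

* `isNormalizerPStable_of_odd_solvable`: a finite solvable group of odd order is `p`-stable in the
  normalizer form, for every odd prime `p`.
* `le_normalizer_centerThompsonAOf`: if `X ≤ G` is solvable of odd order with `O_{p'}(X) = 1` and `S`
  is a Sylow `p`-subgroup of `X`, then `X` normalizes `Z(J(S))`.
-/

namespace Cfsg.Agent.Lib.Helper23

open Subgroup Cfsg Cfsg.Agent.Lib.Helper33 Cfsg.Agent.Lib.Helper51
open scoped commutatorElement

universe u

/-- A finite solvable group of odd order is `p`-stable in the normalizer form (`p` odd). -/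
theorem isNormalizerPStable_of_odd_solvable {Z : Type u} [Group Z] [Finite Z]
    (hs : Group.IsSolvable Z) (hodd : Odd (Nat.card Z)) (p : ℕ) [Fact p.Prime] (hp2 : p ≠ 2) :
    IsNormalizerPStable p Z := by
  intro P hP g hg hquad
  obtain ⟨N, hN⟩ : ∃ N : Subgroup Z, N = Subgroup.normalizer (P : Set Z) := ⟨_, rfl⟩
  have hNs : Group.IsSolvable ↥(Subgroup.normalizer (P : Set Z)) := inferInstance
  have hNodd : Odd (Nat.card ↥(Subgroup.normalizer (P : Set Z))) := by
    have h1 : Nat.card ↥(Subgroup.normalizer (P : Set Z)) ∣ Nat.card Z :=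
      Subgroup.card_subgroup_dvd_card _
    exact Odd.of_dvd_nat hodd h1
  have hNps : IsPSolvable p ↥(Subgroup.normalizer (P : Set Z)) :=
    Cfsg.Agent.Lib.Helper53.isPSolvable_of_isSolvable p hNs
  have hNo : Cfsg.Agent.Lib.Helper35.NoSL p ↥(Subgroup.normalizer (P : Set Z)) :=
    Cfsg.Agent.Lib.Helper35.noSL_of_odd hNodd
  have hVn : (P.subgroupOf (Subgroup.normalizer (P : Set Z))).Normal :=
    Subgroup.normal_in_normalizer
  have hVp : IsPGroup p (P.subgroupOf (Subgroup.normalizer (P : Set Z))) := hP.comap_subtype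
  have hq : ∀ v ∈ P.subgroupOf (Subgroup.normalizer (P : Set Z)),
      ⁅(⟨g, hg⟩ : ↥(Subgroup.normalizer (P : Set Z))),
        ⁅(⟨g, hg⟩ : ↥(Subgroup.normalizer (P : Set Z))), v⁆⁆ = 1 := by
    intro v hv
    have h1 := Cfsg.Agent.Lib.Helper35.PStab.quad_of_commutator P (Subgroup.zpowers g) hquad g
      (Subgroup.mem_zpowers g) (v : Z) (Subgroup.mem_subgroupOf.mp hv)
    apply Subtype.ext
    simpa [commutatorElement_def] using h1
  have hst := Cfsg.Agent.Lib.Helper35.PStab.mem_pCore_quotient hp2 hNps hNo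
    (P.subgroupOf (Subgroup.normalizer (P : Set Z))) hVp ⟨g, hg⟩ hq
  have heq : Subgroup.centralizer
      ((P.subgroupOf (Subgroup.normalizer (P : Set Z)) :
        Subgroup ↥(Subgroup.normalizer (P : Set Z))) : Set ↥(Subgroup.normalizer (P : Set Z))) =
      (Subgroup.centralizer (P : Set Z)).subgroupOf (Subgroup.normalizer (P : Set Z)) := by
    ext x
    rw [Subgroup.mem_centralizer_iff, Subgroup.mem_subgroupOf, Subgroup.mem_centralizer_iff]
    constructor
    · intro h1 q hq
      have := h1 ⟨q, Subgroup.le_normalizer hq⟩ (Subgroup.mem_subgroupOf.mpr hq)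
      exact congrArg Subtype.val this
    · intro h1 v hv
      exact Subtype.ext (h1 _ (Subgroup.mem_subgroupOf.mp hv))
  have h2 := Cfsg.Agent.Lib.Helper11.pCore_map_equiv_le' p
    (QuotientGroup.quotientMulEquivOfEq heq) (Subgroup.mem_map_of_mem _ hst)
  exact h2

section zj

variable {G : Type u} [Group G]

/-- `Z(J(S)) ≤ S`. -/
theorem centerThompsonAOf_le (S : Subgroup G) : centerThompsonAOf S ≤ S :=
  inf_le_left.trans (thompsonAOf_le S)

/-- `Z(J(S))` commutes with conjugation. -/
theorem centerThompsonAOf_cj (g : G) (S : Subgroup G) :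
    centerThompsonAOf (cj g S) = cj g (centerThompsonAOf S) := by
  unfold centerThompsonAOf
  rw [thompsonAOf_cj, cj_inf, centralizer_cj]

/-- `N_G(S) ≤ N_G(Z(J(S)))`. -/
theorem normalizer_le_normalizer_centerThompsonAOf (S : Subgroup G) :
    normalizer (S : Set G) ≤ normalizer ((centerThompsonAOf S : Subgroup G) : Set G) := by
  intro g hg
  rw [← cj_eq_self_iff] at hg ⊢
  rw [← centerThompsonAOf_cj, hg]

/-- `Z(J(T))` computed inside a subgroup `X` maps to `Z(J(T))` computed in `G`. -/
theorem centerThompsonAOf_map_subtype [Finite G] (X : Subgroup G) (T : Subgroup ↥X) :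
    (centerThompsonAOf T).map X.subtype = centerThompsonAOf (T.map X.subtype) := by
  unfold centerThompsonAOf
  rw [Cfsg.Agent.Lib.Helper11.map_inf_centralizer_of_injective _ X.subtype_injective,
    Cfsg.Agent.Lib.Helper51.TNPC.thompsonAOf_map_subtype]

/-- `Z(S) ≤ Z(J(S))`. -/
theorem center_le_centerThompsonAOf [Finite G] (S : Subgroup G) :
    S ⊓ centralizer (S : Set G) ≤ centerThompsonAOf S := by
  intro z hz
  obtain ⟨A, hA⟩ := exists_maxAbIn S
  have hzA : ∀ A ∈ maxAbIn S, z ∈ A := by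
    intro A hA
    obtain ⟨hAS, hAc, hAmax⟩ := hA
    have hcomm : IsMulCommutative ↥(A ⊔ Subgroup.zpowers z) := by
      rw [isMulComm_iff]
      have hzc : ∀ a ∈ A, a * z = z * a := fun a ha => (hz.2 a (hAS ha))
      have hAle : A ≤ centralizer ((A ⊔ Subgroup.zpowers z : Subgroup G) : Set G) := by
        rw [le_centralizer_iff, sup_le_iff]
        refine ⟨?_, ?_⟩
        · intro a ha
          rw [mem_centralizer_iff]
          intro b hb
          exact ((isMulComm_iff A).mp hAc b hb a ha)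
        · rw [Subgroup.zpowers_le, mem_centralizer_iff]
          intro a ha
          exact hzc a ha
      have hzle : Subgroup.zpowers z ≤
          centralizer ((A ⊔ Subgroup.zpowers z : Subgroup G) : Set G) := by
        rw [le_centralizer_iff, sup_le_iff]
        refine ⟨?_, ?_⟩
        · intro a ha
          rw [mem_centralizer_iff]
          intro b hb
          obtain ⟨k, rfl⟩ := Subgroup.mem_zpowers_iff.mp hb
          exact ((Commute.zpow_right (hzc a ha) k).eq).symm
        · intro b hb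
          rw [mem_centralizer_iff]
          intro c hc
          obtain ⟨k, rfl⟩ := Subgroup.mem_zpowers_iff.mp hb
          obtain ⟨l, rfl⟩ := Subgroup.mem_zpowers_iff.mp hc
          exact ((Commute.refl z).zpow_zpow l k).eq
      have hle : A ⊔ Subgroup.zpowers z ≤
          centralizer ((A ⊔ Subgroup.zpowers z : Subgroup G) : Set G) := sup_le hAle hzle
      intro a ha b hb
      exact (hle hb a ha)
    have hle : A ⊔ Subgroup.zpowers z ≤ S :=
      sup_le hAS (by rw [Subgroup.zpowers_le]; exact hz.1)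
    have hcard := hAmax _ hle hcomm
    have heq : A = A ⊔ Subgroup.zpowers z := by
      apply Subgroup.eq_of_le_of_card_ge le_sup_left hcard
    rw [heq]
    exact le_sup_right (a := A) (Subgroup.mem_zpowers z)
  refine ⟨le_thompsonAOf hA (hzA A hA), ?_⟩
  exact centralizer_le (thompsonAOf_le S) hz.2

/-- `Z(J(S)) ≠ 1` for a nontrivial `p`-group `S`. -/
theorem centerThompsonAOf_ne_bot [Finite G] {p : ℕ} [Fact p.Prime] {S : Subgroup G}
    (hS : IsPGroup p S) (hne : S ≠ ⊥) : centerThompsonAOf S ≠ ⊥ := by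
  have : Nontrivial ↥S := (Subgroup.nontrivial_iff_ne_bot _).mpr hne
  have := hS.center_nontrivial
  obtain ⟨z, hz1⟩ := exists_ne (1 : ↥(center ↥S))
  have hz : ((z : S) : G) ∈ S ⊓ centralizer (S : Set G) := by
    refine Subgroup.mem_inf.mpr ⟨(z : S).2, ?_⟩
    rw [mem_centralizer_iff]
    intro y hy
    have := (Subgroup.mem_center_iff.mp z.2) ⟨y, hy⟩
    exact congrArg Subtype.val this
  intro hbot
  have h1 := center_le_centerThompsonAOf S hz
  rw [hbot, mem_bot] at h1
  apply hz1
  apply Subtype.ext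
  apply Subtype.ext
  exact h1

/-- **ZJ-theorem at the subgroup level.** Let `X ≤ G` be solvable of odd order with `O_{p'}(X) = 1`
and `S` a Sylow `p`-subgroup of `X`. Then `X` normalizes `Z(J(S))`. -/
theorem le_normalizer_centerThompsonAOf [Finite G] {p : ℕ} [Fact p.Prime] (hp2 : p ≠ 2)
    {X S : Subgroup G} (hX : Group.IsSolvable ↥X) (hodd : Odd (Nat.card ↥X))
    (hcore : pPrimeCore p ↥X = ⊥) (hSX : S ≤ X) (hS : IsPGroup p S)
    (hSi : ¬ p ∣ S.relIndex X) :
    X ≤ normalizer ((centerThompsonAOf S : Subgroup G) : Set G) := by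
  obtain ⟨P, hP⟩ := Cfsg.Agent.Lib.Helper24.exists_sylow_map_eq X S hSX hS hSi
  have hst : IsNormalizerPStable p ↥X := isNormalizerPStable_of_odd_solvable hX hodd p hp2
  have := hX
  have hc := Cfsg.Agent.Lib.Helper55.centralizer_pCore_le (G := ↥X) p hcore
  have hD : IsStronglyClosed (P : Subgroup ↥X) (P : Subgroup ↥X) :=
    ⟨le_refl _, fun x _ g hg => hg⟩
  have hn := (Cfsg.Agent.S3079.result hp2 P (P : Subgroup ↥X) hD hst hc).1
  have hmap : (centerThompsonAOf (P : Subgroup ↥X)).map X.subtype = centerThompsonAOf S := by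
    rw [centerThompsonAOf_map_subtype, hP]
  intro x hx
  rw [← hmap, mem_normalizer_iff]
  intro y
  constructor
  · rintro ⟨y', hy', rfl⟩
    refine ⟨⟨x, hx⟩ * y' * ⟨x, hx⟩⁻¹, hn.conj_mem y' hy' ⟨x, hx⟩, rfl⟩
  · rintro ⟨w, hw, hwe⟩
    have hyX : y ∈ X := by
      have h1 : x⁻¹ * (x * y * x⁻¹) * x ∈ X :=
        X.mul_mem (X.mul_mem (X.inv_mem hx) (hwe ▸ w.2)) hx
      have h2 : x⁻¹ * (x * y * x⁻¹) * x = y := by group
      rwa [h2] at h1
    refine ⟨⟨y, hyX⟩, ?_, rfl⟩
    have h3 := hn.conj_mem w hw (⟨x, hx⟩⁻¹)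
    have h4 : (⟨x, hx⟩ : ↥X)⁻¹ * w * (⟨x, hx⟩ : ↥X)⁻¹⁻¹ = ⟨y, hyX⟩ := by
      apply Subtype.ext
      have : ((w : ↥X) : G) = x * y * x⁻¹ := hwe
      simp only [Subgroup.coe_mul, Subgroup.coe_inv, this]
      group
    rwa [h4] at h3

end zj

end Cfsg.Agent.Lib.Helper23
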