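import Mathlib

/-!
# OPBN-EXC-W (helper40's S2548 hive)

A group of order `72` containing a subgroup `A ⊔ B ≅ S₃ × S₃` of index `2` has derived subgroup
of order dividing `18`.
-/

namespace Cfsg.Agent.Lib.Helper40.OpBN

/-- A group of order `8` has a derived subgroup of order dividing `2`. -/
theorem excw_card_commutator_dvd_two {Q : Type*} [Group Q] [Finite Q] (h : Nat.card Q = 8) :
    Nat.card ↥(commutator Q) ∣ 2 := by
  have : Fact (Nat.Prime 2) := ⟨Nat.prime_two⟩
  have h8 : Nat.card Q = 2 ^ 3 := by rw [h]; norm_num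
  obtain ⟨k, hk0, hk⟩ := IsPGroup.card_center_eq_prime_pow h8 (by norm_num)
  have hidx : Nat.card (Subgroup.center Q) * (Subgroup.center Q).index = 8 := by
    rw [Subgroup.card_mul_index, h]
  have hk3 : k ≤ 3 := by
    have hdvd : 2 ^ k ∣ 2 ^ 3 := by
      rw [← hk, ← h8]; exact Subgroup.card_subgroup_dvd_card _
    exact (Nat.pow_dvd_pow_iff_le_right (by norm_num)).mp hdvd
  have hcase : k = 1 ∨ 2 ≤ k := by omega
  rcases hcase with rfl | hk2
  · -- centre of order 2, quotient of order 4 is commutative
    have hq : Nat.card (Q ⧸ Subgroup.center Q) = 2 ^ 2 := by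
      have : (Subgroup.center Q).index = 4 := by
        rw [hk] at hidx; omega
      rw [← Subgroup.index_eq_card] at *
      rw [this]; norm_num
    have hcomm := IsPGroup.isMulCommutative_of_card_eq_prime_sq hq
    have hle : commutator Q ≤ Subgroup.center Q :=
      Subgroup.Normal.quotient_commutative_iff_commutator_le.mp hcomm
    have := Subgroup.card_dvd_of_le hle
    rwa [hk, pow_one] at this
  · -- quotient by the centre of order ≤ 2, hence cyclic, so `Q` is commutative
    have hq : Nat.card (Q ⧸ Subgroup.center Q) ∣ 2 := by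
      rw [← Subgroup.index_eq_card]
      have h4 : 4 ∣ Nat.card (Subgroup.center Q) := by
        rw [hk]; exact pow_dvd_pow 2 hk2
      obtain ⟨c, hc⟩ := h4
      rw [hc] at hidx
      have : c * (Subgroup.center Q).index = 2 := by nlinarith
      exact Dvd.intro_left _ this
    have : IsCyclic (Q ⧸ Subgroup.center Q) := isCyclic_of_card_dvd_prime hq
    have hc : IsMulCommutative Q := isMulCommutative_of_isCyclic_quotient_center_self Q
    have : commutator Q = ⊥ := (commutator_eq_bot_iff Q).mpr hc
    rw [this]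
    simp

/-- Elements of `S₃` of order dividing `3` are exactly the even permutations. -/
theorem excw_perm_pow_three (s : Equiv.Perm (Fin 3)) :
    s ^ 3 = 1 ↔ s ∈ alternatingGroup (Fin 3) := by
  rw [Equiv.Perm.mem_alternatingGroup]
  revert s
  decide

theorem excw_card_alt_prod :
    Nat.card ↥((alternatingGroup (Fin 3)).prod (alternatingGroup (Fin 3))) = 9 := by
  rw [Nat.card_congr (Subgroup.prodEquiv _ _).toEquiv, Nat.card_prod, Nat.card_eq_fintype_card,
    card_alternatingGroup, Fintype.card_fin]
  decide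

/-- **OPBN-EXC-W.** A group of order `72` with commuting subgroups `A, B ≅ S₃`, `A ⊓ B = ⊥`,
`A ⊔ B` of index `2`, has derived subgroup of order dividing `18`. -/
theorem excw_card_commutator_dvd {G : Type*} [Group G] [Finite G] (hG : Nat.card G = 72)
    (A B : Subgroup G) (eA : ↥A ≃* Equiv.Perm (Fin 3)) (eB : ↥B ≃* Equiv.Perm (Fin 3))
    (hAB : A ⊓ B = ⊥) (hcomm : ∀ a ∈ A, ∀ b ∈ B, a * b = b * a) (hidx : (A ⊔ B).index = 2) :
    Nat.card ↥(commutator G) ∣ 18 := by
  classical
  -- the embedding `S₃ × S₃ → G`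
  let fA : Equiv.Perm (Fin 3) →* G := A.subtype.comp eA.symm.toMonoidHom
  let fB : Equiv.Perm (Fin 3) →* G := B.subtype.comp eB.symm.toMonoidHom
  have hfA : Function.Injective fA := A.subtype_injective.comp eA.symm.injective
  have hfB : Function.Injective fB := B.subtype_injective.comp eB.symm.injective
  have hrA : fA.range = A := by
    ext x
    constructor
    · rintro ⟨s, rfl⟩; exact (eA.symm s).2
    · intro hx; exact ⟨eA ⟨x, hx⟩, by simp [fA]⟩
  have hrB : fB.range = B := by
    ext x
    constructor
    · rintro ⟨s, rfl⟩; exact (eB.symm s).2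
    · intro hx; exact ⟨eB ⟨x, hx⟩, by simp [fB]⟩
  have hc : ∀ (s t : Equiv.Perm (Fin 3)), Commute (fA s) (fB t) := fun s t =>
    hcomm _ (eA.symm s).2 _ (eB.symm t).2
  let g : Equiv.Perm (Fin 3) × Equiv.Perm (Fin 3) →* G := MonoidHom.noncommCoprod fA fB hc
  have hg : Function.Injective g := by
    rw [MonoidHom.noncommCoprod_injective]
    refine ⟨hfA, hfB, ?_⟩
    rw [hrA, hrB, disjoint_iff, hAB]
  have hrg : g.range = A ⊔ B := by
    rw [MonoidHom.noncommCoprod_range, hrA, hrB]
  -- the normal subgroup of order `9`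
  let N : Subgroup G :=
    ((alternatingGroup (Fin 3)).prod (alternatingGroup (Fin 3))).map g
  have hNcard : Nat.card ↥N = 9 := by
    rw [Subgroup.card_map_of_injective hg, excw_card_alt_prod]
  have hNmem : ∀ x : G, x ∈ N ↔ x ^ 3 = 1 := by
    intro x
    constructor
    · rintro ⟨⟨s, t⟩, hst, rfl⟩
      rw [SetLike.mem_coe, Subgroup.mem_prod] at hst
      rw [← map_pow, Prod.pow_mk, (excw_perm_pow_three s).mpr hst.1,
        (excw_perm_pow_three t).mpr hst.2, ← Prod.one_eq_mk, map_one]
    · intro hx
      have hxH : x ∈ A ⊔ B := by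
        have h2 : x ^ 2 ∈ A ⊔ B := Subgroup.sq_mem_of_index_two hidx x
        have : x = x ^ 3 * (x ^ 2)⁻¹ := by group
        rw [this, hx, one_mul]
        exact inv_mem h2
      rw [← hrg] at hxH
      obtain ⟨⟨s, t⟩, rfl⟩ := hxH
      rw [← map_pow, Prod.pow_mk] at hx
      have h1 : ((s ^ 3, t ^ 3) : Equiv.Perm (Fin 3) × Equiv.Perm (Fin 3)) = 1 :=
        hg (by rw [hx, map_one])
      rw [Prod.mk_eq_one] at h1
      refine ⟨(s, t), ?_, rfl⟩
      rw [SetLike.mem_coe, Subgroup.mem_prod]
      exact ⟨(excw_perm_pow_three s).mp h1.1, (excw_perm_pow_three t).mp h1.2⟩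
  have hNn : N.Normal := by
    refine ⟨fun n hn x => ?_⟩
    rw [hNmem] at hn ⊢
    rw [conj_pow, hn, mul_one, mul_inv_cancel]
  -- the quotient of order `8`
  have hQ : Nat.card (G ⧸ N) = 8 := by
    have := N.card_mul_index
    rw [hNcard, hG, Subgroup.index_eq_card] at this
    omega
  have hK := excw_card_commutator_dvd_two hQ
  set K : Subgroup (G ⧸ N) := commutator (G ⧸ N) with hKdef
  let C : Subgroup G := K.comap (QuotientGroup.mk' N)
  have hle : commutator G ≤ C := by
    rw [← Subgroup.map_le_iff_le_comap, commutator_def, Subgroup.map_commutator, hKdef,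
      commutator_def]
    exact Subgroup.commutator_mono le_top le_top
  have hCidx : C.index = K.index :=
    Subgroup.index_comap_of_surjective K (QuotientGroup.mk'_surjective N)
  have hK8 : Nat.card ↥K * K.index = 8 := by rw [Subgroup.card_mul_index, hQ]
  have hC72 : Nat.card ↥C * C.index = 72 := by rw [Subgroup.card_mul_index, hG]
  have hCdvd : Nat.card ↥C ∣ 18 := by
    rw [hCidx] at hC72
    have hK12 : Nat.card ↥K = 1 ∨ Nat.card ↥K = 2 := by
      have := Nat.le_of_dvd (by norm_num) hK
      have hpos : 0 < Nat.card ↥K := Nat.card_pos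
      interval_cases (Nat.card ↥K) <;> simp_all
    rcases hK12 with h1 | h2
    · rw [h1] at hK8
      have : K.index = 8 := by omega
      rw [this] at hC72
      have : Nat.card ↥C = 9 := by omega
      rw [this]; norm_num
    · rw [h2] at hK8
      have : K.index = 4 := by omega
      rw [this] at hC72
      have : Nat.card ↥C = 18 := by omega
      rw [this]
  exact (Subgroup.card_dvd_of_le hle).trans hCdvd

end Cfsg.Agent.Lib.Helper40.OpBN
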