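import Mathlib
import Cfsg.Agent.Lib.Helper90.PsuDefs

set_option autoImplicit false

/-! # Psu hive (S2412, helper90): leaf PSU-WITT (`exists_wittCfg`, `WittCfg.exists_vec`) -/

namespace Cfsg.Agent.Lib.Helper90.Psu

open Matrix Cfsg.Agent.Lib.Helper99 Cfsg.Agent.Lib.Helper13

variable {F : Type*} [Field F] [Fintype F] {q n : ℕ}

local notation "hh" => Cfsg.hermForm n F q

/-- PSU-WITT. -/
theorem exists_wittCfg (hF : Fintype.card F = q ^ 2) (m : ℕ) (hm : 2 * m ≤ n) :
    Nonempty (WittCfg q n m F) := by
  classical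
  have hq0 : q ≠ 0 := by
    have := q_ge_two hF
    omega
  have key : ∀ i : Fin m, ∃ e f : Fin n → F, hh e e = 0 ∧ hh f f = 0 ∧ hh e f = 1 ∧
      (∀ k : Fin n, k.val ≠ 2 * i.val → k.val ≠ 2 * i.val + 1 → e k = 0 ∧ f k = 0) := by
    intro i
    have h0 : 2 * i.val < n := by
      have := i.2
      omega
    have h1 : 2 * i.val + 1 < n := by
      have := i.2
      omega
    obtain ⟨e, f, h1', h2, h3, h4⟩ := exists_hyp_pair_coords hF (⟨2 * i.val, h0⟩ : Fin n)
      ⟨2 * i.val + 1, h1⟩ (by simp [Fin.ext_iff])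
    refine ⟨e, f, h1', h2, h3, fun k hk0 hk1 => h4 k ?_ ?_⟩
    · intro h
      apply hk0
      rw [h]
    · intro h
      apply hk1
      rw [h]
  choose e f hee hff hef hsupp using key
  have hdis : ∀ i j : Fin m, i ≠ j → ∀ k : Fin n,
      (e i k = 0 ∧ f i k = 0) ∨ (e j k = 0 ∧ f j k = 0) := by
    intro i j hij k
    by_cases hk : k.val = 2 * i.val ∨ k.val = 2 * i.val + 1
    · right
      apply hsupp j k
      · intro h
        apply hij
        ext
        omega
      · intro h
        apply hij
        ext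
        omega
    · left
      push Not at hk
      exact hsupp i k hk.1 hk.2
  refine ⟨⟨e, f, ?_, ?_, ?_, hsupp⟩⟩
  · intro i j
    by_cases hij : i = j
    · subst hij
      exact hee i
    · exact hermForm_eq_zero_of_disjoint _ _
        (fun k => (hdis i j hij k).imp And.left And.left) hq0
  · intro i j
    by_cases hij : i = j
    · subst hij
      exact hff i
    · exact hermForm_eq_zero_of_disjoint _ _
        (fun k => (hdis i j hij k).imp And.right And.right) hq0
  · intro i j
    by_cases hij : i = j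
    · subst hij
      rw [if_pos rfl]
      exact hef i
    · rw [if_neg hij]
      exact hermForm_eq_zero_of_disjoint _ _
        (fun k => (hdis i j hij k).imp And.left And.right) hq0

/-- both coordinates `2 i`, `2 i + 1` of a Witt configuration exist. -/
theorem witt_lt (hF : Fintype.card F = q ^ 2) {m : ℕ} (C : WittCfg q n m F) (i : Fin m) :
    2 * i.val + 1 < n := by
  classical
  by_contra hlt
  push Not at hlt
  have hq0 : q ≠ 0 := by
    have := q_ge_two hF
    omega
  have he : C.e i = 0 := by
    funext k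
    by_cases hk : k.val = 2 * i.val
    · have hsum : hh (C.e i) (C.e i) = C.e i k * (C.e i k) ^ q := by
        unfold Cfsg.hermForm
        apply Finset.sum_eq_single k
        · intro b _ hb
          have hb0 : C.e i b = 0 :=
            (C.supp i b (fun h => hb (Fin.ext (by omega))) (by have := b.2; omega)).1
          rw [hb0, zero_mul]
        · intro h
          exact absurd (Finset.mem_univ k) h
      rw [C.hee i i] at hsum
      have h2 : C.e i k ^ (q + 1) = 0 := by
        rw [pow_succ']
        exact hsum.symm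
      exact (pow_eq_zero_iff (by omega)).1 h2
    · exact (C.supp i k hk (by have := k.2; omega)).1
  have h3 := C.hef i i
  rw [if_pos rfl, he, hermForm_zero_left] at h3
  exact zero_ne_one h3

/-- in the `i`-th coordinate plane every vector is a combination of `e i`, `f i`. -/
theorem witt_solve (hF : Fintype.card F = q ^ 2) {m : ℕ} (C : WittCfg q n m F)
    (v : Fin n → F) (i : Fin m) : ∃ a b : F, ∀ k : Fin n,
      (k.val = 2 * i.val ∨ k.val = 2 * i.val + 1) → v k = a * C.e i k + b * C.f i k := by
  classical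
  have hq0 : q ≠ 0 := by
    have := q_ge_two hF
    omega
  have h1 := witt_lt hF C i
  have h0 : 2 * i.val < n := by omega
  obtain ⟨k0, hk0⟩ : ∃ k0 : Fin n, k0 = ⟨2 * i.val, h0⟩ := ⟨_, rfl⟩
  obtain ⟨k1, hk1⟩ : ∃ k1 : Fin n, k1 = ⟨2 * i.val + 1, h1⟩ := ⟨_, rfl⟩
  have hk01 : k0 ≠ k1 := by
    rw [hk0, hk1]
    simp [Fin.ext_iff]
  have hsum : ∀ x y : Fin n → F,
      (∀ k : Fin n, k.val ≠ 2 * i.val → k.val ≠ 2 * i.val + 1 → x k = 0) →
      hh x y = x k0 * y k0 ^ q + x k1 * y k1 ^ q := by
    intro x y hx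
    unfold Cfsg.hermForm
    apply Finset.sum_eq_add k0 k1 hk01
    · intro c _ hc
      rw [hx c (fun h => hc.1 (by rw [hk0]; exact Fin.ext h))
        (fun h => hc.2 (by rw [hk1]; exact Fin.ext h)), zero_mul]
    · intro h
      exact absurd (Finset.mem_univ _) h
    · intro h
      exact absurd (Finset.mem_univ _) h
  have hef := C.hef i i
  rw [if_pos rfl, hsum _ _ (fun k h0 h1 => (C.supp i k h0 h1).1)] at hef
  have hff := C.hff i i
  rw [hsum _ _ (fun k h0 h1 => (C.supp i k h0 h1).2)] at hff
  have hD : C.e i k0 * C.f i k1 - C.e i k1 * C.f i k0 ≠ 0 := by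
    intro hD
    have hf1 : C.f i k1 = 0 := by
      linear_combination (-(C.f i k1)) * hef + C.e i k1 * hff + (C.f i k0) ^ q * hD
    have hf0 : C.f i k0 = 0 := by
      linear_combination (-(C.f i k0)) * hef + C.e i k0 * hff - (C.f i k1) ^ q * hD
    rw [hf0, hf1, zero_pow hq0, mul_zero, mul_zero, add_zero] at hef
    exact zero_ne_one hef
  refine ⟨(v k0 * C.f i k1 - v k1 * C.f i k0) / (C.e i k0 * C.f i k1 - C.e i k1 * C.f i k0),
    (C.e i k0 * v k1 - C.e i k1 * v k0) / (C.e i k0 * C.f i k1 - C.e i k1 * C.f i k0), ?_⟩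
  intro k hk
  rcases hk with hk | hk
  · have hkk : k = k0 := by
      rw [hk0]
      exact Fin.ext hk
    rw [hkk, div_mul_eq_mul_div, div_mul_eq_mul_div, ← add_div, eq_div_iff hD]
    ring
  · have hkk : k = k1 := by
      rw [hk1]
      exact Fin.ext hk
    rw [hkk, div_mul_eq_mul_div, div_mul_eq_mul_div, ← add_div, eq_div_iff hD]
    ring

/-- PSU-WITT. -/
theorem WittCfg.exists_vec (hF : Fintype.card F = q ^ 2) {m : ℕ} (C : WittCfg q n m F)
    (v : Fin n → F) (hv : SuppLt (2 * m) v) : ∃ a b : Fin m → F, v = C.vec a b := by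
  classical
  choose a b hab using witt_solve hF C v
  refine ⟨a, b, ?_⟩
  funext k
  have hvec : C.vec a b k = ∑ i, a i * C.e i k + ∑ i, b i * C.f i k := by
    simp [WittCfg.vec, Finset.sum_apply, Pi.add_apply, Pi.smul_apply, smul_eq_mul]
  rw [hvec]
  by_cases hk : k.val < 2 * m
  · have hi : k.val / 2 < m := by omega
    have hother : ∀ j : Fin m, j ≠ ⟨k.val / 2, hi⟩ → C.e j k = 0 ∧ C.f j k = 0 := by
      intro j hj
      have hj' : j.val ≠ k.val / 2 := fun h => hj (Fin.ext h)
      exact C.supp j k (by omega) (by omega)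
    rw [Finset.sum_eq_single (⟨k.val / 2, hi⟩ : Fin m), Finset.sum_eq_single (⟨k.val / 2, hi⟩ : Fin m)]
    · exact hab ⟨k.val / 2, hi⟩ k (by simp only; omega)
    · intro j _ hj
      rw [(hother j hj).2, mul_zero]
    · intro h
      exact absurd (Finset.mem_univ _) h
    · intro j _ hj
      rw [(hother j hj).1, mul_zero]
    · intro h
      exact absurd (Finset.mem_univ _) h
  · push Not at hk
    rw [hv k hk, Finset.sum_eq_zero, Finset.sum_eq_zero, add_zero]
    · intro j _
      have := j.2
      rw [(C.supp j k (by omega) (by omega)).2, mul_zero]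
    · intro j _
      have := j.2
      rw [(C.supp j k (by omega) (by omega)).1, mul_zero]

end Cfsg.Agent.Lib.Helper90.Psu
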