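import Mathlib

set_option autoImplicit false

/-! # Rt hive (helper12; RT-R7CENT of helper52): TWIN of sub-leaf R7C-CNT (the hive uses `Helper90.RtR7CCNT.r7cent_card_modEq`; this copy is renamed to avoid a clash)

For `S ^ p = 1` on a finite vector space `V` over a finite field `K`: `|V| ≡ |ker (S - 1)|` mod `p`
(the cyclic `p`-group `⟨S⟩` acts on `V` with fixed points `ker (S - 1)`). -/

namespace Cfsg.Agent.Lib.Helper12.Rt

theorem r7ccnt_twin_card_modEq {K : Type*} [Field K] [Fintype K] {V : Type*} [AddCommGroup V]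
    [Module K V] [Module.Finite K V] (p : ℕ) (hp : p.Prime) (S : Module.End K V)
    (hS : S ^ p = 1) :
    Fintype.card K ^ Module.finrank K V ≡
      Fintype.card K ^ Module.finrank K (LinearMap.ker (S - 1)) [MOD p] := by
  classical
  have : Fact p.Prime := ⟨hp⟩
  have : Finite V := Module.finite_of_finite K
  have hSS : S * S ^ (p - 1) = 1 := by
    rw [← pow_succ', Nat.sub_add_cancel hp.one_le, hS]
  have hSS' : S ^ (p - 1) * S = 1 := by
    rw [← pow_succ, Nat.sub_add_cancel hp.one_le, hS]
  obtain ⟨u, hu⟩ : ∃ u : (Module.End K V)ˣ, (u : Module.End K V) = S :=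
    ⟨⟨S, S ^ (p - 1), hSS, hSS'⟩, rfl⟩
  have hup : u ^ p = 1 := by
    apply Units.ext
    rw [Units.val_pow_eq_pow_val, hu, hS, Units.val_one]
  have hZ : IsPGroup p (Subgroup.zpowers u) := by
    rintro ⟨g, hg⟩
    obtain ⟨n, rfl⟩ := Subgroup.mem_zpowers_iff.1 hg
    refine ⟨1, ?_⟩
    apply Subtype.ext
    rw [pow_one, Subgroup.coe_pow, Subgroup.coe_one]
    show (u ^ n) ^ p = 1
    rw [← zpow_natCast, ← zpow_mul, mul_comm, zpow_mul, zpow_natCast, hup, one_zpow]
  have key := hZ.card_modEq_card_fixedPoints V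
  have hfix : (MulAction.fixedPoints (Subgroup.zpowers u) V : Set V) =
      ((LinearMap.ker (S - 1) : Submodule K V) : Set V) := by
    ext v
    simp only [MulAction.mem_fixedPoints, SetLike.mem_coe, LinearMap.mem_ker,
      LinearMap.sub_apply, Module.End.one_apply, sub_eq_zero]
    constructor
    · intro h
      have h1 := h ⟨u, Subgroup.mem_zpowers u⟩
      have h2 : (⟨u, Subgroup.mem_zpowers u⟩ : Subgroup.zpowers u) • v = S v := by
        rw [Subgroup.smul_def, Units.smul_def, hu]
        rfl
      rw [← h2]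
      exact h1
    · intro h z
      have hu_stab : u ∈ MulAction.stabilizer ((Module.End K V)ˣ) v := by
        rw [MulAction.mem_stabilizer_iff, Units.smul_def, hu]
        exact h
      have hz : (z : (Module.End K V)ˣ) ∈ MulAction.stabilizer ((Module.End K V)ˣ) v :=
        (Subgroup.zpowers_le.2 hu_stab) z.2
      rw [Subgroup.smul_def]
      exact MulAction.mem_stabilizer_iff.1 hz
  have hcard : Nat.card (MulAction.fixedPoints (Subgroup.zpowers u) V) =
      Nat.card (LinearMap.ker (S - 1)) := by
    rw [hfix]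
    rfl
  rw [hcard, Module.natCard_eq_pow_finrank (K := K) (V := V),
    Module.natCard_eq_pow_finrank (K := K) (V := LinearMap.ker (S - 1)),
    Nat.card_eq_fintype_card] at key
  exact key

end Cfsg.Agent.Lib.Helper12.Rt
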