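import Mathlib
import Cfsg.Prelude.Def_ClassicalGeometry
import Cfsg.Prelude.Def_GeometricClasses
import Cfsg.Agent.Lib.Helper59.TqDefs
import Cfsg.Agent.Lib.Helper5.HyDefs
import Cfsg.Agent.Lib.Helper48.TiInd

/-! # TWOFIX-IRR (helper67's TQ-TWOFIX sub-hive; Tq hive of helper59, S5973 + S5987)

`q ≡ 3 (mod 4)`, `f` an isometry with `f * f = -1`, `m` even: there is an `f`-invariant totally
isotropic subspace of dimension `m` (`2 m ≤ dim V`), via the alternating form `β u v = B u (f v)`
and `Helper48.Ti.exists_ti_irred` for the irreducible polynomial `X² + 1`. -/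

set_option autoImplicit false
set_option linter.unusedSectionVars false

namespace Cfsg.Agent.Lib.Helper59.Tq

open Module Polynomial
open Cfsg.Agent.Lib.Helper2.BG Cfsg.Agent.Lib.Helper99 Cfsg.Agent.Lib.Helper48.Ti
open Cfsg.Agent.Lib.Helper5.Hy

section twofix_abs

variable {F V : Type*} [Field F] [Fintype F] [AddCommGroup V] [Module F V] [FiniteDimensional F V]
variable {B : V →ₗ[F] V →ₗ[F] F}

/-- `X² + 1` is irreducible when `-1` is not a square -/
theorem twofix_irr_irreducible (hq3 : Fintype.card F % 4 = 3) :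
    Irreducible (X ^ 2 + 1 : F[X]) := by
  have hdeg : (X ^ 2 + 1 : F[X]).natDegree = 2 := by
    rw [show (X ^ 2 + 1 : F[X]) = X ^ 2 + C 1 by simp]
    exact natDegree_X_pow_add_C
  apply Polynomial.irreducible_of_degree_le_three_of_not_isRoot
  · rw [hdeg]; simp
  · intro x hx
    rw [IsRoot.def, eval_add, eval_pow, eval_X, eval_one] at hx
    have hsq : IsSquare (-1 : F) := ⟨x, by rw [← pow_two]; exact (eq_neg_of_add_eq_zero_left hx).symm⟩
    have := FiniteField.isSquare_neg_one_iff.mp hsq
    exact this hq3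

/-- TWOFIX-IRR (`q ≡ 3 (mod 4)`, `m` even): `X² + 1` is irreducible; `β u v := B u (f v)` is
ALTERNATING (`B v (f v) = 0`), nondegenerate, `f` is a `β`-isometry, semisimple
(`Module.End.isSemisimple_of_squarefree_aeval_eq_zero`), injective; for an `f`-invariant `U`:
`TI β U ↔ TI B U`.  `Cfsg.Agent.Lib.Helper48.Ti.exists_ti_irred` (Lib/Helper48/TiInd.lean) with
`φ = X² + 1`, `k = m / 2`, `Z = ⊤`. -/
theorem twofix_neg_even (hq3 : Fintype.card F % 4 = 3) (hs : ∀ u v, B u v = B v u)
    (hV : Nd B ⊤) {f : Module.End F V} (hf : Isom B f) (hff : f * f = -1) (m : ℕ)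
    (hme : Even m) (hm : 2 * m ≤ finrank F V) :
    ∃ W : Submodule F V, finrank F W = m ∧ TI B W ∧ Inv f W := by
  have h2 : (2 : F) ≠ 0 := by
    apply Ring.two_ne_zero
    intro h
    have := FiniteField.even_card_iff_char_two.mp h
    omega
  have hffv : ∀ v, f (f v) = -v := by
    intro v
    have := congrArg (fun g : Module.End F V => g v) hff
    simpa using this
  -- the alternating form
  let β : V →ₗ[F] V →ₗ[F] F := B.compl₂ f
  have hβ : ∀ u v, β u v = B u (f v) := fun u v => rfl
  have halt : ∀ v, β v v = 0 := by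
    intro v
    rw [hβ]
    have h1 : B v (f v) = - B v (f v) := by
      calc B v (f v) = B (f v) (f (f v)) := (hf v (f v)).symm
        _ = - B (f v) v := by rw [hffv, map_neg]
        _ = - B v (f v) := by rw [hs]
    have h3 : (2 : F) * B v (f v) = 0 := by
      rw [two_mul]
      nth_rewrite 1 [h1]
      exact neg_add_cancel _
    rcases mul_eq_zero.mp h3 with h | h
    · exact absurd h h2
    · exact h
  have hβf : Isom β f := by
    intro u v
    rw [hβ, hβ]
    exact hf u (f v)
  have hinj : Function.Injective f := by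
    intro u v huv
    have := congrArg f huv
    rw [hffv, hffv] at this
    exact neg_injective this
  have hirr : Irreducible (X ^ 2 + 1 : F[X]) := twofix_irr_irreducible hq3
  have hkill : aeval f (X ^ 2 + 1 : F[X]) = 0 := by
    rw [map_add, map_pow, aeval_X, map_one, pow_two, hff]
    exact neg_add_cancel _
  have hss : f.IsSemisimple :=
    Module.End.isSemisimple_of_squarefree_aeval_eq_zero hirr.squarefree hkill
  have hdeg : (X ^ 2 + 1 : F[X]).natDegree = 2 := by
    rw [show (X ^ 2 + 1 : F[X]) = X ^ 2 + C 1 by simp]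
    exact natDegree_X_pow_add_C
  have hNdβ : Nd β ⊤ := by
    intro u _ hu
    apply hV u Submodule.mem_top
    intro v _
    have := hu (-(f v)) Submodule.mem_top
    rw [hβ, map_neg, hffv, neg_neg] at this
    exact this
  obtain ⟨k, hk⟩ := hme
  have hgood := exists_ti_irred halt hβf hinj hss hirr hkill k ⊤ hNdβ (inv_top f)
    (by rw [hdeg, finrank_top]; omega)
  obtain ⟨U, -, hUinv, hUti, hUdim⟩ := hgood
  refine ⟨U, by rw [hUdim, hdeg]; omega, ?_, hUinv⟩
  intro u hu v hv
  have h1 := hUti u hu (-(f v)) (U.neg_mem (hUinv v hv))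
  rw [hβ, map_neg, hffv, neg_neg] at h1
  exact h1

end twofix_abs

end Cfsg.Agent.Lib.Helper59.Tq
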