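import Mathlib
import Cfsg.Prelude.Def_ClassicalGeometry
import Cfsg.Prelude.Def_GeometricClasses
import Cfsg.Agent.Lib.Helper59.TqDefs
import Cfsg.Agent.Lib.Helper5.HyDefs
import Cfsg.Agent.Lib.Helper67.TsINVOL
import Cfsg.Agent.Lib.Helper2.BGMain

/-! # TWOFIX-SPLIT (helper67's TQ-TWOFIX sub-hive; Tq hive of helper59, S5973 + S5987)

`q ≡ 1 (mod 4)`, `f` an isometry with `f * f = -1`: the eigenspace `ker (f - ι)` (`ι² = -1`) is
totally isotropic of dimension `≥ dim V / 2` and all its subspaces are `f`-invariant. -/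

set_option autoImplicit false
set_option linter.unusedSectionVars false

namespace Cfsg.Agent.Lib.Helper59.Tq

open Module
open Cfsg.Agent.Lib.Helper2.BG Cfsg.Agent.Lib.Helper99 Cfsg.Agent.Lib.Helper48.Ti
open Cfsg.Agent.Lib.Helper5.Hy

section twofix_abs

variable {F V : Type*} [Field F] [Fintype F] [AddCommGroup V] [Module F V] [FiniteDimensional F V]
variable {B : V →ₗ[F] V →ₗ[F] F}

/-- `2 ≠ 0` in a finite field of odd cardinality -/
theorem twofix_split_two_ne_zero (hodd : Fintype.card F % 2 = 1) : (2 : F) ≠ 0 := by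
  apply Ring.two_ne_zero
  intro h
  have := FiniteField.even_card_iff_char_two.mp h
  omega

/-- the eigenspace of `f` for a square root `c` of `-1` is totally isotropic -/
theorem twofix_split_ti (h2 : (2 : F) ≠ 0) {f : Module.End F V} (hf : Isom B f) (c : F)
    (hc : c * c = -1) : TI B (LinearMap.ker (f - algebraMap F (Module.End F V) c)) := by
  intro u hu v hv
  have hu' : f u = c • u := by
    have := LinearMap.mem_ker.mp hu
    rw [LinearMap.sub_apply, Module.algebraMap_end_apply, sub_eq_zero] at this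
    exact this
  have hv' : f v = c • v := by
    have := LinearMap.mem_ker.mp hv
    rw [LinearMap.sub_apply, Module.algebraMap_end_apply, sub_eq_zero] at this
    exact this
  have h1 := hf u v
  rw [hu', hv', map_smul, map_smul, LinearMap.smul_apply, smul_eq_mul, smul_eq_mul, ← mul_assoc,
    hc] at h1
  have h3 : (2 : F) * B u v = 0 := by
    have : B u v + B u v = 0 := by
      nth_rewrite 1 [← h1]
      ring
    rw [two_mul]; exact this
  rcases mul_eq_zero.mp h3 with h | h
  · exact absurd h h2
  · exact h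

/-- TWOFIX-SPLIT (`q ≡ 1 (mod 4)`): `ι² = -1`; `E = ker (f - ι)` is totally isotropic
(`B u v = B (f u) (f v) = ι² B u v = - B u v`), `V = ker (f - ι) ⊕ ker (f + ι)`, both t.i., so both
of dimension `dim V / 2` (`Cfsg.Agent.Lib.Helper67.Ts.ts_bound`); every subspace of `E` is `f`-invariant. -/
theorem twofix_neg_split (hq1 : Fintype.card F % 4 = 1) (hs : ∀ u v, B u v = B v u)
    (hV : Nd B ⊤) {f : Module.End F V} (hf : Isom B f) (hff : f * f = -1) (m : ℕ)
    (hm : 2 * m ≤ finrank F V) :
    ∃ W : Submodule F V, finrank F W = m ∧ TI B W ∧ Inv f W := by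
  have h2 : (2 : F) ≠ 0 := twofix_split_two_ne_zero (by omega)
  obtain ⟨c, hc⟩ : IsSquare (-1 : F) := FiniteField.isSquare_neg_one_iff.mpr (by omega)
  have hc' : c * c = -1 := hc.symm
  have hc0 : c ≠ 0 := by
    rintro rfl
    simp at hc'
  have hcn : (-c) * (-c) = -1 := by rw [neg_mul_neg, hc']
  set Ep : Submodule F V := LinearMap.ker (f - algebraMap F (Module.End F V) c) with hEp
  set Em : Submodule F V := LinearMap.ker (f - algebraMap F (Module.End F V) (-c)) with hEm
  have hTIp : TI B Ep := twofix_split_ti h2 hf c hc'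
  have hTIm : TI B Em := twofix_split_ti h2 hf (-c) hcn
  have hffv : ∀ v, f (f v) = -v := by
    intro v
    have := congrArg (fun g : Module.End F V => g v) hff
    simpa using this
  -- `V = Ep ⊔ Em`
  have hsup : Ep ⊔ Em = ⊤ := by
    rw [eq_top_iff]
    intro v _
    have h2c : (2 * c : F) ≠ 0 := mul_ne_zero h2 hc0
    have hv : v = (2 * c)⁻¹ • (f v + c • v) + (2 * c)⁻¹ • (c • v - f v) := by
      rw [← smul_add]
      have : f v + c • v + (c • v - f v) = (2 * c) • v := by
        rw [mul_smul, two_smul]; abel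
      rw [this, smul_smul, inv_mul_cancel₀ h2c, one_smul]
    rw [hv]
    apply Submodule.add_mem_sup
    · apply Submodule.smul_mem
      rw [hEp, LinearMap.mem_ker, LinearMap.sub_apply, Module.algebraMap_end_apply, map_add,
        map_smul, hffv, smul_add, smul_smul, hc']
      simp only [neg_smul, one_smul]
      abel
    · apply Submodule.smul_mem
      rw [hEm, LinearMap.mem_ker, LinearMap.sub_apply, Module.algebraMap_end_apply, map_sub,
        map_smul, hffv, smul_sub, smul_smul, neg_mul, hc']
      simp only [neg_smul, one_smul, neg_neg, sub_neg_eq_add]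
      abel
  have hbm : 2 * finrank F Em ≤ finrank F (⊤ : Submodule F V) :=
    Cfsg.Agent.Lib.Helper67.Ts.ts_bound hs hV le_top hTIm
  have hdim := Submodule.finrank_sup_add_finrank_inf_eq Ep Em
  rw [hsup] at hdim
  rw [finrank_top] at hbm hdim
  have hinf : finrank F ↥(Ep ⊓ Em) ≤ finrank F Em := Submodule.finrank_mono inf_le_right
  have hEpdim : m ≤ finrank F Ep := by omega
  -- a subspace of dimension `m` inside `Ep`
  obtain ⟨W0, hW0⟩ := exists_finrank_eq' (F := F) (V := Ep) m hEpdim
  refine ⟨W0.map Ep.subtype, ?_, ?_, ?_⟩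
  · rw [← hW0]
    exact (Submodule.equivMapOfInjective Ep.subtype Ep.subtype_injective W0).symm.finrank_eq
  · rintro _ ⟨u, _, rfl⟩ _ ⟨v, _, rfl⟩
    exact hTIp _ u.2 _ v.2
  · rintro _ ⟨u, hu, rfl⟩
    have hfu : f (u : V) = c • (u : V) := by
      have := LinearMap.mem_ker.mp u.2
      rw [LinearMap.sub_apply, Module.algebraMap_end_apply, sub_eq_zero] at this
      exact this
    rw [Submodule.subtype_apply, hfu]
    exact ⟨c • u, W0.smul_mem c hu, by simp⟩

end twofix_abs

end Cfsg.Agent.Lib.Helper59.Tq
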