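import Mathlib
import Cfsg.Agent.Lib.Helper23.TransCore

set_option autoImplicit false

/-!
# Thompson transitivity from local data

`TransData` packages what the three versions of the transitivity theorem (the `p`-constrained
one, the odd order one, the signalizer functor one) have in common: an acting `p`-group `A`
with a central elementary abelian subgroup `A₀` of order `p ^ 3`, a family `F` of `A`-invariant
`q`-subgroups, and for each non-identity `a ∈ A₀` an `A`-invariant `p'`-subgroup `L a`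
containing `C_Y(a)` for every `Y ∈ F`.
-/

namespace Cfsg.Agent.Lib.Helper23

open Subgroup Cfsg.Agent.Lib.Helper33 Cfsg.Agent.Lib.Helper24

universe u

variable {G : Type u} [Group G]

structure TransData (p q : ℕ) (A A₀ C : Subgroup G) (F : Set (Subgroup G))
    (L : G → Subgroup G) : Prop where
  hA : IsPGroup p A
  hA₀A : A₀ ≤ A
  hA₀c : ∀ a ∈ A₀, ∀ b ∈ A, a * b = b * a
  hA₀p : ∀ a ∈ A₀, a ^ p = 1
  hA₀card : Nat.card A₀ = p ^ 3
  hqp : q ≠ p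
  hFq : ∀ Y ∈ F, IsPGroup q Y
  hFA : ∀ Y ∈ F, A ≤ normalizer (Y : Set G)
  hFsub : ∀ Y ∈ F, ∀ T : Subgroup G, T ≤ Y → A ≤ normalizer (T : Set G) → T ∈ F
  hFconj : ∀ Y ∈ F, ∀ c ∈ C, cj c Y ∈ F
  hL1 : ∀ a ∈ A₀, a ≠ 1 → ¬ p ∣ Nat.card (L a)
  hL2 : ∀ a ∈ A₀, a ≠ 1 → A ≤ normalizer ((L a : Subgroup G) : Set G)
  hL3 : ∀ a ∈ A₀, a ≠ 1 → ∀ Y ∈ F, Y ⊓ centralizer ({a} : Set G) ≤ L a
  hLW : ∀ a ∈ A₀, a ≠ 1 → ∀ D ∈ F,
    (∀ T : Subgroup G, T ≤ (L a ⊓ normalizer (D : Set G)) ⊔ D → IsPGroup q T →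
      A ≤ normalizer (T : Set G) → T ∈ F) ∧
    ((L a ⊓ normalizer (D : Set G)) ⊔ D) ⊓ centralizer (A : Set G) ≤ C

namespace TransData

variable [Finite G] {p q : ℕ} [hp : Fact p.Prime] [hq : Fact q.Prime] {A A₀ C : Subgroup G}
  {F : Set (Subgroup G)} {L : G → Subgroup G}

omit [Finite G] in
theorem not_dvd_card (h : TransData p q A A₀ C F L) {Y : Subgroup G} (hY : IsPGroup q Y)
    [Finite Y] : ¬ p ∣ Nat.card Y := by
  obtain ⟨k, hk⟩ := IsPGroup.iff_card.mp hY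
  rw [hk]
  intro hdvd
  have := (Nat.prime_dvd_prime_iff_eq hp.out hq.out).mp (hp.out.dvd_of_dvd_pow hdvd)
  exact h.hqp this.symm

/-- two subgroups of order at least `p ^ 2` of a group of order `p ^ 3` meet nontrivially -/
theorem exists_common (h : TransData p q A A₀ C F L) {D₁ D₂ : Subgroup G} (h₁ : D₁ ≤ A₀)
    (h₂ : D₂ ≤ A₀) (c₁ : p ^ 2 ≤ Nat.card D₁) (c₂ : p ^ 2 ≤ Nat.card D₂) :
    ∃ a ∈ D₁ ⊓ D₂, a ≠ 1 := by
  by_contra hcon
  push Not at hcon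
  have hbot : D₁ ⊓ D₂ = ⊥ := by
    rw [eq_bot_iff]
    intro x hx
    exact mem_bot.mpr (hcon x hx)
  have hp1 : 1 < p := hp.out.one_lt
  have r₁ : D₁.relIndex A₀ ≤ p := by
    have e := relIndex_mul_card' h₁
    rw [h.hA₀card] at e
    by_contra hc
    push Not at hc
    have : p * p ^ 2 < D₁.relIndex A₀ * Nat.card D₁ :=
      Nat.mul_lt_mul_of_lt_of_le hc c₁ Nat.card_pos
    rw [e] at this
    have e3 : p ^ 3 = p * p ^ 2 := by ring
    omega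
  have r₂ : D₂.relIndex A₀ ≤ p := by
    have e := relIndex_mul_card' h₂
    rw [h.hA₀card] at e
    by_contra hc
    push Not at hc
    have : p * p ^ 2 < D₂.relIndex A₀ * Nat.card D₂ :=
      Nat.mul_lt_mul_of_lt_of_le hc c₂ Nat.card_pos
    rw [e] at this
    have e3 : p ^ 3 = p * p ^ 2 := by ring
    omega
  have h3 : (D₁ ⊓ D₂).relIndex A₀ ≤ D₁.relIndex A₀ * D₂.relIndex A₀ := relIndex_inf_le
  rw [hbot, relIndex_bot_left, h.hA₀card] at h3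
  have h4 : D₁.relIndex A₀ * D₂.relIndex A₀ ≤ p * p := Nat.mul_le_mul r₁ r₂
  have h5 : p * p < p ^ 3 := by
    have : p ^ 3 = p * p * p := by ring
    rw [this]
    have hpp : 0 < p * p := by positivity
    nlinarith
  omega

/-- the local step of the extremal argument -/
theorem local_step (h : TransData p q A A₀ C F L) (Q₁ Q₂ : Subgroup G) (h₁ : IsMaxIn F Q₁)
    (h₂ : IsMaxIn F Q₂) (hne : Q₁ ≠ Q₂) :
    ∃ S₁ S₂ : Subgroup G, S₁ ∈ F ∧ S₂ ∈ F ∧ ∃ c ∈ C, S₂ = cj c S₁ ∧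
      Nat.card (Q₁ ⊓ Q₂ : Subgroup G) < Nat.card (S₁ ⊓ Q₁ : Subgroup G) ∧
      Nat.card (Q₁ ⊓ Q₂ : Subgroup G) < Nat.card (S₂ ⊓ Q₂ : Subgroup G) := by
  obtain ⟨D, hD⟩ : ∃ D : Subgroup G, D = Q₁ ⊓ Q₂ := ⟨_, rfl⟩
  rw [← hD]
  have hDle₁ : D ≤ Q₁ := hD ▸ inf_le_left
  have hDle₂ : D ≤ Q₂ := hD ▸ inf_le_right
  have hAQ₁ := h.hFA Q₁ h₁.1
  have hAQ₂ := h.hFA Q₂ h₂.1
  have hAD : A ≤ normalizer (D : Set G) := hD ▸ le_normalizer_inf' hAQ₁ hAQ₂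
  have hDF : D ∈ F := h.hFsub Q₁ h₁.1 D hDle₁ hAD
  have hDQ₁ : D < Q₁ := by
    refine lt_of_le_of_ne hDle₁ ?_
    intro heq
    apply hne
    have : Q₁ ≤ Q₂ := by rw [← heq]; exact hDle₂
    exact (h₁.2 Q₂ h₂.1 this).symm
  have hDQ₂ : D < Q₂ := by
    refine lt_of_le_of_ne hDle₂ ?_
    intro heq
    apply hne
    have : Q₂ ≤ Q₁ := by rw [← heq]; exact hDle₁
    exact h₂.2 Q₁ h₁.1 this
  have hAND : A ≤ normalizer ((normalizer (D : Set G) : Subgroup G) : Set G) :=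
    le_normalizer_normalizer' hAD
  -- the groups `R_i = N_{Q_i}(D)`
  have step : ∀ Q : Subgroup G, Q ∈ F → D < Q →
      ∃ D' : Subgroup G, D' ≤ A₀ ∧ p ^ 2 ≤ Nat.card D' ∧
        ¬ (Q ⊓ normalizer (D : Set G)) ⊓ centralizer (D' : Set G) ≤ D := by
    intro Q hQF hDQ
    have hQq := h.hFq Q hQF
    have hlt := lt_inf_normalizer_of_lt hQq hDQ
    obtain ⟨R, hR⟩ : ∃ R : Subgroup G, R = Q ⊓ normalizer (D : Set G) := ⟨_, rfl⟩
    rw [← hR] at hlt ⊢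
    have hAR : A ≤ normalizer (R : Set G) := hR ▸ le_normalizer_inf' (h.hFA Q hQF) hAND
    have hRq : IsPGroup q R := hQq.to_le (hR ▸ inf_le_left)
    have hgen := Cfsg.Agent.Lib.Helper31.gen_rank (p := p) (E := A₀) (Y := R)
      (fun x hx y hy => h.hA₀c x hx y (h.hA₀A hy)) h.hA₀p (h.hA₀A.trans hAR)
      (h.not_dvd_card hRq) 2 (by rw [h.hA₀card])
    by_contra hcon
    push Not at hcon
    apply not_le_of_gt hlt
    refine hgen.trans (iSup_le ?_)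
    rintro ⟨D', hD'A, hD'c⟩
    exact hcon D' hD'A hD'c
  obtain ⟨D₁, hD₁A, hD₁c, hD₁n⟩ := step Q₁ h₁.1 hDQ₁
  obtain ⟨D₂, hD₂A, hD₂c, hD₂n⟩ := step Q₂ h₂.1 hDQ₂
  obtain ⟨a, ha, ha1⟩ := h.exists_common hD₁A hD₂A hD₁c hD₂c
  have haA₀ : a ∈ A₀ := hD₁A ha.1
  have hcent₁ : centralizer (D₁ : Set G) ≤ centralizer ({a} : Set G) :=
    centralizer_le (Set.singleton_subset_iff.mpr ha.1)
  have hcent₂ : centralizer (D₂ : Set G) ≤ centralizer ({a} : Set G) :=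
    centralizer_le (Set.singleton_subset_iff.mpr ha.2)
  have hACa : A ≤ normalizer ((centralizer ({a} : Set G) : Subgroup G) : Set G) :=
    le_normalizer_centralizer_singleton (h.hA₀c a haA₀)
  obtain ⟨W, hW⟩ : ∃ W : Subgroup G, W = (L a ⊓ normalizer (D : Set G)) ⊔ D := ⟨_, rfl⟩
  have hAW : A ≤ normalizer (W : Set G) :=
    hW ▸ le_normalizer_sup' (le_normalizer_inf' (h.hL2 a haA₀ ha1) hAND) hAD
  have hWp : ¬ p ∣ Nat.card W := by
    have hdvd := card_sup_dvd_of_le_normalizer (L a ⊓ normalizer (D : Set G)) D inf_le_right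
    rw [← hW] at hdvd
    intro hpW
    rcases (Nat.Prime.dvd_mul hp.out).mp (hpW.trans hdvd) with h1 | h1
    · exact h.hL1 a haA₀ ha1 (h1.trans (card_dvd_of_le inf_le_left))
    · exact h.not_dvd_card (h.hFq D hDF) h1
  have hcop : (Nat.card A).Coprime (Nat.card W) := by
    obtain ⟨k, hk⟩ := IsPGroup.iff_card.mp h.hA
    rw [hk]
    exact Nat.Coprime.pow_left k ((Nat.Prime.coprime_iff_not_dvd hp.out).mpr hWp)
  have hAsolv : Group.IsSolvable A := by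
    have := h.hA.isNilpotent
    infer_instance
  -- the groups `U_i`
  have stepU : ∀ Q : Subgroup G, Q ∈ F → ∀ D' : Subgroup G,
      centralizer (D' : Set G) ≤ centralizer ({a} : Set G) →
      ¬ (Q ⊓ normalizer (D : Set G)) ⊓ centralizer (D' : Set G) ≤ D → D ≤ Q →
      ∃ U : Subgroup G, U ≤ Q ∧ U ≤ W ∧ D < U ∧ IsPGroup q U ∧ A ≤ normalizer (U : Set G) := by
    intro Q hQF D' hD' hn hDQ
    have hAQ := h.hFA Q hQF
    refine ⟨((Q ⊓ normalizer (D : Set G)) ⊓ centralizer ({a} : Set G)) ⊔ D, ?_, ?_, ?_, ?_, ?_⟩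
    · exact sup_le (inf_le_left.trans inf_le_left) hDQ
    · rw [hW]
      refine sup_le_sup_right (le_inf ?_ (inf_le_left.trans inf_le_right)) D
      have hRF : Q ⊓ normalizer (D : Set G) ∈ F :=
        h.hFsub Q hQF _ inf_le_left (le_normalizer_inf' hAQ hAND)
      exact h.hL3 a haA₀ ha1 _ hRF
    · refine lt_of_le_of_ne le_sup_right ?_
      intro heq
      apply hn
      have hXD : (Q ⊓ normalizer (D : Set G)) ⊓ centralizer ({a} : Set G) ≤ D :=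
        le_sup_left.trans heq.symm.le
      exact (inf_le_inf_left _ hD').trans hXD
    · exact (h.hFq Q hQF).to_le (sup_le (inf_le_left.trans inf_le_left) hDQ)
    · exact le_normalizer_sup' (le_normalizer_inf' (le_normalizer_inf' hAQ hAND) hACa) hAD
  obtain ⟨U₁, hU₁Q, hU₁W, hDU₁, hU₁q, hAU₁⟩ := stepU Q₁ h₁.1 D₁ hcent₁ hD₁n hDle₁
  obtain ⟨U₂, hU₂Q, hU₂W, hDU₂, hU₂q, hAU₂⟩ := stepU Q₂ h₂.1 D₂ hcent₂ hD₂n hDle₂
  obtain ⟨P₁, hUP₁, hAP₁⟩ := invariant_pSubgroup_le_sylow (p := q) A W hAW hcop (Or.inl hAsolv)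
    U₁ hU₁W hU₁q hAU₁
  obtain ⟨P₂, hUP₂, hAP₂⟩ := invariant_pSubgroup_le_sylow (p := q) A W hAW hcop (Or.inl hAsolv)
    U₂ hU₂W hU₂q hAU₂
  obtain ⟨c, hc, hcP⟩ := invariant_sylow_conj (p := q) A W hAW hcop (Or.inl hAsolv) P₁ P₂
    hAP₁ hAP₂
  obtain ⟨hT₁W, hT₁q, -⟩ := sylow_map_facts W P₁
  obtain ⟨hT₂W, hT₂q, -⟩ := sylow_map_facts W P₂
  obtain ⟨hLW1, hLW2⟩ := h.hLW a haA₀ ha1 D hDF
  rw [← hW] at hLW1 hLW2
  refine ⟨_, _, hLW1 _ hT₁W hT₁q hAP₁, hLW1 _ hT₂W hT₂q hAP₂, c, hLW2 hc, hcP.symm, ?_, ?_⟩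
  · exact lt_of_lt_of_le (card_lt_of_lt' hDU₁) (card_le_of_le (le_inf hUP₁ hU₁Q))
  · exact lt_of_lt_of_le (card_lt_of_lt' hDU₂) (card_le_of_le (le_inf hUP₂ hU₂Q))

/-- **Abstract Thompson transitivity.** -/
theorem transitive (h : TransData p q A A₀ C F L) :
    ∀ Q₁ Q₂, IsMaxIn F Q₁ → IsMaxIn F Q₂ → ∃ c ∈ C, Q₂ = cj c Q₁ :=
  extremal F C h.hFconj (fun Q₁ Q₂ h₁ h₂ hne => h.local_step Q₁ Q₂ h₁ h₂ hne)

end TransData

end Cfsg.Agent.Lib.Helper23
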