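import Cfsg.Prelude.Def_Balance
import Cfsg.Agent.Lib.Helper33.Conj
import Cfsg.Agent.Lib.Helper55.Cores
import Cfsg.Agent.Lib.Helper21.Components

set_option autoImplicit false

namespace Cfsg.Agent.Lib.Helper23

open Cfsg
open Cfsg.Agent.Lib.Helper33 (cj)

variable {X : Type*} [Group X]

theorem pPrimeCore_map_equiv_le {G H : Type*} [Group G] [Group H] (p : ℕ) (e : G ≃* H) :
    (pPrimeCore p G).map e.toMonoidHom ≤ pPrimeCore p H := by
  rw [Subgroup.map_le_iff_le_comap]
  apply sSup_le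
  rintro N ⟨hN, hc⟩
  rw [← Subgroup.map_le_iff_le_comap]
  apply le_sSup
  refine ⟨hN.map e.toMonoidHom e.surjective, ?_⟩
  rw [Subgroup.card_map_of_injective e.injective]
  exact hc

/-- the `p'`-core is transported by a group isomorphism -/
theorem pPrimeCore_map_equiv {G H : Type*} [Group G] [Group H] (p : ℕ) (e : G ≃* H) :
    (pPrimeCore p G).map e.toMonoidHom = pPrimeCore p H := by
  apply le_antisymm (pPrimeCore_map_equiv_le p e)
  have h2 := pPrimeCore_map_equiv_le p e.symm
  have h3 := Subgroup.map_mono (f := e.toMonoidHom) h2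
  rw [Subgroup.map_map] at h3
  have : e.toMonoidHom.comp e.symm.toMonoidHom = MonoidHom.id H := by
    ext x; simp
  rw [this, Subgroup.map_id] at h3
  exact h3

/-- the `p'`-core of a subgroup `C`, as a subgroup of the ambient group -/
def coreIn (p : ℕ) (C : Subgroup X) : Subgroup X := (pPrimeCore p ↥C).map C.subtype

theorem coreIn_le (p : ℕ) (C : Subgroup X) : coreIn p C ≤ C := by
  intro x hx
  obtain ⟨y, _, rfl⟩ := Subgroup.mem_map.mp hx
  exact y.2

theorem coreIn_cj (p : ℕ) (g : X) (C : Subgroup X) : coreIn p (cj g C) = cj g (coreIn p C) := by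
  unfold coreIn
  rw [← pPrimeCore_map_equiv p (Cfsg.Agent.Lib.Helper33.cjEquiv g C), Subgroup.map_map]
  unfold cj
  rw [Subgroup.map_map]
  congr 1

theorem card_coreIn (p : ℕ) (C : Subgroup X) : Nat.card (coreIn p C) = Nat.card (pPrimeCore p ↥C) :=
  Subgroup.card_subtype C _

theorem isSubnormal_cj (g : X) {K : Subgroup X} (hK : K.IsSubnormal) : (cj g K).IsSubnormal :=
  hK.map (f := (MulAut.conj g).toMonoidHom) (MulAut.conj g).surjective

theorem isComponent_cj (g : X) {K : Subgroup X} (hK : IsComponent K) : IsComponent (cj g K) :=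
  ⟨isSubnormal_cj g hK.1,
    Cfsg.Agent.Lib.Helper21.quasisimple_of_mulEquiv (Cfsg.Agent.Lib.Helper33.cjEquiv g K) hK.2⟩

theorem map_mk'_cj {N : Subgroup X} [N.Normal] (g : X) (K : Subgroup X) :
    (cj g K).map (QuotientGroup.mk' N) = cj (QuotientGroup.mk' N g) (K.map (QuotientGroup.mk' N)) := by
  unfold cj
  rw [Subgroup.map_map, Subgroup.map_map]
  congr 1

theorem isPComponent_cj (p : ℕ) (g : X) {K : Subgroup X} (hK : IsPComponent p K) :
    IsPComponent p (cj g K) := by
  obtain ⟨h1, h2, h3⟩ := hK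
  refine ⟨isSubnormal_cj g h1, ?_, ?_⟩
  · rw [map_mk'_cj]
    exact isComponent_cj _ h2
  · intro H hH hle heq
    have hH' : (cj g⁻¹ H).IsSubnormal := isSubnormal_cj g⁻¹ hH
    have hle' : cj g⁻¹ H ≤ K := by
      have := Cfsg.Agent.Lib.Helper33.cj_mono (g := g⁻¹) hle
      rwa [Cfsg.Agent.Lib.Helper33.cj_inv_cj] at this
    have heq' : (cj g⁻¹ H).map (QuotientGroup.mk' (pPrimeCore p X)) =
        K.map (QuotientGroup.mk' (pPrimeCore p X)) := by
      rw [map_mk'_cj, heq, map_mk'_cj, map_inv, Cfsg.Agent.Lib.Helper33.cj_inv_cj]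
    have := h3 _ hH' hle' heq'
    rw [← this, Cfsg.Agent.Lib.Helper33.cj_cj_inv]

theorem pLayer_cj (p : ℕ) (g : X) : cj g (pLayer p X) = pLayer p X := by
  have key : ∀ g : X, cj g (pLayer p X) ≤ pLayer p X := by
    intro g
    unfold cj pLayer
    rw [Subgroup.map_le_iff_le_comap]
    apply sSup_le
    intro K hK
    rw [← Subgroup.map_le_iff_le_comap]
    exact le_sSup (isPComponent_cj p g hK)
  apply le_antisymm (key g)
  have := Cfsg.Agent.Lib.Helper33.cj_mono (g := g) (key g⁻¹)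
  rwa [Cfsg.Agent.Lib.Helper33.cj_cj_inv] at this

instance pLayer_normal (p : ℕ) : (pLayer p X).Normal := by
  constructor
  intro n hn g
  have : g * n * g⁻¹ ∈ cj g (pLayer p X) := Cfsg.Agent.Lib.Helper33.conj_mem_cj hn
  rwa [pLayer_cj] at this

end Cfsg.Agent.Lib.Helper23
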