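import Mathlib
import Cfsg.Agent.Lib.Helper90.PsuDefs
import Cfsg.Agent.Lib.Helper42.PsuTS
import Cfsg.Agent.Lib.Helper99.PsuHEIS
import Cfsg.Agent.Lib.Helper55.PsuQR

set_option autoImplicit false

/-!
# U3 hive (S2283, owner helper23): shared definitions

`SU_3(q)`, `q ≥ 3`, is generated by two conjugate regular unipotent elements.
Frame `e, ε, f` of `F^3` (`h(e,e) = h(f,f) = 0`, `h(e,f) = 1`, `h(ε,ε) = 1`, `ε ⊥ e, f`) for the
standard form `hermForm 3 F q x y = Σ x_i y_i^q`; parameters `μ` (`μ^(q+1) = 1`, `μ^2 ≠ 1`),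
`c` (`c + c^q = 0`, `c ≠ 0`), `a`, `β`.

* `u1 = heis q e (a • ε) β`  (regular unipotent fixing `e`: `f ↦ f + a ε + β e`, `ε ↦ ε - a^q e`),
* `T = utv q f c`  (`e ↦ e + c f`),
* `S = μ · qr q ε (μ⁻¹^3)`  (`e ↦ μ e`, `ε ↦ μ⁻² ε`, `f ↦ μ f`; commutes with `T`),
* `u2 = u1 * T * S`, `H = closure {u1, u2}`.

The relations `hβ`, `ha` make `u2` unipotent and conjugate to `u1` in `SU_3(q)`;
`(u1⁻¹ u2)^(q+1) = (T S)^(q+1) = T`, so `T, S ∈ H`.
-/

namespace Cfsg.Agent.Lib.Helper23.U3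

open Matrix Cfsg.Agent.Lib.Helper99 Cfsg.Agent.Lib.Helper13 Cfsg.Agent.Lib.Helper90.Psu

variable {F : Type*} [Field F] {q : ℕ}

/-- the configuration -/
structure Cfg (q : ℕ) (F : Type*) [Field F] where
  e : Fin 3 → F
  ε : Fin 3 → F
  f : Fin 3 → F
  μ : F
  c : F
  a : F
  β : F
  hee : Cfsg.hermForm 3 F q e e = 0
  hff : Cfsg.hermForm 3 F q f f = 0
  hef : Cfsg.hermForm 3 F q e f = 1
  hεε : Cfsg.hermForm 3 F q ε ε = 1
  hεe : Cfsg.hermForm 3 F q ε e = 0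
  hεf : Cfsg.hermForm 3 F q ε f = 0
  hμ : μ ^ (q + 1) = 1
  hμ2 : μ ^ 2 ≠ 1
  hc : c + c ^ q = 0
  hc0 : c ≠ 0
  hβ : c * β = 3 * μ⁻¹ - 2 - μ⁻¹ ^ 3
  ha : a ^ (q + 1) * c = (μ⁻¹ - μ) ^ 3

theorem Cfg.μ_ne_zero (C : Cfg q F) : C.μ ≠ 0 := by
  intro h
  have h1 := C.hμ
  rw [h, zero_pow (Nat.succ_ne_zero q)] at h1
  exact zero_ne_one h1

/-- the scalar matrix `μ` as an element of `GL` -/
noncomputable def Cfg.sc (C : Cfg q F) : GL (Fin 3) F :=
  Units.map (Matrix.scalar (Fin 3) : F →+* Matrix (Fin 3) (Fin 3) F).toMonoidHom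
    (Units.mk0 C.μ C.μ_ne_zero)

theorem Cfg.coe_sc (C : Cfg q F) :
    ((C.sc : GL (Fin 3) F) : Matrix (Fin 3) (Fin 3) F) = Matrix.scalar (Fin 3) C.μ := rfl

/-- the first regular unipotent element -/
noncomputable def Cfg.u1 (C : Cfg q F) : GL (Fin 3) F := heis q C.e (C.a • C.ε) C.β

/-- the long root element at `f` -/
noncomputable def Cfg.T (C : Cfg q F) : GL (Fin 3) F := utv q C.f C.c

/-- the torus element `diag(μ, μ⁻², μ)` relative to `e, ε, f` -/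
noncomputable def Cfg.S (C : Cfg q F) : GL (Fin 3) F := C.sc * qr q C.ε (C.μ⁻¹ ^ 3)

/-- the second regular unipotent element -/
noncomputable def Cfg.u2 (C : Cfg q F) : GL (Fin 3) F := C.u1 * C.T * C.S

/-- the subgroup generated by the two regular unipotent elements -/
noncomputable def Cfg.H (C : Cfg q F) : Subgroup (GL (Fin 3) F) :=
  Subgroup.closure {C.u1, C.u2}

theorem Cfg.u1_mem_H (C : Cfg q F) : C.u1 ∈ C.H :=
  Subgroup.subset_closure (Set.mem_insert _ _)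

theorem Cfg.u2_mem_H (C : Cfg q F) : C.u2 ∈ C.H :=
  Subgroup.subset_closure (Set.mem_insert_of_mem _ rfl)

end Cfsg.Agent.Lib.Helper23.U3
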