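import Cfsg.Agent.Lib.Helper11.U3EX
import Cfsg.Agent.Lib.Helper33.U3MEM
import Cfsg.Agent.Lib.Helper74.U3REG
import Cfsg.Agent.Lib.Helper32.U3COORD
import Cfsg.Agent.Lib.Helper54.U3REL
import Cfsg.Agent.Lib.Helper54.U3TS
import Cfsg.Agent.Lib.Helper27.U3LINE3
import Cfsg.Agent.Lib.Helper21.U3ENDcore
import Cfsg.Agent.Lib.Helper60.U3CONJ
import Cfsg.Agent.Lib.Helper48.U3XEcore
import Cfsg.Agent.Lib.Helper54.U3Xe5
import Cfsg.Agent.Lib.Helper23.U3XE8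

set_option autoImplicit false

/-! U3 hive (S2283): the assembly in `GL (Fin 3) F`. -/

namespace Cfsg.Agent.Lib.Helper23.U3

open Matrix Cfsg.Agent.Lib.Helper99 Cfsg.Agent.Lib.Helper13 Cfsg.Agent.Lib.Helper90.Psu

variable {F : Type*} [Field F] [Fintype F] {q : ℕ}

local notation "hh" => Cfsg.hermForm 3 F q

/-- the long root group at `e` lies in `H` (assembly of the XE sub-hive) -/
theorem u3main_e_mem_Tset (hF : Fintype.card F = q ^ 2) (hq : 3 ≤ q) (C : Cfg q F)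
    (hμo : orderOf C.μ = q + 1) (h8 : q = 8 → C.c = 1) : C.e ∈ Tset q C.H :=
  e_mem_Tset_core hF hq C hμo
    (fun h5 hA1 => xe_five hF h5 C hμo (cfg_rel hF C) hA1)
    (fun h8' => by subst h8'; exact xe8 hF C hμo (h8 rfl))

theorem main_GL3 (hF : Fintype.card F = q ^ 2) (hq : 3 ≤ q) :
    ∃ u g : GL (Fin 3) F, u ∈ suGL (F := F) 3 q ∧ g ∈ suGL (F := F) 3 q ∧
      (IsNilpotent ((u : Matrix (Fin 3) (Fin 3) F) - 1) ∧
        ((u : Matrix (Fin 3) (Fin 3) F) - 1) ^ 2 ≠ 0) ∧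
      utvGroup 3 q F ≤ Subgroup.closure ({u, g * u * g⁻¹} : Set (GL (Fin 3) F)) := by
  obtain ⟨C, hμo, h8⟩ := exists_cfg hF hq
  obtain ⟨g, hg, hgu⟩ := conj_u1_u2 hF C
  refine ⟨C.u1, g, u1_mem_suGL hF C, hg, regular_u1 hF C, ?_⟩
  rw [hgu]
  exact u3end_core hF C (fun hu hv hw hind x hx => line3 hF hu hv hw hind x hx)
    (frame_indep hF C) (TS_mem_H hF C) (cfg_a_ne_zero C) (u3main_e_mem_Tset hF hq C hμo h8)

end Cfsg.Agent.Lib.Helper23.U3
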