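import Cfsg.Agent.Lib.Helper23.U3XE8a
import Cfsg.Agent.Lib.Helper38.U3XE8b
import Cfsg.Agent.Lib.Helper54.U3TS

set_option autoImplicit false

/-! U3 hive (S2283), leaf XE-8: for `q = 8` (`c = 1`) the long root group at `e` lies in `H`. -/

namespace Cfsg.Agent.Lib.Helper23.U3

open Matrix Cfsg.Agent.Lib.Helper99 Cfsg.Agent.Lib.Helper13 Cfsg.Agent.Lib.Helper90.Psu

variable {F : Type*} [Field F] [Fintype F]

/-- XE-8 -/
theorem xe8 (hF : Fintype.card F = 8 ^ 2) (C : Cfg 8 F) (hμo : orderOf C.μ = 9)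
    (hc1 : C.c = 1) : C.e ∈ Tset 8 C.H := by
  obtain ⟨η, h0, h1, h8, hstep⟩ := xe8_chain hF C hμo hc1 (TS_mem_H hF C)
  exact xe8_fin hF C η h0 h1 h8 hstep

end Cfsg.Agent.Lib.Helper23.U3
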