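import Cfsg.Agent.Lib.Helper23.U3XE8steps
import Cfsg.Agent.Lib.Helper33.U3ACT
import Cfsg.Agent.Lib.Helper33.U3MEM

set_option autoImplicit false

/-! U3 hive (S2283), leaf XE-8a: for `q = 8`, `c = 1`, the word
`T U T U S⁻¹ T u T u T u u T` (in `H`, given `T, S ∈ H`) maps `e` to `ζ • e`, `ζ = 1 + μ^2 + μ^5`,
and `η = ζ^9 = N(ζ) ≠ 1`; hence `utv e z ∈ H → utv e (z η) ∈ H`. -/

namespace Cfsg.Agent.Lib.Helper23.U3

open Matrix Cfsg.Agent.Lib.Helper99 Cfsg.Agent.Lib.Helper13 Cfsg.Agent.Lib.Helper90.Psu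

variable {F : Type*} [Field F] [Fintype F]

local notation "hh" => Cfsg.hermForm 3 F 8

/-- the vector with coordinates `X, Y, Z` in the frame -/
def u3xe8_vec (C : Cfg 8 F) (X Y Z : F) : Fin 3 → F := X • C.e + Y • C.ε + Z • C.f

theorem u3xe8_vec_e (C : Cfg 8 F) : u3xe8_vec C 1 0 0 = C.e := by
  simp [u3xe8_vec]

theorem u3xe8_vec_congr (C : Cfg 8 F) {X Y Z X' Y' Z' : F} (hX : X = X') (hY : Y = Y')
    (hZ : Z = Z') : u3xe8_vec C X Y Z = u3xe8_vec C X' Y' Z' := by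
  rw [hX, hY, hZ]

theorem u3xe8_hh (hF : Fintype.card F = 8 ^ 2) (C : Cfg 8 F) (X Y Z : F) :
    hh (u3xe8_vec C X Y Z) C.e = Z ∧ hh (u3xe8_vec C X Y Z) C.ε = Y ∧
      hh (u3xe8_vec C X Y Z) C.f = X := by
  have hfe : hh C.f C.e = 1 := by rw [← hermForm_conj hF 3 C.e C.f, C.hef, one_pow]
  have heε : hh C.e C.ε = 0 := by
    rw [← hermForm_conj hF 3 C.ε C.e, C.hεe, zero_pow (by norm_num)]
  have hfε : hh C.f C.ε = 0 := by
    rw [← hermForm_conj hF 3 C.ε C.f, C.hεf, zero_pow (by norm_num)]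
  refine ⟨?_, ?_, ?_⟩
  · simp only [u3xe8_vec, hermForm_add_left, hermForm_smul_left, C.hee, C.hεe, hfe]
    ring
  · simp only [u3xe8_vec, hermForm_add_left, hermForm_smul_left, heε, C.hεε, hfε]
    ring
  · simp only [u3xe8_vec, hermForm_add_left, hermForm_smul_left, C.hef, C.hεf, C.hff]
    ring

theorem u3xe8_u_coords (hF : Fintype.card F = 8 ^ 2) (C : Cfg 8 F) (X Y Z : F) :
    (C.u1 : Matrix (Fin 3) (Fin 3) F) *ᵥ u3xe8_vec C X Y Z =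
      u3xe8_vec C (X + Z * C.β - Y * C.a ^ 8) (Y + Z * C.a) Z := by
  obtain ⟨h1, h2, -⟩ := u3xe8_hh hF C X Y Z
  rw [act_u1 hF C, h1, h2]
  simp only [u3xe8_vec]
  module

theorem u3xe8_T_coords (hF : Fintype.card F = 8 ^ 2) (C : Cfg 8 F) (X Y Z : F) :
    (C.T : Matrix (Fin 3) (Fin 3) F) *ᵥ u3xe8_vec C X Y Z =
      u3xe8_vec C X Y (Z + C.c * X) := by
  obtain ⟨-, -, h3⟩ := u3xe8_hh hF C X Y Z
  rw [act_T C, h3]
  simp only [u3xe8_vec]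
  module

theorem u3xe8_S_coords (hF : Fintype.card F = 8 ^ 2) (C : Cfg 8 F) (X Y Z : F) :
    (C.S : Matrix (Fin 3) (Fin 3) F) *ᵥ u3xe8_vec C X Y Z =
      u3xe8_vec C (C.μ * X) (C.μ⁻¹ ^ 2 * Y) (C.μ * Z) := by
  obtain ⟨-, h2, -⟩ := u3xe8_hh hF C X Y Z
  rw [act_S C, h2]
  simp only [u3xe8_vec]
  module

/-- the transport predicate -/
def u3xe8_P (C : Cfg 8 F) (v : Fin 3 → F) : Prop :=
  hh v v = 0 ∧ ∀ z : F, z + z ^ 8 = 0 → utv 8 C.e z ∈ C.H → utv 8 v z ∈ C.H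

theorem u3xe8_P_fwd (C : Cfg 8 F) {g : GL (Fin 3) F} (hgH : g ∈ C.H)
    (hgU : g ∈ Cfsg.GU 3 F 8) {v w : Fin 3 → F} (hv : u3xe8_P C v)
    (hgv : (g : Matrix (Fin 3) (Fin 3) F) *ᵥ v = w) : u3xe8_P C w := by
  subst hgv
  refine ⟨by rw [GU_preserves hgU]; exact hv.1, fun z hz hzH => ?_⟩
  rw [← conj_utv g hgU v hv.1 z]
  exact C.H.mul_mem (C.H.mul_mem hgH (hv.2 z hz hzH)) (C.H.inv_mem hgH)

theorem u3xe8_P_bwd (C : Cfg 8 F) {g : GL (Fin 3) F} (hgH : g ∈ C.H)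
    (hgU : g ∈ Cfsg.GU 3 F 8) {v w : Fin 3 → F} (hv : u3xe8_P C v)
    (hgw : (g : Matrix (Fin 3) (Fin 3) F) *ᵥ w = v) : u3xe8_P C w := by
  refine u3xe8_P_fwd C (C.H.inv_mem hgH) ((Cfsg.GU 3 F 8).inv_mem hgU) hv ?_
  rw [← hgw, gl_inv_mulVec_mulVec]

theorem u3xe8_two (hF : Fintype.card F = 8 ^ 2) : (2 : F) = 0 := by
  have h := FiniteField.cast_card_eq_zero F
  rw [hF] at h
  have h6 : (2 : F) ^ 6 = 0 := by
    have : ((8 ^ 2 : ℕ) : F) = (2 : F) ^ 6 := by norm_num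
    rw [← this]; exact h
  exact pow_eq_zero_iff (by norm_num) |>.1 h6

/-- XE-8a -/
theorem xe8_chain (hF : Fintype.card F = 8 ^ 2) (C : Cfg 8 F) (hμo : orderOf C.μ = 9)
    (hc1 : C.c = 1) (hTS : C.T ∈ C.H ∧ C.S ∈ C.H) :
    ∃ η : F, η ≠ 0 ∧ η ≠ 1 ∧ η ^ 8 = η ∧
      ∀ z : F, z + z ^ 8 = 0 → utv 8 C.e z ∈ C.H → utv 8 C.e (z * η) ∈ C.H := by
  have h2 : (2 : F) = 0 := u3xe8_two hF
  have hμ9 : C.μ ^ 9 = 1 := C.hμ
  have hμ3 : C.μ ^ 3 ≠ 1 := by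
    intro h
    have := orderOf_dvd_of_pow_eq_one h
    rw [hμo] at this
    omega
  have hΦ : C.μ ^ 6 + C.μ ^ 3 + 1 = 0 := by
    have h : (C.μ ^ 3 - 1) * (C.μ ^ 6 + C.μ ^ 3 + 1) = 0 := by linear_combination hμ9
    rcases mul_eq_zero.1 h with h | h
    · exact absurd (sub_eq_zero.1 h) hμ3
    · exact h
  have hμi : C.μ⁻¹ = C.μ ^ 8 := inv_eq_of_mul_eq_one_right (by linear_combination hμ9)
  have hβ' : C.β = 1 + C.μ^2 + C.μ^3 + C.μ^5 := by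
    have h := C.hβ
    rw [hc1, one_mul, hμi] at h
    rw [h]
    exact u3xe8_beta C.μ hΦ h2
  have hab : C.a * C.a ^ 8 = 1 + C.μ + C.μ^2 + C.μ^5 := by
    have h := C.ha
    rw [hc1, mul_one, hμi] at h
    have h' : C.a * C.a ^ 8 = C.a ^ (8 + 1) := by ring
    rw [h', h]
    exact u3xe8_s3 C.μ hΦ h2
  have ha0 : C.a ≠ 0 := by
    intro h0
    have h := C.ha
    rw [h0, zero_pow (by norm_num), zero_mul] at h
    have hs : C.μ⁻¹ - C.μ = 0 := by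
      have := h.symm
      exact pow_eq_zero_iff (by norm_num) |>.1 this
    have : C.μ ^ 2 = 1 := by
      have hm := C.μ_ne_zero
      field_simp at hs
      linear_combination -hs
    exact C.hμ2 this
  have p0 : u3xe8_P C (u3xe8_vec C 1 0 0) := by
    rw [u3xe8_vec_e]
    exact ⟨C.hee, fun z _ h => h⟩
  have p1 : u3xe8_P C (u3xe8_vec C (1) (0) (1)) := by
    refine u3xe8_P_fwd C hTS.1 (T_mem_suGL hF C).1 p0 ?_
    rw [u3xe8_T_coords hF C, hc1]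
    exact u3xe8_vec_congr C (by linear_combination (u3xe8_step0 C.μ C.a (C.a ^ 8) hΦ h2 hab).1) (by linear_combination (u3xe8_step0 C.μ C.a (C.a ^ 8) hΦ h2 hab).2.1)
      (by linear_combination (u3xe8_step0 C.μ C.a (C.a ^ 8) hΦ h2 hab).2.2)
  have p2 : u3xe8_P C (u3xe8_vec C (C.μ^2 + C.μ^3 + C.μ^5) (C.a) (1)) := by
    refine u3xe8_P_fwd C C.u1_mem_H (u1_mem_suGL hF C).1 p1 ?_
    rw [u3xe8_u_coords hF C, hβ']
    exact u3xe8_vec_congr C (by linear_combination (u3xe8_step1 C.μ C.a (C.a ^ 8) hΦ h2 hab).1) (by linear_combination (u3xe8_step1 C.μ C.a (C.a ^ 8) hΦ h2 hab).2.1)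
      (by linear_combination (u3xe8_step1 C.μ C.a (C.a ^ 8) hΦ h2 hab).2.2)
  have p3 : u3xe8_P C (u3xe8_vec C (C.μ + C.μ^2 + C.μ^5) (0) (1)) := by
    refine u3xe8_P_fwd C C.u1_mem_H (u1_mem_suGL hF C).1 p2 ?_
    rw [u3xe8_u_coords hF C, hβ']
    exact u3xe8_vec_congr C (by linear_combination (u3xe8_step2 C.μ C.a (C.a ^ 8) hΦ h2 hab).1) (by linear_combination (u3xe8_step2 C.μ C.a (C.a ^ 8) hΦ h2 hab).2.1)
      (by linear_combination (u3xe8_step2 C.μ C.a (C.a ^ 8) hΦ h2 hab).2.2)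
  have p4 : u3xe8_P C (u3xe8_vec C (C.μ + C.μ^2 + C.μ^5) (0) (1 + C.μ + C.μ^2 + C.μ^5)) := by
    refine u3xe8_P_fwd C hTS.1 (T_mem_suGL hF C).1 p3 ?_
    rw [u3xe8_T_coords hF C, hc1]
    exact u3xe8_vec_congr C (by linear_combination (u3xe8_step3 C.μ C.a (C.a ^ 8) hΦ h2 hab).1) (by linear_combination (u3xe8_step3 C.μ C.a (C.a ^ 8) hΦ h2 hab).2.1)
      (by linear_combination (u3xe8_step3 C.μ C.a (C.a ^ 8) hΦ h2 hab).2.2)
  have p5 : u3xe8_P C (u3xe8_vec C (C.μ + C.μ^3 + C.μ^5) (C.a + C.μ * C.a + C.μ^2 * C.a + C.μ^5 * C.a) (1 + C.μ + C.μ^2 + C.μ^5)) := by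
    refine u3xe8_P_fwd C C.u1_mem_H (u1_mem_suGL hF C).1 p4 ?_
    rw [u3xe8_u_coords hF C, hβ']
    exact u3xe8_vec_congr C (by linear_combination (u3xe8_step4 C.μ C.a (C.a ^ 8) hΦ h2 hab).1) (by linear_combination (u3xe8_step4 C.μ C.a (C.a ^ 8) hΦ h2 hab).2.1)
      (by linear_combination (u3xe8_step4 C.μ C.a (C.a ^ 8) hΦ h2 hab).2.2)
  have p6 : u3xe8_P C (u3xe8_vec C (C.μ + C.μ^3 + C.μ^5) (C.a + C.μ * C.a + C.μ^2 * C.a + C.μ^5 * C.a) (1 + C.μ^2 + C.μ^3)) := by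
    refine u3xe8_P_fwd C hTS.1 (T_mem_suGL hF C).1 p5 ?_
    rw [u3xe8_T_coords hF C, hc1]
    exact u3xe8_vec_congr C (by linear_combination (u3xe8_step5 C.μ C.a (C.a ^ 8) hΦ h2 hab).1) (by linear_combination (u3xe8_step5 C.μ C.a (C.a ^ 8) hΦ h2 hab).2.1)
      (by linear_combination (u3xe8_step5 C.μ C.a (C.a ^ 8) hΦ h2 hab).2.2)
  have p7 : u3xe8_P C (u3xe8_vec C (1 + C.μ + C.μ^4 + C.μ^5) (C.μ * C.a + C.μ^3 * C.a + C.μ^5 * C.a) (1 + C.μ^2 + C.μ^3)) := by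
    refine u3xe8_P_fwd C C.u1_mem_H (u1_mem_suGL hF C).1 p6 ?_
    rw [u3xe8_u_coords hF C, hβ']
    exact u3xe8_vec_congr C (by linear_combination (u3xe8_step6 C.μ C.a (C.a ^ 8) hΦ h2 hab).1) (by linear_combination (u3xe8_step6 C.μ C.a (C.a ^ 8) hΦ h2 hab).2.1)
      (by linear_combination (u3xe8_step6 C.μ C.a (C.a ^ 8) hΦ h2 hab).2.2)
  have p8 : u3xe8_P C (u3xe8_vec C (1 + C.μ + C.μ^4 + C.μ^5) (C.μ * C.a + C.μ^3 * C.a + C.μ^5 * C.a) (C.μ + C.μ^2 + C.μ^3 + C.μ^4 + C.μ^5)) := by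
    refine u3xe8_P_fwd C hTS.1 (T_mem_suGL hF C).1 p7 ?_
    rw [u3xe8_T_coords hF C, hc1]
    exact u3xe8_vec_congr C (by linear_combination (u3xe8_step7 C.μ C.a (C.a ^ 8) hΦ h2 hab).1) (by linear_combination (u3xe8_step7 C.μ C.a (C.a ^ 8) hΦ h2 hab).2.1)
      (by linear_combination (u3xe8_step7 C.μ C.a (C.a ^ 8) hΦ h2 hab).2.2)
  have p9 : u3xe8_P C (u3xe8_vec C (1 + C.μ^2 + C.μ^3 + C.μ^4 + C.μ^5) (C.μ * C.a + C.μ^3 * C.a + C.μ^4 * C.a + C.μ^5 * C.a) (1 + C.μ + C.μ^2 + C.μ^3 + C.μ^4)) := by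
    refine u3xe8_P_bwd C hTS.2 (S_mem_suGL hF C).1 p8 ?_
    rw [u3xe8_S_coords hF C, hμi]
    exact u3xe8_vec_congr C (by linear_combination (u3xe8_step8 C.μ C.a (C.a ^ 8) hΦ h2 hab).1) (by linear_combination (u3xe8_step8 C.μ C.a (C.a ^ 8) hΦ h2 hab).2.1)
      (by linear_combination (u3xe8_step8 C.μ C.a (C.a ^ 8) hΦ h2 hab).2.2)
  have p10 : u3xe8_P C (u3xe8_vec C (C.μ + C.μ^3 + C.μ^4 + C.μ^5) (C.a + C.μ^2 * C.a + C.μ^5 * C.a) (1 + C.μ + C.μ^2 + C.μ^3 + C.μ^4)) := by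
    refine u3xe8_P_bwd C C.u1_mem_H (u1_mem_suGL hF C).1 p9 ?_
    rw [u3xe8_u_coords hF C, hβ']
    exact u3xe8_vec_congr C (by linear_combination (u3xe8_step9 C.μ C.a (C.a ^ 8) hΦ h2 hab).1) (by linear_combination (u3xe8_step9 C.μ C.a (C.a ^ 8) hΦ h2 hab).2.1)
      (by linear_combination (u3xe8_step9 C.μ C.a (C.a ^ 8) hΦ h2 hab).2.2)
  have p11 : u3xe8_P C (u3xe8_vec C (C.μ + C.μ^3 + C.μ^4 + C.μ^5) (C.a + C.μ^2 * C.a + C.μ^5 * C.a) (1 + C.μ^2 + C.μ^5)) := by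
    refine u3xe8_P_fwd C hTS.1 (T_mem_suGL hF C).1 p10 ?_
    rw [u3xe8_T_coords hF C, hc1]
    exact u3xe8_vec_congr C (by linear_combination (u3xe8_step10 C.μ C.a (C.a ^ 8) hΦ h2 hab).1) (by linear_combination (u3xe8_step10 C.μ C.a (C.a ^ 8) hΦ h2 hab).2.1)
      (by linear_combination (u3xe8_step10 C.μ C.a (C.a ^ 8) hΦ h2 hab).2.2)
  have p12 : u3xe8_P C (u3xe8_vec C (1 + C.μ^2 + C.μ^5) (0) (1 + C.μ^2 + C.μ^5)) := by
    refine u3xe8_P_bwd C C.u1_mem_H (u1_mem_suGL hF C).1 p11 ?_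
    rw [u3xe8_u_coords hF C, hβ']
    exact u3xe8_vec_congr C (by linear_combination (u3xe8_step11 C.μ C.a (C.a ^ 8) hΦ h2 hab).1) (by linear_combination (u3xe8_step11 C.μ C.a (C.a ^ 8) hΦ h2 hab).2.1)
      (by linear_combination (u3xe8_step11 C.μ C.a (C.a ^ 8) hΦ h2 hab).2.2)
  have p13 : u3xe8_P C (u3xe8_vec C (1 + C.μ^2 + C.μ^5) (0) (0)) := by
    refine u3xe8_P_fwd C hTS.1 (T_mem_suGL hF C).1 p12 ?_
    rw [u3xe8_T_coords hF C, hc1]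
    exact u3xe8_vec_congr C (by linear_combination (u3xe8_step12 C.μ C.a (C.a ^ 8) hΦ h2 hab).1) (by linear_combination (u3xe8_step12 C.μ C.a (C.a ^ 8) hΦ h2 hab).2.1)
      (by linear_combination (u3xe8_step12 C.μ C.a (C.a ^ 8) hΦ h2 hab).2.2)  -- the final vector is `ζ • e`
  set ζ : F := 1 + C.μ^2 + C.μ^5 with hζ
  have hζ0 : ζ ≠ 0 := by
    intro h0
    have h1 : ζ * (1 + C.μ^3 + C.μ^4 + C.μ^5) = 1 := by
      rw [hζ]
      linear_combination (C.μ^2 + C.μ^3 + C.μ^4) * hΦ + (C.μ^5) * h2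
    rw [h0, zero_mul] at h1
    exact zero_ne_one h1
  have hζ9 : ζ ^ 9 = C.μ + C.μ^2 + C.μ^5 := u3xe8_zeta9 C.μ hΦ h2
  have hvec : u3xe8_vec C ζ 0 0 = ζ • C.e := by simp [u3xe8_vec]
  refine ⟨ζ ^ 9, pow_ne_zero _ hζ0, ?_, ?_, ?_⟩
  · intro h1
    rw [hζ9] at h1
    have : C.a * C.a ^ 8 = 0 := by rw [hab]; linear_combination h1 + h2
    rcases mul_eq_zero.1 this with h | h
    · exact ha0 h
    · exact ha0 (pow_eq_zero_iff (by norm_num) |>.1 h)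
  · have h63 : ζ ^ 63 = 1 := by
      have := FiniteField.pow_card_sub_one_eq_one ζ hζ0
      rw [hF] at this
      exact this
    calc (ζ ^ 9) ^ 8 = ζ ^ 63 * ζ ^ 9 := by ring
      _ = ζ ^ 9 := by rw [h63, one_mul]
  · intro z hz hzH
    have h := p13.2 z hz hzH
    rw [hvec, utv_smul C.e C.hee z ζ] at h
    exact h

end Cfsg.Agent.Lib.Helper23.U3
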