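import Mathlib

set_option autoImplicit false

/-! U3 hive (S2283), leaf XE-8: the field identities of the word certificate for `q = 8`
(`F = F_2[μ]`, `μ^6 + μ^3 + 1 = 0`, `a * b = N(a) = s^3`), generated by `tools/helper23/su3py`. -/

namespace Cfsg.Agent.Lib.Helper23.U3

variable {F : Type*} [Field F]

/-- step 0 (letter T; forward map T) -/
theorem u3xe8_step0 (μ a b : F) (hΦ : μ ^ 6 + μ ^ 3 + 1 = 0) (h2 : (2 : F) = 0)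
    (hab : a * b = 1 + μ + μ^2 + μ^5) :
    ((1) : F) = 1 ∧
    ((0) : F) = 0 ∧
    (((0) + 1 * (1)) : F) = 1 := by
  refine ⟨?_, ?_, ?_⟩
  · ring
  · ring
  · ring

/-- step 1 (letter u; forward map u) -/
theorem u3xe8_step1 (μ a b : F) (hΦ : μ ^ 6 + μ ^ 3 + 1 = 0) (h2 : (2 : F) = 0)
    (hab : a * b = 1 + μ + μ^2 + μ^5) :
    (((1) + (1) * (1 + μ^2 + μ^3 + μ^5) - (0) * b) : F) = μ^2 + μ^3 + μ^5 ∧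
    (((0) + (1) * a) : F) = a ∧
    ((1) : F) = 1 := by
  refine ⟨?_, ?_, ?_⟩
  · linear_combination (1) * h2
  · ring
  · ring

/-- step 2 (letter u; forward map u) -/
theorem u3xe8_step2 (μ a b : F) (hΦ : μ ^ 6 + μ ^ 3 + 1 = 0) (h2 : (2 : F) = 0)
    (hab : a * b = 1 + μ + μ^2 + μ^5) :
    (((μ^2 + μ^3 + μ^5) + (1) * (1 + μ^2 + μ^3 + μ^5) - (a) * b) : F) = μ + μ^2 + μ^5 ∧
    (((a) + (1) * a) : F) = 0 ∧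
    ((1) : F) = 1 := by
  refine ⟨?_, ?_, ?_⟩
  · linear_combination (-1) * hab + (-μ + μ^3) * h2
  · linear_combination (a) * h2
  · ring

/-- step 3 (letter T; forward map T) -/
theorem u3xe8_step3 (μ a b : F) (hΦ : μ ^ 6 + μ ^ 3 + 1 = 0) (h2 : (2 : F) = 0)
    (hab : a * b = 1 + μ + μ^2 + μ^5) :
    ((μ + μ^2 + μ^5) : F) = μ + μ^2 + μ^5 ∧
    ((0) : F) = 0 ∧
    (((1) + 1 * (μ + μ^2 + μ^5)) : F) = 1 + μ + μ^2 + μ^5 := by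
  refine ⟨?_, ?_, ?_⟩
  · ring
  · ring
  · ring

/-- step 4 (letter u; forward map u) -/
theorem u3xe8_step4 (μ a b : F) (hΦ : μ ^ 6 + μ ^ 3 + 1 = 0) (h2 : (2 : F) = 0)
    (hab : a * b = 1 + μ + μ^2 + μ^5) :
    (((μ + μ^2 + μ^5) + (1 + μ + μ^2 + μ^5) * (1 + μ^2 + μ^3 + μ^5) - (0) * b) : F) = μ + μ^3 + μ^5 ∧
    (((0) + (1 + μ + μ^2 + μ^5) * a) : F) = a + μ * a + μ^2 * a + μ^5 * a ∧
    ((1 + μ + μ^2 + μ^5) : F) = 1 + μ + μ^2 + μ^5 := by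
  refine ⟨?_, ?_, ?_⟩
  · linear_combination (1 + μ + μ^2 + μ^4) * hΦ + (μ^2 + μ^5) * h2
  · ring
  · ring

/-- step 5 (letter T; forward map T) -/
theorem u3xe8_step5 (μ a b : F) (hΦ : μ ^ 6 + μ ^ 3 + 1 = 0) (h2 : (2 : F) = 0)
    (hab : a * b = 1 + μ + μ^2 + μ^5) :
    ((μ + μ^3 + μ^5) : F) = μ + μ^3 + μ^5 ∧
    ((a + μ * a + μ^2 * a + μ^5 * a) : F) = a + μ * a + μ^2 * a + μ^5 * a ∧
    (((1 + μ + μ^2 + μ^5) + 1 * (μ + μ^3 + μ^5)) : F) = 1 + μ^2 + μ^3 := by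
  refine ⟨?_, ?_, ?_⟩
  · ring
  · ring
  · linear_combination (μ + μ^5) * h2

/-- step 6 (letter u; forward map u) -/
theorem u3xe8_step6 (μ a b : F) (hΦ : μ ^ 6 + μ ^ 3 + 1 = 0) (h2 : (2 : F) = 0)
    (hab : a * b = 1 + μ + μ^2 + μ^5) :
    (((μ + μ^3 + μ^5) + (1 + μ^2 + μ^3) * (1 + μ^2 + μ^3 + μ^5) - (a + μ * a + μ^2 * a + μ^5 * a) * b) : F) = 1 + μ + μ^4 + μ^5 ∧
    (((a + μ * a + μ^2 * a + μ^5 * a) + (1 + μ^2 + μ^3) * a) : F) = μ * a + μ^3 * a + μ^5 * a ∧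
    ((1 + μ^2 + μ^3) : F) = 1 + μ^2 + μ^3 := by
  refine ⟨?_, ?_, ?_⟩
  · linear_combination (-1 - μ - μ^2 - μ^5) * hab + (-1 + μ^2 - μ^4) * hΦ + (-μ - μ^2 + μ^3) * h2
  · linear_combination (a + μ^2 * a) * h2
  · ring

/-- step 7 (letter T; forward map T) -/
theorem u3xe8_step7 (μ a b : F) (hΦ : μ ^ 6 + μ ^ 3 + 1 = 0) (h2 : (2 : F) = 0)
    (hab : a * b = 1 + μ + μ^2 + μ^5) :
    ((1 + μ + μ^4 + μ^5) : F) = 1 + μ + μ^4 + μ^5 ∧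
    ((μ * a + μ^3 * a + μ^5 * a) : F) = μ * a + μ^3 * a + μ^5 * a ∧
    (((1 + μ^2 + μ^3) + 1 * (1 + μ + μ^4 + μ^5)) : F) = μ + μ^2 + μ^3 + μ^4 + μ^5 := by
  refine ⟨?_, ?_, ?_⟩
  · ring
  · ring
  · linear_combination (1) * h2

/-- step 8 (letter s; forward map S) -/
theorem u3xe8_step8 (μ a b : F) (hΦ : μ ^ 6 + μ ^ 3 + 1 = 0) (h2 : (2 : F) = 0)
    (hab : a * b = 1 + μ + μ^2 + μ^5) :
    ((μ * (1 + μ^2 + μ^3 + μ^4 + μ^5)) : F) = 1 + μ + μ^4 + μ^5 ∧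
    (((μ ^ 8) ^ 2 * (μ * a + μ^3 * a + μ^4 * a + μ^5 * a)) : F) = μ * a + μ^3 * a + μ^5 * a ∧
    ((μ * (1 + μ + μ^2 + μ^3 + μ^4)) : F) = μ + μ^2 + μ^3 + μ^4 + μ^5 := by
  refine ⟨?_, ?_, ?_⟩
  · linear_combination (1) * hΦ + (-1) * h2
  · linear_combination (-μ * a - μ^3 * a + μ^4 * a + μ^5 * a + μ^6 * a - μ^8 * a - μ^10 * a - μ^12 * a + μ^13 * a + μ^14 * a + μ^15 * a) * hΦ + (-μ^5 * a) * h2
  · ring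

/-- step 9 (letter U; forward map u) -/
theorem u3xe8_step9 (μ a b : F) (hΦ : μ ^ 6 + μ ^ 3 + 1 = 0) (h2 : (2 : F) = 0)
    (hab : a * b = 1 + μ + μ^2 + μ^5) :
    (((μ + μ^3 + μ^4 + μ^5) + (1 + μ + μ^2 + μ^3 + μ^4) * (1 + μ^2 + μ^3 + μ^5) - (a + μ^2 * a + μ^5 * a) * b) : F) = 1 + μ^2 + μ^3 + μ^4 + μ^5 ∧
    (((a + μ^2 * a + μ^5 * a) + (1 + μ + μ^2 + μ^3 + μ^4) * a) : F) = μ * a + μ^3 * a + μ^4 * a + μ^5 * a ∧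
    ((1 + μ + μ^2 + μ^3 + μ^4) : F) = 1 + μ + μ^2 + μ^3 + μ^4 := by
  refine ⟨?_, ?_, ?_⟩
  · linear_combination (-1 - μ^2 - μ^5) * hab + (1 + μ + μ^2 + μ^3 - μ^4) * hΦ + (-1 - μ^2 + μ^4) * h2
  · linear_combination (a + μ^2 * a) * h2
  · ring

/-- step 10 (letter T; forward map T) -/
theorem u3xe8_step10 (μ a b : F) (hΦ : μ ^ 6 + μ ^ 3 + 1 = 0) (h2 : (2 : F) = 0)
    (hab : a * b = 1 + μ + μ^2 + μ^5) :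
    ((μ + μ^3 + μ^4 + μ^5) : F) = μ + μ^3 + μ^4 + μ^5 ∧
    ((a + μ^2 * a + μ^5 * a) : F) = a + μ^2 * a + μ^5 * a ∧
    (((1 + μ + μ^2 + μ^3 + μ^4) + 1 * (μ + μ^3 + μ^4 + μ^5)) : F) = 1 + μ^2 + μ^5 := by
  refine ⟨?_, ?_, ?_⟩
  · ring
  · ring
  · linear_combination (μ + μ^3 + μ^4) * h2

/-- step 11 (letter U; forward map u) -/
theorem u3xe8_step11 (μ a b : F) (hΦ : μ ^ 6 + μ ^ 3 + 1 = 0) (h2 : (2 : F) = 0)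
    (hab : a * b = 1 + μ + μ^2 + μ^5) :
    (((1 + μ^2 + μ^5) + (1 + μ^2 + μ^5) * (1 + μ^2 + μ^3 + μ^5) - (0) * b) : F) = μ + μ^3 + μ^4 + μ^5 ∧
    (((0) + (1 + μ^2 + μ^5) * a) : F) = a + μ^2 * a + μ^5 * a ∧
    ((1 + μ^2 + μ^5) : F) = 1 + μ^2 + μ^5 := by
  refine ⟨?_, ?_, ?_⟩
  · linear_combination (μ + μ^2 + μ^4) * hΦ + (1 - μ + μ^2 - μ^4 + μ^5) * h2
  · ring
  · ring

/-- step 12 (letter T; forward map T) -/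
theorem u3xe8_step12 (μ a b : F) (hΦ : μ ^ 6 + μ ^ 3 + 1 = 0) (h2 : (2 : F) = 0)
    (hab : a * b = 1 + μ + μ^2 + μ^5) :
    ((1 + μ^2 + μ^5) : F) = 1 + μ^2 + μ^5 ∧
    ((0) : F) = 0 ∧
    (((1 + μ^2 + μ^5) + 1 * (1 + μ^2 + μ^5)) : F) = 0 := by
  refine ⟨?_, ?_, ?_⟩
  · ring
  · ring
  · linear_combination (1 + μ^2 + μ^5) * h2

theorem u3xe8_beta (μ : F) (hΦ : μ ^ 6 + μ ^ 3 + 1 = 0) (h2 : (2 : F) = 0) :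
    3 * μ ^ 8 - 2 - (μ ^ 8) ^ 3 = 1 + μ^2 + μ^3 + μ^5 := by
  linear_combination (-1 + 3 * μ^2 + μ^6 - μ^9 + μ^15 - μ^18) * hΦ + (-1 - 2 * μ^2 - 2 * μ^5) * h2

theorem u3xe8_s3 (μ : F) (hΦ : μ ^ 6 + μ ^ 3 + 1 = 0) (h2 : (2 : F) = 0) :
    (μ ^ 8 - μ) ^ 3 = 1 + μ + μ^2 + μ^5 := by
  linear_combination (1 - 3 * μ - 3 * μ^2 + 3 * μ^4 - μ^6 + 3 * μ^8 + μ^9 - 3 * μ^11 - μ^15 + μ^18) * hΦ + (-1 + μ + μ^2 - μ^3 + μ^5) * h2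

theorem u3xe8_zeta9 (μ : F) (hΦ : μ ^ 6 + μ ^ 3 + 1 = 0) (h2 : (2 : F) = 0) :
    (1 + μ^2 + μ^5) ^ 9 = μ + μ^2 + μ^5 := by
  linear_combination (-83 + 27 * μ + 36 * μ^2 - 85 * μ^3 + 171 * μ^4 - 162 * μ^5 + 252 * μ^6 - 126 * μ^7 + 252 * μ^8 + 85 * μ^9 + 117 * μ^10 + 414 * μ^11 - μ^12 + 639 * μ^13 + 126 * μ^14 + 504 * μ^15 + 513 * μ^16 + 216 * μ^17 + 758 * μ^18 + 180 * μ^19 + 540 * μ^20 + 427 * μ^21 + 189 * μ^22 + 504 * μ^23 + 111 * μ^24 + 261 * μ^25 + 216 * μ^26 + 50 * μ^27 + 180 * μ^28 + 36 * μ^29 + 49 * μ^30 + 63 * μ^31 + 27 * μ^33 + 9 * μ^34 + 8 * μ^36 + μ^39) * hΦ + (42 - 14 * μ - 14 * μ^2 + 84 * μ^3 - 81 * μ^4 + 67 * μ^5) * h2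

end Cfsg.Agent.Lib.Helper23.U3
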