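import Cfsg.Agent.Lib.Helper23.LargeFitD
import Cfsg.Agent.Lib.Helper1.PuigB3
import Cfsg.Agent.Lib.Helper11.Quad
import Cfsg.Agent.Lib.Helper54.Balance
import Cfsg.Agent.Lib.Helper30.PPrimeCore

set_option autoImplicit false
set_option linter.style.haveILetI false
set_option linter.unusedSectionVars false

/-!
# Tools for the uniqueness criterion (Bender–Glauberman, Theorem 9.1)

* invariant `p'`-subgroups of a solvable group normalized by a Sylow `p`-subgroup lie in `O_{p'}`;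
* invariant subgroups of coprime order lie in `K` as soon as those of prime power order do;
* the Puig factorization `H = O_{p'}(H) N_H(Z(L(R)))` at the subgroup level.
-/

namespace Cfsg.Agent.Lib.Helper23

open Subgroup Cfsg Cfsg.Agent.Lib.Helper33 Cfsg.Agent.Lib.Helper24 Cfsg.Agent.Lib.Helper32

universe u

section typelevel

variable {X : Type u} [Group X] [Finite X]

/-- the image of a Sylow `p`-subgroup under a surjective homomorphism contains `O_p` of the
image -/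
theorem pCore_le_map_sylow {Y : Type*} [Group Y] [Finite Y] {p : ℕ} [Fact p.Prime] (f : X →* Y)
    (hf : Function.Surjective f) (S : Sylow p X) : pCore p Y ≤ (S : Subgroup X).map f := by
  have h1 : IsPGroup p ((S : Subgroup X).map f) := S.2.map f
  have h2 : ¬ p ∣ ((S : Subgroup X).map f).index := by
    intro hd
    have h3 : ((S : Subgroup X).map f).index ∣ (S : Subgroup X).index :=
      Subgroup.index_map_dvd _ hf
    exact S.not_dvd_index (hd.trans h3)
  have h4 := Cfsg.Agent.Lib.Helper11.pCore_le_sylow (h1.toSylow h2)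
  rwa [IsPGroup.toSylow_coe] at h4

/-- In a finite solvable group, a `p'`-subgroup normalized by a Sylow `p`-subgroup lies in
`O_{p'}`. -/
theorem le_pPrimeCore_of_sylow_normalizes [Group.IsSolvable X] {p : ℕ} [Fact p.Prime]
    (S : Sylow p X) (Y : Subgroup X) (hY : (Nat.card Y).Coprime p)
    (hSY : (S : Subgroup X) ≤ normalizer (Y : Set X)) : Y ≤ pPrimeCore p X := by
  obtain ⟨f, hf⟩ : ∃ f : X →* X ⧸ pPrimeCore p X, f = QuotientGroup.mk' (pPrimeCore p X) :=
    ⟨_, rfl⟩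
  have hsurj : Function.Surjective f := hf ▸ QuotientGroup.mk'_surjective _
  have hker : f.ker = pPrimeCore p X := hf ▸ QuotientGroup.ker_mk' _
  obtain ⟨R, hR⟩ : ∃ R, R = pCore p (X ⧸ pPrimeCore p X) := ⟨_, rfl⟩
  have hc : centralizer (R : Set (X ⧸ pPrimeCore p X)) ≤ R :=
    hR ▸ Cfsg.Agent.Lib.Helper54.centralizer_pCore_quotient_le_of_isSolvable p
  have hRn : R.Normal := hR ▸ inferInstance
  have hRp : IsPGroup p R := hR ▸ Cfsg.Agent.Lib.Helper22.pCore_isPGroup' p _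
  have hRS : R ≤ (S : Subgroup X).map f := hR ▸ pCore_le_map_sylow f hsurj S
  have h1 : R ≤ normalizer ((Y.map f : Subgroup _) : Set _) :=
    hRS.trans ((Subgroup.map_mono hSY).trans (Subgroup.le_normalizer_map f))
  have h2 : Y.map f ≤ normalizer (R : Set _) := by
    rw [Subgroup.normalizer_eq_top]
    exact le_top
  have hcop : (Nat.card (Y.map f)).Coprime (Nat.card R) := by
    obtain ⟨k, hk⟩ := IsPGroup.iff_card.mp hRp
    rw [hk]
    apply Nat.Coprime.pow_right
    exact Nat.Coprime.coprime_dvd_left (Subgroup.card_map_dvd Y f) hY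
  have h3 : Y.map f ⊓ R = ⊥ := (Subgroup.disjoint_of_coprime_natCard hcop).eq_bot
  have h4 : Y.map f ≤ centralizer (R : Set _) :=
    le_centralizer_of_normalize_of_inf_eq_bot h2 h1 h3
  have h5 : Y.map f ≤ ⊥ := by
    rw [← h3]
    exact le_inf le_rfl (h4.trans hc)
  intro y hy
  rw [← hker, MonoidHom.mem_ker]
  exact (Subgroup.mem_bot).mp (h5 ⟨y, hy, rfl⟩)

end typelevel

section sub

variable {G : Type u} [Group G] [Finite G]

/-- In a solvable subgroup `M`, a `p'`-subgroup normalized by a Sylow `p`-subgroup of `M` lies in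
`O_{p'}(M)`. -/
theorem inv_le_pPrimeCoreOf {p : ℕ} [Fact p.Prime] {M S Y : Subgroup G}
    (hMs : Group.IsSolvable ↥M) (hSM : S ≤ M) (hS : IsPGroup p S) (hSi : ¬ p ∣ S.relIndex M)
    (hYM : Y ≤ M) (hY : (Nat.card Y).Coprime p) (hSY : S ≤ normalizer (Y : Set G)) :
    Y ≤ pPrimeCoreOf p M := by
  haveI := hMs
  obtain ⟨P, hP⟩ := exists_sylow_map_eq M S hSM hS hSi
  have h1 : Y.subgroupOf M ≤ pPrimeCore p ↥M := by
    apply le_pPrimeCore_of_sylow_normalizes P
    · rwa [Nat.card_congr (Subgroup.subgroupOfEquivOfLe hYM).toEquiv]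
    · intro x hx
      have hxS : (x : G) ∈ S := hP ▸ ⟨x, hx, rfl⟩
      have h2 := hSY hxS
      rw [mem_normalizer_iff] at h2 ⊢
      intro y
      rw [Subgroup.mem_subgroupOf, Subgroup.mem_subgroupOf]
      exact h2 y
  intro y hy
  exact ⟨⟨y, hYM hy⟩, h1 (Subgroup.mem_subgroupOf.mpr hy), rfl⟩

/-- if all `X`-invariant subgroups of prime-power order `q^k`, `q ∤ n`, lie in `K`, then so do
all `X`-invariant subgroups of order prime to `n` (where `|X|` divides `n`) -/
theorem invSubgroups_le_of_prime {X K : Subgroup G} {n : ℕ} (hXn : Nat.card X ∣ n)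
    (hX : Group.IsSolvable ↥X)
    (h : ∀ q : ℕ, q.Prime → ¬ q ∣ n → ∀ Q : Subgroup G, IsPGroup q Q →
      X ≤ normalizer (Q : Set G) → Q ≤ K) :
    ∀ Y ∈ invSubgroups ⊤ X (primesNotDvd n), Y ≤ K := by
  intro Y hY
  by_contra hne
  have hc1 : (Y ⊓ K).relIndex Y ≠ 1 := by
    intro hc
    apply hne
    have := Subgroup.relIndex_eq_one.mp hc
    exact this.trans inf_le_right
  obtain ⟨q, hq, hqd⟩ := Nat.exists_prime_and_dvd hc1
  haveI : Fact q.Prime := ⟨hq⟩
  have hqY : q ∣ Nat.card Y := hqd.trans (Subgroup.relIndex_dvd_card _ _)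
  have hqn : ¬ q ∣ n := (hY.2.1 q hq hqY).2
  have hcop : (Nat.card X).Coprime (Nat.card Y) := by
    apply Nat.Coprime.coprime_dvd_left hXn
    apply Nat.Coprime.symm
    apply Nat.coprime_of_dvd
    intro r hr hrY hrn
    exact (hY.2.1 r hr hrY).2 hrn
  obtain ⟨P, hP⟩ := exists_invariant_sylow (p := q) X Y hY.2.2 hcop (Or.inl hX)
  obtain ⟨hPY, hPp, hPi⟩ := sylow_map_facts Y P
  have hPK := h q hq hqn _ hPp hP
  apply hPi
  rw [← Subgroup.relIndex_mul_relIndex _ (Y ⊓ K) Y (le_inf hPY hPK) inf_le_left]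
  exact Dvd.dvd.mul_left hqd _

/-- `Z(L(R))`, the centre of the Puig subgroup of `R`, as a subgroup of `G` -/
def zL (R : Subgroup G) : Subgroup G :=
  Cfsg.Agent.Lib.Helper1.Puig.centerIn (Cfsg.Agent.Lib.Helper1.Puig.upperIn R)

theorem zL_le (R : Subgroup G) : zL R ≤ R :=
  inf_le_left.trans (Cfsg.Agent.Lib.Helper1.Puig.upperIn_le R)

theorem normalizer_le_normalizer_zL (R : Subgroup G) :
    normalizer (R : Set G) ≤ normalizer ((zL R : Subgroup G) : Set G) :=
  (Cfsg.Agent.Lib.Helper1.Puig.normalizer_le_normalizer_upperIn R).trans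
    (Cfsg.Agent.Lib.Helper1.Puig.normalizer_le_normalizer_centerIn _)

theorem upperIn_ne_bot {p : ℕ} [Fact p.Prime] {R : Subgroup G} (hR : IsPGroup p R)
    (hne : R ≠ ⊥) : Cfsg.Agent.Lib.Helper1.Puig.upperIn R ≠ ⊥ := by
  obtain ⟨k, hk⟩ := Cfsg.Agent.Lib.Helper1.Puig.exists_stable R
  have h1 := (hk k le_rfl).2
  have h2 := Cfsg.Agent.Lib.Helper1.Puig.inf_centralizer_seqIn_le R hR (2 * k)
  rw [h1] at h2
  intro hbot
  rw [hbot] at h2
  apply hne
  rw [eq_bot_iff]
  intro x hx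
  apply h2
  refine Subgroup.mem_inf.mpr ⟨hx, ?_⟩
  rw [mem_centralizer_iff]
  intro y hy
  rw [SetLike.mem_coe, mem_bot] at hy
  rw [hy, one_mul, mul_one]

theorem zL_ne_bot {p : ℕ} [Fact p.Prime] {R : Subgroup G} (hR : IsPGroup p R) (hne : R ≠ ⊥) :
    zL R ≠ ⊥ := by
  obtain ⟨L, hL⟩ : ∃ L, L = Cfsg.Agent.Lib.Helper1.Puig.upperIn R := ⟨_, rfl⟩
  have hLne : L ≠ ⊥ := hL ▸ upperIn_ne_bot hR hne
  have hLp : IsPGroup p L := hR.to_le (hL ▸ Cfsg.Agent.Lib.Helper1.Puig.upperIn_le R)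
  have : Nontrivial ↥L := (Subgroup.nontrivial_iff_ne_bot _).mpr hLne
  have := hLp.center_nontrivial
  obtain ⟨z, hz1⟩ := exists_ne (1 : ↥(center ↥L))
  have hz : ((z : L) : G) ∈ L ⊓ centralizer (L : Set G) := by
    refine Subgroup.mem_inf.mpr ⟨(z : L).2, ?_⟩
    rw [mem_centralizer_iff]
    intro y hy
    have := (Subgroup.mem_center_iff.mp z.2) ⟨y, hy⟩
    exact congrArg Subtype.val this
  intro hbot
  have h1 : ((z : L) : G) ∈ zL R := by
    unfold zL Cfsg.Agent.Lib.Helper1.Puig.centerIn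
    rw [← hL]
    exact hz
  rw [hbot, mem_bot] at h1
  apply hz1
  apply Subtype.ext
  apply Subtype.ext
  exact h1

/-- **Puig factorization at the subgroup level**: `H = O_{p'}(H) N_H(Z(L(R)))` for a Sylow
`p`-subgroup `R` of the solvable subgroup `H` of odd order. -/
theorem exists_mul_zL {p : ℕ} [Fact p.Prime] (hp2 : p ≠ 2) {H R : Subgroup G}
    (hHs : Group.IsSolvable ↥H) (hodd : Odd (Nat.card ↥H)) (hRH : R ≤ H) (hR : IsPGroup p R)
    (hRi : ¬ p ∣ R.relIndex H) {h : G} (hh : h ∈ H) :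
    ∃ k ∈ pPrimeCoreOf p H, ∃ n ∈ H, n ∈ normalizer ((zL R : Subgroup G) : Set G) ∧
      h = k * n := by
  haveI := hHs
  obtain ⟨P, hP⟩ := exists_sylow_map_eq H R hRH hR hRi
  have hfac := Cfsg.Agent.Lib.Helper1.Puig.pPrimeCore_sup_normalizer_centerIn (G := ↥H) hodd p
    hp2 P
  have hmem : (⟨h, hh⟩ : ↥H) ∈ pPrimeCore p ↥H ⊔ normalizer
      ((Cfsg.Agent.Lib.Helper1.Puig.centerIn (Cfsg.Agent.Lib.Helper1.Puig.upperIn
        (P : Subgroup ↥H)) : Subgroup ↥H) : Set ↥H) := by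
    rw [hfac]; exact mem_top _
  rw [← SetLike.mem_coe, Subgroup.normal_mul, Set.mem_mul] at hmem
  obtain ⟨k, hk, n, hn, hkn⟩ := hmem
  have hinj : ∀ x ∈ (P : Subgroup ↥H), H.subtype x = 1 → x = 1 := by
    intro x _ hx
    exact Subtype.ext hx
  have hmap : (Cfsg.Agent.Lib.Helper1.Puig.centerIn (Cfsg.Agent.Lib.Helper1.Puig.upperIn
      (P : Subgroup ↥H))).map H.subtype = zL R := by
    rw [Cfsg.Agent.Lib.Helper1.Puig.map_centerIn H.subtype (P : Subgroup ↥H) _
      (Cfsg.Agent.Lib.Helper1.Puig.upperIn_le _) hinj,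
      Cfsg.Agent.Lib.Helper1.Puig.map_upperIn H.subtype _ hinj, hP]
    rfl
  refine ⟨(k : G), ⟨k, hk, rfl⟩, (n : G), n.2, ?_, ?_⟩
  · rw [← hmap]
    exact Subgroup.le_normalizer_map H.subtype ⟨n, hn, rfl⟩
  · have := congrArg Subtype.val hkn
    simpa using this.symm

end sub

end Cfsg.Agent.Lib.Helper23
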