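import Cfsg.Agent.Lib.Helper23.Uniq91A
import Cfsg.Agent.Lib.Helper32.NarrowDef
import Cfsg.Agent.Lib.Helper32.Rank2Solv
import Cfsg.Agent.Lib.Helper32.PPrimeP
import Cfsg.Agent.Lib.Helper21.Rank

set_option autoImplicit false
set_option linter.style.haveILetI false
set_option linter.unusedSectionVars false

/-!
# Subgroups of a Sylow `p`-subgroup lying in `O_{p',p}`

For a solvable group `X` of odd order with Sylow `p`-subgroup `S`:
* an abelian normal subgroup of `S` lies in `O_{p',p}(X)` (`p`-stability);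
* if `S` has rank at most two, `S` itself lies in `O_{p',p}(X)` (`p`-length one).
-/

namespace Cfsg.Agent.Lib.Helper23

open Subgroup Cfsg Cfsg.Agent.Lib.Helper33 Cfsg.Agent.Lib.Helper24 Cfsg.Agent.Lib.Helper32

open scoped commutatorElement

universe u

section typelevel

variable {X : Type u} [Group X] [Finite X]

/-- **`p`-stability**, type level: in a solvable group `Y` of odd order with `O_{p'}(Y) = 1`, an
abelian subgroup normalized by `O_p(Y)` lies in `O_p(Y)`. -/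
theorem le_pCore_of_abelian_normal_type [Group.IsSolvable X] {p : ℕ} [Fact p.Prime] (hp2 : p ≠ 2)
    (hodd : Odd (Nat.card X)) (hcore : pPrimeCore p X = ⊥) {A : Subgroup X}
    (hcomm : ∀ x ∈ A, ∀ y ∈ A, x * y = y * x) (hN : pCore p X ≤ normalizer (A : Set X)) :
    A ≤ pCore p X := by
  have hps : IsPSolvable p X := Cfsg.Agent.Lib.Helper53.isPSolvable_of_isSolvable p inferInstance
  have hno : Cfsg.Agent.Lib.Helper35.NoSL p X := Cfsg.Agent.Lib.Helper35.noSL_of_odd hodd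
  have hVp : IsPGroup p (pCore p X) := Cfsg.Agent.Lib.Helper22.pCore_isPGroup' p X
  have hcent := Cfsg.Agent.Lib.Helper55.centralizer_pCore_le (G := X) p hcore
  intro a ha
  have hq : ∀ v ∈ pCore p X, ⁅a, ⁅a, v⁆⁆ = 1 := by
    intro v hv
    have hvN : v ∈ normalizer (A : Set X) := hN hv
    have h1 : v * a⁻¹ * v⁻¹ ∈ A := (mem_normalizer_iff.mp hvN a⁻¹).mp (A.inv_mem ha)
    have h2 : a * (v * a⁻¹ * v⁻¹) ∈ A := A.mul_mem ha h1
    have h3 : ⁅a, ⁅a, v⁆⁆ = ⁅a, a * (v * a⁻¹ * v⁻¹)⁆ := by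
      simp only [commutatorElement_def]
      group
    rw [h3, commutatorElement_eq_one_iff_mul_comm]
    exact hcomm a ha _ h2
  obtain ⟨D, hDn, haD, hD⟩ := Cfsg.Agent.Lib.Helper35.PStab.pstable_D hp2 hps hno
    (pCore p X) hVp a hq
  have hDp : IsPGroup p D := by
    intro d
    obtain ⟨k, hk⟩ := hD d d.2
    have h1 : (d : X) ^ (p ^ k) ∈ pCore p X := hcent hk
    obtain ⟨j, hj⟩ := hVp ⟨_, h1⟩
    refine ⟨k + j, ?_⟩
    apply Subtype.ext
    have h2 : ((d : X) ^ (p ^ k)) ^ (p ^ j) = 1 := by simpa using congrArg Subtype.val hj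
    rw [Subgroup.coe_pow, Subgroup.coe_one, pow_add, pow_mul]
    exact h2
  exact (Cfsg.Agent.Lib.Helper22.le_pCore' hDn hDp) haD

/-- an abelian normal subgroup of a Sylow `p`-subgroup of a solvable group of odd order lies in
`O_{p',p}` -/
theorem le_pPrimePCore_of_abelian_normal [Group.IsSolvable X] {p : ℕ} [Fact p.Prime]
    (hp2 : p ≠ 2) (hodd : Odd (Nat.card X)) (S : Sylow p X) {A : Subgroup X}
    (hcomm : ∀ x ∈ A, ∀ y ∈ A, x * y = y * x)
    (hN : (S : Subgroup X) ≤ normalizer (A : Set X)) : A ≤ pPrimePCore p X := by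
  obtain ⟨f, hf⟩ : ∃ f : X →* X ⧸ pPrimeCore p X, f = QuotientGroup.mk' (pPrimeCore p X) :=
    ⟨_, rfl⟩
  have hsurj : Function.Surjective f := hf ▸ QuotientGroup.mk'_surjective _
  have hoddY : Odd (Nat.card (X ⧸ pPrimeCore p X)) :=
    Odd.of_dvd_nat hodd (Subgroup.card_quotient_dvd_card _)
  have hcoreY : pPrimeCore p (X ⧸ pPrimeCore p X) = ⊥ :=
    Cfsg.Agent.Lib.Helper30.pPrimeCore_quotient_eq_bot p
  have h1 : A.map f ≤ pCore p (X ⧸ pPrimeCore p X) := by
    apply le_pCore_of_abelian_normal_type hp2 hoddY hcoreY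
    · rintro _ ⟨x, hx, rfl⟩ _ ⟨y, hy, rfl⟩
      rw [← map_mul, ← map_mul, hcomm x hx y hy]
    · exact (pCore_le_map_sylow f hsurj S).trans
        ((Subgroup.map_mono hN).trans (Subgroup.le_normalizer_map f))
  unfold pPrimePCore
  rw [← hf]
  exact Subgroup.map_le_iff_le_comap.mp h1

/-- a Sylow `p`-subgroup of rank at most two of a solvable group of odd order lies in
`O_{p',p}` -/
theorem sylow_le_pPrimePCore_of_rank_two [Group.IsSolvable X] {p : ℕ} [Fact p.Prime]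
    (hodd : Odd (Nat.card X)) (S : Sylow p X) (hr : PRankLE p 2 ↥(S : Subgroup X)) :
    (S : Subgroup X) ≤ pPrimePCore p X := by
  have hpp : p.Prime := Fact.out
  obtain ⟨f, hf⟩ : ∃ f : X →* X ⧸ pPrimeCore p X, f = QuotientGroup.mk' (pPrimeCore p X) :=
    ⟨_, rfl⟩
  have hsurj : Function.Surjective f := hf ▸ QuotientGroup.mk'_surjective _
  have hoddY : Odd (Nat.card (X ⧸ pPrimeCore p X)) :=
    Odd.of_dvd_nat hodd (Subgroup.card_quotient_dvd_card _)
  have hcoreY : pPrimeCore p (X ⧸ pPrimeCore p X) = ⊥ :=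
    Cfsg.Agent.Lib.Helper30.pPrimeCore_quotient_eq_bot p
  have hrX : PRankLE p 2 X := Cfsg.Agent.Lib.Helper32.Narrow.pRankLE_of_sylow p S hr
  have hrQ := Cfsg.Agent.Lib.Helper32.Rank2.pRankLE_pCore_quotient p hrX
  have hpow := Cfsg.Agent.Lib.Helper32.Narrow.exists_pow_mem_centralizer_pCore_of_rank
    (G := X ⧸ pPrimeCore p X) hoddY p hpp hrQ
  have hcent := Cfsg.Agent.Lib.Helper55.centralizer_pCore_le (G := X ⧸ pPrimeCore p X) p hcoreY
  have hVp : IsPGroup p (pCore p (X ⧸ pPrimeCore p X)) :=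
    Cfsg.Agent.Lib.Helper22.pCore_isPGroup' p _
  have hDp : IsPGroup p (commutator (X ⧸ pPrimeCore p X)) := by
    intro d
    obtain ⟨k, hk⟩ := hpow d d.2
    have h1 : (d : X ⧸ pPrimeCore p X) ^ (p ^ k) ∈ pCore p (X ⧸ pPrimeCore p X) := hcent hk
    obtain ⟨j, hj⟩ := hVp ⟨_, h1⟩
    refine ⟨k + j, ?_⟩
    apply Subtype.ext
    have h2 : ((d : X ⧸ pPrimeCore p X) ^ (p ^ k)) ^ (p ^ j) = 1 := by
      simpa using congrArg Subtype.val hj
    rw [Subgroup.coe_pow, Subgroup.coe_one, pow_add, pow_mul]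
    exact h2
  have hDle : commutator (X ⧸ pPrimeCore p X) ≤ pCore p (X ⧸ pPrimeCore p X) :=
    Cfsg.Agent.Lib.Helper22.le_pCore' inferInstance hDp
  have hDS : commutator (X ⧸ pPrimeCore p X) ≤ (S : Subgroup X).map f :=
    hDle.trans (pCore_le_map_sylow f hsurj S)
  have hSn : ((S : Subgroup X).map f).Normal := by
    refine ⟨fun s hs g => ?_⟩
    have h1 : g * s * g⁻¹ = ⁅g, s⁆ * s := by
      rw [commutatorElement_def]; group
    rw [h1]
    apply Subgroup.mul_mem _ _ hs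
    apply hDS
    rw [_root_.commutator_def]
    exact Subgroup.commutator_mem_commutator (mem_top g) (mem_top s)
  have h3 : (S : Subgroup X).map f ≤ pCore p (X ⧸ pPrimeCore p X) :=
    Cfsg.Agent.Lib.Helper22.le_pCore' hSn (S.2.map f)
  unfold pPrimePCore
  rw [← hf]
  exact Subgroup.map_le_iff_le_comap.mp h3

end typelevel

section sub

variable {G : Type u} [Group G] [Finite G]

/-- `H`-conjugates of a subgroup of `O_{p',p}(H)` lie in `O_{p'}(H) P`, for a Sylow `p`-subgroup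
`P` of `H` -/
theorem cj_le_sup_of_le_pPrimePCore {p : ℕ} [Fact p.Prime] {H A : Subgroup G} (hAH : A ≤ H)
    (P' : Sylow p ↥H) (hA : A.subgroupOf H ≤ pPrimePCore p ↥H) {h : G} (hh : h ∈ H) :
    cj h A ≤ pPrimeCoreOf p H ⊔ (P' : Subgroup ↥H).map H.subtype := by
  haveI hWn : (pPrimePCore p ↥H).Normal := Cfsg.Agent.Lib.Helper32.pPrimePCore_normal p ↥H
  have hsup := Cfsg.Agent.Lib.Helper32.pPrimeCore_sup_sylow_inf P'
  intro x hx
  obtain ⟨a, ha, rfl⟩ := mem_cj'.mp hx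
  have h1 : (⟨a, hAH ha⟩ : ↥H) ∈ pPrimePCore p ↥H := hA (Subgroup.mem_subgroupOf.mpr ha)
  have h2 : (⟨h, hh⟩ : ↥H) * ⟨a, hAH ha⟩ * (⟨h, hh⟩ : ↥H)⁻¹ ∈ pPrimePCore p ↥H :=
    hWn.conj_mem _ h1 _
  rw [← hsup] at h2
  have h3 : pPrimeCore p ↥H ⊔ ((P' : Subgroup ↥H) ⊓ pPrimePCore p ↥H) ≤
      pPrimeCore p ↥H ⊔ (P' : Subgroup ↥H) := sup_le_sup_left inf_le_left _
  have h4 := Subgroup.mem_map_of_mem H.subtype (h3 h2)
  rw [Subgroup.map_sup] at h4
  exact h4

/-- `H`-conjugates of an abelian normal subgroup `A` of the Sylow `p`-subgroup `P` of the solvable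
subgroup `H` of odd order lie in `O_{p'}(H) P` -/
theorem cj_le_of_abelian_normal {p : ℕ} [Fact p.Prime] (hp2 : p ≠ 2) {H P A : Subgroup G}
    (hHs : Group.IsSolvable ↥H) (hodd : Odd (Nat.card ↥H)) (hPH : P ≤ H) (hP : IsPGroup p P)
    (hPi : ¬ p ∣ P.relIndex H) (hAP : A ≤ P) (hAc : ∀ x ∈ A, ∀ y ∈ A, x * y = y * x)
    (hPA : P ≤ normalizer (A : Set G)) {h : G} (hh : h ∈ H) :
    cj h A ≤ pPrimeCoreOf p H ⊔ P := by
  haveI := hHs
  obtain ⟨P', hP'⟩ := exists_sylow_map_eq H P hPH hP hPi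
  have h1 : A.subgroupOf H ≤ pPrimePCore p ↥H := by
    apply le_pPrimePCore_of_abelian_normal hp2 hodd P'
    · intro x hx y hy
      apply Subtype.ext
      exact hAc _ (Subgroup.mem_subgroupOf.mp hx) _ (Subgroup.mem_subgroupOf.mp hy)
    · intro x hx
      have hxP : (x : G) ∈ P := hP' ▸ ⟨x, hx, rfl⟩
      have h2 := hPA hxP
      rw [mem_normalizer_iff] at h2 ⊢
      intro y
      rw [Subgroup.mem_subgroupOf, Subgroup.mem_subgroupOf]
      exact h2 y
  have := cj_le_sup_of_le_pPrimePCore (hAP.trans hPH) P' h1 hh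
  rwa [hP'] at this

/-- `H`-conjugates of a Sylow `p`-subgroup `P` of rank at most two of the solvable subgroup `H` of
odd order lie in `O_{p'}(H) P` -/
theorem cj_le_of_rank_two {p : ℕ} [Fact p.Prime] {H P : Subgroup G}
    (hHs : Group.IsSolvable ↥H) (hodd : Odd (Nat.card ↥H)) (hPH : P ≤ H) (hP : IsPGroup p P)
    (hPi : ¬ p ∣ P.relIndex H) (hr : PRankLE p 2 ↥P) {h : G} (hh : h ∈ H) :
    cj h P ≤ pPrimeCoreOf p H ⊔ P := by
  haveI := hHs
  obtain ⟨P', hP'⟩ := exists_sylow_map_eq H P hPH hP hPi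
  have hmem : ∀ x : ↥(P' : Subgroup ↥H), ((x : ↥H) : G) ∈ P := fun x => hP' ▸ ⟨x, x.2, rfl⟩
  have hr' : PRankLE p 2 ↥(P' : Subgroup ↥H) := by
    let f : ↥(P' : Subgroup ↥H) →* ↥P :=
      { toFun := fun x => ⟨((x : ↥H) : G), hmem x⟩
        map_one' := rfl
        map_mul' := fun _ _ => rfl }
    apply Cfsg.Agent.Lib.Helper21.pRankLE_of_injective p 2 f _ hr
    intro x y hxy
    apply Subtype.ext
    apply Subtype.ext
    have := congrArg Subtype.val hxy
    exact this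
  have h1 : P.subgroupOf H ≤ pPrimePCore p ↥H := by
    have h2 := sylow_le_pPrimePCore_of_rank_two hodd P' hr'
    intro x hx
    apply h2
    have hxP : (x : G) ∈ P := Subgroup.mem_subgroupOf.mp hx
    rw [← hP'] at hxP
    obtain ⟨y, hy, hyx⟩ := hxP
    have : y = x := Subtype.ext hyx
    rwa [← this]
  have := cj_le_sup_of_le_pPrimePCore hPH P' h1 hh
  rwa [hP'] at this

end sub

end Cfsg.Agent.Lib.Helper23
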