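import Cfsg.Agent.Lib.Helper23.Uniq91B
import Cfsg.Agent.Lib.Helper23.DihedralReduce
import Cfsg.Agent.Lib.Helper97.PRank

set_option autoImplicit false
set_option linter.style.haveILetI false
set_option linter.unusedSectionVars false

/-!
# Existence of `SCN_3`

A `p`-group of rank at least three (`p` odd) has a self-centralizing normal subgroup of rank at
least three.
-/

namespace Cfsg.Agent.Lib.Helper23

open Subgroup Cfsg Cfsg.Agent.Lib.Helper33 Cfsg.Agent.Lib.Helper24 Cfsg.Agent.Lib.Helper32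

universe u

section scn

variable {G : Type u} [Group G] [Finite G]

theorem le_normalizer_of_conj_mem {P W : Subgroup G}
    (h : ∀ f ∈ P, ∀ w ∈ W, f * w * f⁻¹ ∈ W) : P ≤ normalizer (W : Set G) := by
  intro f hf
  rw [mem_normalizer_iff]
  intro w
  constructor
  · exact h f hf w
  · intro hw
    have := h f⁻¹ (P.inv_mem hf) _ hw
    have e : f⁻¹ * (f * w * f⁻¹) * f⁻¹⁻¹ = w := by group
    rwa [e] at this

/-- In a nilpotent subgroup `P`, every abelian normal subgroup `E` of `P` lies in a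
self-centralizing normal subgroup of `P`. -/
theorem exists_scn_ge {P E : Subgroup G} (hPnil : Group.IsNilpotent ↥P) (hEP : E ≤ P)
    (hEc : ∀ x ∈ E, ∀ y ∈ E, x * y = y * x) (hPE : ∀ f ∈ P, ∀ w ∈ E, f * w * f⁻¹ ∈ E) :
    ∃ A : Subgroup G, IsSCN P A ∧ E ≤ A := by
  classical
  let 𝒲 : Set (Subgroup G) := {W | E ≤ W ∧ W ≤ P ∧ (∀ x ∈ W, ∀ y ∈ W, x * y = y * x) ∧
      (∀ f ∈ P, ∀ w ∈ W, f * w * f⁻¹ ∈ W)}
  have hne : 𝒲.Nonempty := ⟨E, le_rfl, hEP, hEc, hPE⟩
  obtain ⟨W, ⟨hEW, hWF, hWab, hWF'⟩, hmax⟩ := Set.Finite.exists_maximal (Set.toFinite 𝒲) hne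
  refine ⟨W, ⟨hWF, le_normalizer_of_conj_mem hWF', ?_⟩, hEW⟩
  apply le_antisymm
  swap
  · refine le_inf hWF ?_
    intro x hx
    rw [mem_centralizer_iff]
    intro y hy
    exact hWab y hy x hx
  rintro c ⟨hcF, hcC⟩
  have hcW : ∀ w ∈ W, c * w * c⁻¹ = w := by
    intro w hw
    have := (mem_centralizer_iff.mp hcC) w hw
    rw [← this]; group
  by_contra hcnW
  -- inverse centralizes too
  have hinvc : ∀ m : G, (∀ w ∈ W, m * w * m⁻¹ = w) → ∀ w ∈ W, m⁻¹ * w * m = w := by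
    intro m hm w hw
    calc m⁻¹ * w * m = m⁻¹ * (m * w * m⁻¹) * m := by rw [hm w hw]
      _ = w := by group
  -- nilpotency gives an element central modulo `W`
  obtain ⟨n, hn⟩ := (Subgroup.isNilpotent_iff_lowerCentralSeries P).mp hPnil
  have hP : ∃ n, ∀ m ∈ P.lowerCentralSeries n, (∀ w ∈ W, m * w * m⁻¹ = w) → m ∈ W := by
    refine ⟨n, ?_⟩
    rw [hn]
    intro m hm _
    rw [Subgroup.mem_bot] at hm
    rw [hm]; exact W.one_mem
  have h0 : Nat.find hP ≠ 0 := by
    intro h0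
    have h := Nat.find_spec hP
    rw [h0, Subgroup.lowerCentralSeries_zero] at h
    exact hcnW (h c hcF hcW)
  obtain ⟨n₁, hn₁⟩ := Nat.exists_eq_succ_of_ne_zero h0
  have hmin : ¬ ∀ m ∈ P.lowerCentralSeries n₁, (∀ w ∈ W, m * w * m⁻¹ = w) → m ∈ W :=
    Nat.find_min hP (by omega)
  have hsucc : ∀ m ∈ P.lowerCentralSeries (n₁ + 1), (∀ w ∈ W, m * w * m⁻¹ = w) → m ∈ W := by
    have h := Nat.find_spec hP
    rwa [hn₁] at h
  push Not at hmin
  obtain ⟨v, hvγ, hvcW, hvW⟩ := hmin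
  have hvF : v ∈ P := Subgroup.lowerCentralSeries_le_self P n₁ hvγ
  have hvc : ∀ f ∈ P, v * f * v⁻¹ * f⁻¹ ∈ W := by
    intro f hf
    apply hsucc
    · rw [Subgroup.lowerCentralSeries_succ, ← commutatorElement_def]
      exact Subgroup.commutator_mem_commutator hvγ hf
    · intro w hw
      have hw1 : f⁻¹ * w * f ∈ W := by
        have := hWF' f⁻¹ (P.inv_mem hf) w hw
        rwa [inv_inv] at this
      have h2 := hinvc v hvcW _ hw1
      calc v * f * v⁻¹ * f⁻¹ * w * (v * f * v⁻¹ * f⁻¹)⁻¹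
          = v * (f * (v⁻¹ * (f⁻¹ * w * f) * v) * f⁻¹) * v⁻¹ := by group
        _ = v * (f * (f⁻¹ * w * f) * f⁻¹) * v⁻¹ := by rw [h2]
        _ = v * w * v⁻¹ := by group
        _ = w := hvcW w hw
  have hvmem : v ∈ W ⊔ Subgroup.zpowers v :=
    Subgroup.mem_sup_right (Subgroup.mem_zpowers v)
  have hW'mem : W ⊔ Subgroup.zpowers v ∈ 𝒲 := by
    refine ⟨hEW.trans le_sup_left, sup_le hWF (Subgroup.zpowers_le.mpr hvF), ?_, ?_⟩
    · -- commutativity
      have hcl : W ⊔ Subgroup.zpowers v = Subgroup.closure ((W : Set G) ∪ {v}) := by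
        rw [Subgroup.closure_union, Subgroup.closure_eq, Subgroup.zpowers_eq_closure]
      have hle : Subgroup.closure ((W : Set G) ∪ {v})
          ≤ Subgroup.centralizer (Subgroup.closure ((W : Set G) ∪ {v}) : Set G) := by
        rw [Subgroup.centralizer_closure, Subgroup.closure_le]
        intro s hs
        rw [SetLike.mem_coe, Subgroup.mem_centralizer_iff]
        intro t ht
        have hvw : ∀ w ∈ W, v * w = w * v := fun w hw => by
          have := hvcW w hw
          rwa [mul_inv_eq_iff_eq_mul] at this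
        rcases hs with hs | hs <;> rcases ht with ht | ht
        · exact hWab t ht s hs
        · rw [Set.mem_singleton_iff] at ht
          rw [ht]; exact hvw s hs
        · rw [Set.mem_singleton_iff] at hs
          rw [hs]; exact (hvw t ht).symm
        · rw [Set.mem_singleton_iff] at hs ht
          rw [hs, ht]
      intro x hx y hy
      rw [hcl] at hx hy
      have := hle hx
      rw [Subgroup.mem_centralizer_iff] at this
      exact (this y hy).symm
    · intro f hf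
      apply conj_mem_sup_zpowers (hWF' f hf)
      have e : f * v * f⁻¹ = (v * f * v⁻¹ * f⁻¹)⁻¹ * v := by group
      rw [e]
      exact Subgroup.mul_mem _ (Subgroup.mem_sup_left (W.inv_mem (hvc f hf))) hvmem
  exact hvW (hmax hW'mem le_sup_left hvmem)

/-- **Existence of `SCN_3(P)`**: a `p`-subgroup `P` of rank at least three, `p` odd, has a
self-centralizing normal subgroup of rank at least three. -/
theorem exists_scn_three {p : ℕ} [Fact p.Prime] (hp2 : p ≠ 2) {P : Subgroup G}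
    (hP : IsPGroup p P) (hr : ¬ PRankLE p 2 ↥P) :
    ∃ A : Subgroup G, IsSCN P A ∧ ¬ PRankLE p 2 ↥A := by
  obtain ⟨M, hMn, hMc, hMe, hMcard⟩ :=
    Cfsg.Agent.Lib.Helper97.PRank.exists_normal_elemAb_card_cube hp2 hP hr
  have hEc : ∀ x ∈ M.map P.subtype, ∀ y ∈ M.map P.subtype, x * y = y * x := by
    rintro _ ⟨x, hx, rfl⟩ _ ⟨y, hy, rfl⟩
    have := hMc.is_comm.comm ⟨x, hx⟩ ⟨y, hy⟩
    have h2 : x * y = y * x := congrArg Subtype.val this
    rw [← map_mul, ← map_mul, h2]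
  have hEe : ∀ a ∈ M.map P.subtype, a ^ p = 1 := by
    rintro _ ⟨x, hx, rfl⟩
    rw [← map_pow, hMe x hx, map_one]
  have hPE : ∀ f ∈ P, ∀ w ∈ M.map P.subtype, f * w * f⁻¹ ∈ M.map P.subtype := by
    rintro f hf _ ⟨x, hx, rfl⟩
    exact ⟨⟨f, hf⟩ * x * ⟨f, hf⟩⁻¹, hMn.conj_mem x hx ⟨f, hf⟩, rfl⟩
  have hEcard : Nat.card (M.map P.subtype) = p ^ 3 := by
    rw [Subgroup.card_map_of_injective P.subtype_injective, hMcard]
  obtain ⟨A, hA, hEA⟩ := exists_scn_ge hP.isNilpotent (Subgroup.map_subtype_le M) hEc hPE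
  exact ⟨A, hA, not_pRankLE_two_of_elemAb hEA hEc hEe hEcard.ge⟩

end scn

end Cfsg.Agent.Lib.Helper23
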