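import Cfsg.Agent.Lib.Helper23.Uniq91C
import Cfsg.Agent.Lib.Helper23.TransOver
import Cfsg.Agent.S1393
import Cfsg.Agent.S1395
import Cfsg.Agent.S1396

set_option autoImplicit false
set_option linter.style.haveILetI false
set_option linter.unusedSectionVars false

/-!
# A Sylow `p`-subgroup all of whose invariant `p'`-subgroups lie in `O_{p'}(M)`

Let `M` be a maximal subgroup of the minimal simple group `G` of odd order and `P` a nontrivial Sylow
`p`-subgroup of `M` such that every `P`-invariant `p'`-subgroup of `G` lies in `O_{p'}(M)`.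
Then `M` is the only maximal subgroup of `G` containing `P`.
-/

namespace Cfsg.Agent.Lib.Helper23

open Subgroup Cfsg Cfsg.Agent.Lib.Helper33 Cfsg.Agent.Lib.Helper24 Cfsg.Agent.Lib.Helper32

universe u

variable {G : Type u} [Group G] [Finite G]

/-- Let `K = O_{p'}(M) ≠ 1` for the maximal subgroup `M`, and let `A` be a subgroup all of whose
invariant `p'`-subgroups lie in `K`. If a conjugate `g A g⁻¹` lies in `M` then `g ∈ M`. -/
theorem mem_of_cj_le (hG : IsMinSimpleOddOrder G) {M : Subgroup G} (hM : IsCoatom M) {p : ℕ}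
    (hK0 : pPrimeCoreOf p M ≠ ⊥) {A : Subgroup G}
    (hAinv : ∀ Y : Subgroup G, (Nat.card Y).Coprime p → A ≤ normalizer (Y : Set G) →
      Y ≤ pPrimeCoreOf p M) {g : G} (hg : cj g A ≤ M) : g ∈ M := by
  have hKM : pPrimeCoreOf p M ≤ M := pPrimeCoreOf_le p M
  have hMK : M ≤ normalizer ((pPrimeCoreOf p M : Subgroup G) : Set G) :=
    le_normalizer_pPrimeCoreOf p M
  have hN : normalizer ((pPrimeCoreOf p M : Subgroup G) : Set G) = M :=
    normalizer_eq_of_isCoatom hG hM hK0 hKM hMK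
  have h1 : A ≤ normalizer ((cj g⁻¹ (pPrimeCoreOf p M) : Subgroup G) : Set G) := by
    rw [normalizer_cj, ← cj_le_iff]
    exact hg.trans hMK
  have h2 : cj g⁻¹ (pPrimeCoreOf p M) ≤ pPrimeCoreOf p M := by
    apply hAinv _ _ h1
    rw [card_cj]
    exact card_pPrimeCoreOf_coprime p M
  have h3 : cj g⁻¹ (pPrimeCoreOf p M) = pPrimeCoreOf p M := by
    apply Subgroup.eq_of_le_of_card_ge h2
    rw [card_cj]
  have h4 : g⁻¹ ∈ normalizer ((pPrimeCoreOf p M : Subgroup G) : Set G) := cj_eq_self_iff.mp h3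
  rw [hN] at h4
  simpa using M.inv_mem h4

/-- the standing hypotheses -/
structure SylUCtx (M P : Subgroup G) (p : ℕ) : Prop where
  hG : IsMinSimpleOddOrder G
  hM : IsCoatom M
  hPM : P ≤ M
  hP : IsPGroup p P
  hPi : ¬ p ∣ P.relIndex M
  hP0 : P ≠ ⊥
  hinv : ∀ Y : Subgroup G, (Nat.card Y).Coprime p → P ≤ normalizer (Y : Set G) →
    Y ≤ pPrimeCoreOf p M

namespace SylUCtx

variable {M P : Subgroup G} {p : ℕ} [Fact p.Prime] (c : SylUCtx M P p)

include c

theorem hpP : p ∣ Nat.card P := by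
  obtain ⟨k, hk⟩ := IsPGroup.iff_card.mp c.hP
  have hk0 : k ≠ 0 := by
    rintro rfl
    rw [pow_zero] at hk
    exact c.hP0 (Subgroup.card_eq_one.mp hk)
  rw [hk]
  exact dvd_pow_self p hk0

theorem hp2 : p ≠ 2 := ne_two_of_dvd_card_subgroup c.hG c.hpP

theorem hMs : Group.IsSolvable ↥M := isSolvable_of_ne_top c.hG c.hM.1

theorem normalizer_le : normalizer (P : Set G) ≤ M := by
  by_cases hK0 : pPrimeCoreOf p M = ⊥
  · exact normalizer_le_of_sylowIn c.hG c.hp2 c.hM hK0 c.hPM c.hP c.hPi c.hP0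
  · intro g hg
    apply mem_of_cj_le c.hG c.hM hK0 c.hinv
    rw [cj_eq_self_iff.mpr hg]
    exact c.hPM

theorem not_dvd_index : ¬ p ∣ P.index :=
  not_dvd_index_of_normalizer_le c.hPM c.hP c.hPi c.normalizer_le

/-- for `A ∈ SCN_3(P)`, every `A`-invariant `p'`-subgroup of `G` lies in `O_{p'}(M)` -/
theorem scn_inv_le {A : Subgroup G} (hA : IsSCN P A) (hA3 : ¬ PRankLE p 2 ↥A) :
    ∀ Y : Subgroup G, (Nat.card Y).Coprime p → A ≤ normalizer (Y : Set G) →
      Y ≤ pPrimeCoreOf p M := by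
  have hpp : p.Prime := Fact.out
  haveI := c.hG.2.1
  have hidx := c.not_dvd_index
  have hAp : IsPGroup p A := c.hP.to_le hA.1
  have hAc : A ≤ centralizer (A : Set G) := by
    intro x hx
    have : x ∈ P ⊓ centralizer (A : Set G) := by rw [hA.2.2]; exact hx
    exact this.2
  have hAcomm : IsMulCommutative ↥A :=
    ⟨⟨fun a b => Subtype.ext ((mem_centralizer_iff.mp (hAc b.2)) a a.2)⟩⟩
  have hpG : p ∣ Nat.card G := c.hpP.trans (Subgroup.card_subgroup_dvd_card _)
  have hA1 : ¬ PRankLE p 1 ↥A := fun h => hA3 (pRankLE_mono hpp.pos (by norm_num) h)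
  have hTrans : TransitivityHypothesis A := by
    apply Cfsg.Agent.S1396.result c.hG p hpG A hAp hAcomm
    refine Or.inr ⟨c.hP.toSylow hidx, ?_, hA1⟩
    rw [IsPGroup.toSylow_coe]
    exact hA
  have hrank : ¬ RankLE 2 ↥(A ⊓ centralizer (A : Set G)) :=
    not_rankLE_two_of_not_pRankLE (le_inf le_rfl hAc) hA3
  have hA0 : A ≠ ⊥ := hTrans.1
  have hpA : p ∣ Nat.card A := by
    obtain ⟨k, hk⟩ := IsPGroup.iff_card.mp hAp
    have hk0 : k ≠ 0 := by
      rintro rfl
      rw [pow_zero] at hk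
      exact hA0 (Subgroup.card_eq_one.mp hk)
    rw [hk]
    exact dvd_pow_self p hk0
  have hcardA : ∀ r : ℕ, r.Prime → r ∣ Nat.card A → r = p := by
    intro r hr hrA
    obtain ⟨k, hk⟩ := IsPGroup.iff_card.mp hAp
    rw [hk] at hrA
    exact (Nat.prime_dvd_prime_iff_eq hr hpp).mp (hr.dvd_of_dvd_pow hrA)
  -- `O_{p'}(C_G(A)) ≤ K`
  obtain ⟨C, hC⟩ : ∃ C, C = piCoreOf (primesNotDvd (Nat.card A)) (centralizer (A : Set G)) :=
    ⟨_, rfl⟩
  have hCcop : (Nat.card C).Coprime p := by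
    apply Nat.Coprime.symm
    rw [Nat.Prime.coprime_iff_not_dvd hpp]
    intro hd
    have := (hC ▸ isPi_piCoreOf (primesNotDvd (Nat.card A)) (centralizer (A : Set G))) p hpp hd
    exact this.2 hpA
  have hPC : P ≤ normalizer (C : Set G) :=
    (le_normalizer_centralizer' hA.2.1).trans (hC ▸ normalizer_le_normalizer_piCoreOf _ _)
  have hCK : C ≤ pPrimeCoreOf p M := c.hinv C hCcop hPC
  have hPtop : P ≠ ⊤ := fun h => c.hM.1 (top_le_iff.mp (h ▸ c.hPM))
  have hPπ : ∀ r : ℕ, r.Prime → r ∣ Nat.card P → r ∣ Nat.card A := by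
    intro r hr hrP
    obtain ⟨k, hk⟩ := IsPGroup.iff_card.mp c.hP
    rw [hk] at hrP
    have : r = p := (Nat.prime_dvd_prime_iff_eq hr hpp).mp (hr.dvd_of_dvd_pow hrP)
    rw [this]; exact hpA
  have hsn : (A.subgroupOf P).IsSubnormal :=
    Subgroup.Normal.isSubnormal (Subgroup.normal_subgroupOf_of_le_normalizer hA.2.1)
  have hprime : ∀ q : ℕ, q.Prime → ¬ q ∣ Nat.card A → ∀ Q : Subgroup G,
      IsPGroup q Q → A ≤ normalizer (Q : Set G) → Q ≤ pPrimeCoreOf p M := by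
    intro q hq hqA Q hQ hAQ
    haveI : Fact q.Prime := ⟨hq⟩
    have hqp : q ≠ p := fun h => hqA (h ▸ hpA)
    have hconj := Cfsg.Agent.S1393.result c.hG A hTrans hrank q hq hqA
    have hOA : OverTrans A A q := ⟨hconj, fun _ h => h⟩
    have hOP := OverTrans.of_isSubnormal c.hG hTrans hq hqA hPtop hPπ hA.1 hsn hOA
    have hbot : (⊥ : Subgroup G) ∈ invSubgroups ⊤ P {q} := by
      apply mem_invSubgroups_of_isPGroup hq IsPGroup.of_bot
      intro x _
      rw [mem_normalizer_iff]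
      intro y
      simp only [mem_bot]
      constructor
      · rintro rfl; group
      · intro h
        have : y = x⁻¹ * (x * y * x⁻¹) * x := by group
        rw [this, h]; group
    obtain ⟨Q₀, hQ₀, -⟩ := exists_maxInv_ge hbot
    have hQ₀A : Q₀ ∈ maxInvSubgroups ⊤ A {q} := hOP.2 hQ₀
    have hQ₀q : IsPGroup q Q₀ := isPGroup_of_mem_invSubgroups hq hQ₀.1
    have hQ₀K : Q₀ ≤ pPrimeCoreOf p M := by
      apply c.hinv Q₀ _ hQ₀.1.2.2
      obtain ⟨k, hk⟩ := IsPGroup.iff_card.mp hQ₀q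
      rw [hk]
      apply Nat.Coprime.pow_left
      exact (Nat.coprime_primes hq hpp).mpr hqp
    obtain ⟨Q₁, hQ₁, hQQ₁⟩ := exists_maxInv_ge (mem_invSubgroups_of_isPGroup hq hQ hAQ)
    obtain ⟨k, hk, hkQ⟩ := hconj Q₀ hQ₀A Q₁ hQ₁
    have hkK : k ∈ pPrimeCoreOf p M := hCK (hC ▸ hk)
    intro x hx
    have hx1 := hQQ₁ hx
    rw [hkQ] at hx1
    obtain ⟨y, hy, rfl⟩ := hx1
    simp only [MulEquiv.coe_toMonoidHom, MulAut.conj_apply]
    exact (pPrimeCoreOf p M).mul_mem ((pPrimeCoreOf p M).mul_mem hkK (hQ₀K hy))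
      ((pPrimeCoreOf p M).inv_mem hkK)
  have hAs : Group.IsSolvable ↥A := isSolvable_of_ne_top c.hG hTrans.2.1
  intro Y hY hAY
  apply invSubgroups_le_of_prime dvd_rfl hAs hprime
  refine ⟨le_top, ?_, hAY⟩
  intro r hr hrY
  refine ⟨hr, fun hrA => ?_⟩
  have hrp := hcardA r hr hrA
  rw [hrp] at hrY
  have h2 : p ∣ Nat.gcd (Nat.card Y) p := Nat.dvd_gcd hrY dvd_rfl
  rw [hY.gcd_eq_one] at h2
  exact hpp.one_lt.ne' (Nat.dvd_one.mp h2)

/-- **`M` is the only maximal subgroup containing `P`.** -/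
theorem eq_of_le : ∀ H : Subgroup G, IsCoatom H → P ≤ H → H = M := by
  intro H hH hPH
  have hpp : p.Prime := Fact.out
  have hPiH : ¬ p ∣ P.relIndex H := fun h =>
    c.not_dvd_index (h.trans (Subgroup.relIndex_dvd_index_of_le hPH))
  have hHs : Group.IsSolvable ↥H := isSolvable_of_ne_top c.hG hH.1
  have hodd : Odd (Nat.card ↥H) := odd_card_subgroup c.hG H
  have hKH : pPrimeCoreOf p H ≤ pPrimeCoreOf p M :=
    c.hinv _ (card_pPrimeCoreOf_coprime p H) (hPH.trans (le_normalizer_pPrimeCoreOf p H))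
  by_cases hK0 : pPrimeCoreOf p M = ⊥
  · have hKH0 : pPrimeCoreOf p H = ⊥ := le_bot_iff.mp (hK0 ▸ hKH)
    have h1 := normalizer_centerThompsonAOf_eq c.hG c.hp2 hH hKH0 hPH c.hP hPiH c.hP0
    have h2 := normalizer_centerThompsonAOf_eq c.hG c.hp2 c.hM hK0 c.hPM c.hP c.hPi c.hP0
    rw [← h1, h2]
  · have hsup : pPrimeCoreOf p H ⊔ P ≤ M :=
      sup_le (hKH.trans (pPrimeCoreOf_le p M)) c.hPM
    have hHM : H ≤ M := by
      by_cases hr : PRankLE p 2 ↥P
      · intro h hh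
        apply mem_of_cj_le c.hG c.hM hK0 c.hinv
        exact (cj_le_of_rank_two hHs hodd hPH c.hP hPiH hr hh).trans hsup
      · obtain ⟨A, hA, hA3⟩ := exists_scn_three c.hp2 c.hP hr
        have hAc : ∀ x ∈ A, ∀ y ∈ A, x * y = y * x := by
          intro x hx y hy
          have : y ∈ P ⊓ centralizer (A : Set G) := by rw [hA.2.2]; exact hy
          exact (mem_centralizer_iff.mp this.2) x hx
        intro h hh
        apply mem_of_cj_le c.hG c.hM hK0 (c.scn_inv_le hA hA3)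
        exact (cj_le_of_abelian_normal c.hp2 hHs hodd hPH c.hP hPiH hA.1 hAc hA.2.1 hh).trans hsup
    by_contra hne
    exact c.hM.1 (hH.2 M (lt_of_le_of_ne hHM hne))

end SylUCtx

end Cfsg.Agent.Lib.Helper23
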